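import Groth.Agent.TFOne.K77.Add
import Groth.Agent.VarietyA.DegRank
import Groth.Agent.VarietyB.ProjForm
import Groth.Agent.CurvesA.HHMap
import Groth.Agent.CurvesC.DegIso
import Groth.Agent.CurvesB.TriT208C
import Groth.Agent.CohqA.AffPush
import Groth.Agent.Ega1.ReducedSub

/-!
# `χ(E ⊗ -)` and the invariant `rBeta` on a reduced curve

`Psi k E M = χ(E ⊗ M)` for `E` locally free of rank `r`.  It is additive, equals `r χ(M)` on modules with zero
generic stalks, and `rBeta(Z, E, G) = Psi k E G` if `G` has generic rank one on `Z` and zero outside.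
-/

set_option autoImplicit false
universe u
open CategoryTheory CategoryTheory.Limits AlgebraicGeometry Opposite TopologicalSpace

namespace K77.TF

open Groth.Agent.CycB.StalkExact Groth.Agent.CurvesB Groth.Agent.CurvesB.SubH1
  Groth.Agent.CurvesB.GenStalk Groth.Agent.VarietyA.StalkCrit Groth.Agent.Fga.ChiBasic
  Groth.Agent.Sga67.CohBasic

section Sub

variable (X : Scheme.{u}) (Z : Set X) (hZ : IsClosed Z)

theorem range_subschι : Set.range (VecSt.subschι X Z hZ) = Z := by
  erw [Scheme.IdealSheafData.range_subschemeι]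
  rw [Scheme.IdealSheafData.coe_support_vanishingIdeal]
  rfl

theorem isReduced_subsch : IsReduced (VecSt.subsch X Z hZ) :=
  Groth.Agent.Ega1.ReducedSub.isReduced_subscheme_vanishingIdeal _

/-- The direct image of the structure sheaf of the reduced subscheme on `Z`. -/
noncomputable abbrev OZ : X.Modules :=
  (Scheme.Modules.pushforward (VecSt.subschι X Z hZ)).obj (Coh.structureModule (VecSt.subsch X Z hZ))

variable {X} in
theorem isCoh_push (X : Scheme.{u}) {Y : Scheme.{u}} (i : Y ⟶ X) [IsClosedImmersion i] {M : Y.Modules} (h : Coh.IsCoh M) :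
    Coh.IsCoh ((Scheme.Modules.pushforward i).obj M) :=
  ⟨Groth.Agent.CohqA.AffPush.isQCoh_push i _ h.1, Groth.Agent.CohqA.AffPush.isFT_push i _ h.1 h.2⟩

theorem isCoh_OZ : Coh.IsCoh (OZ X Z hZ) :=
  isCoh_push X _ (Groth.Agent.Fdesc.StructMod.isCoh_structureModule _)

theorem subsingleton_OZ {x : X} (h : x ∉ Z) : Subsingleton ((OZ X Z hZ).presheaf.stalk x) :=
  SubClosed.subsingleton_stalk_push _ _ x (by rw [range_subschι]; exact h)

theorem length_self_of_isGen [IsReduced X] {ξ : X} (hξ : IsGen ξ) :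
    Module.length (X.presheaf.stalk ξ) (X.presheaf.stalk ξ) = 1 := by
  let := (isField_stalk ξ hξ).toField
  rw [Module.length_eq_one_iff]
  infer_instance

theorem length_OZ [IsReduced X] {ξ : X} (hξ : IsGen ξ) (h : ξ ∈ Z) :
    Module.length (X.presheaf.stalk ξ) ((OZ X Z hZ).presheaf.stalk ξ) = 1 := by
  let i := VecSt.subschι X Z hZ
  have hb := SubClosed.stalkLin_unit_bijective_of_isGen i (Coh.structureModule X) ξ hξ
    (by rw [range_subschι]; exact h)
  let e₁ := Groth.Agent.Fdesc.StructMod.stalkEquiv ξ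
  let e₂ := LinearEquiv.ofBijective _ hb
  let e₃ := stalkLinEquiv ((Scheme.Modules.pushforward i).mapIso (Groth.Agent.CurvesA.HHMap.pullbackUnit i)) ξ
  rw [← ((e₁.trans e₂).trans e₃).length_eq, length_self_of_isGen X hξ]

end Sub

section Psi

variable (k : Type u) [Field k] {X : Scheme.{u}} [X.Over (Spec (CommRingCat.of k))]

/-- `χ(E ⊗ M)`. -/
noncomputable def Psi (E M : X.Modules) : ℤ := Curv2.euler k X (CohB1.tensorMod E M)

theorem Psi_iso (E : X.Modules) {M N : X.Modules} (e : M ≅ N) : Psi k E M = Psi k E N :=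
  Groth.Agent.VarietyA.DegRank.euler_iso k ((DCoh.tensorBi.obj E).mapIso e)

variable [IsProper (X ↘ Spec (CommRingCat.of k))]

theorem isAdd_euler : IsAdd (fun M : X.Modules => Curv2.euler k X M) :=
  fun S hS h1 h2 h3 => Groth.Agent.S1524.result k X S hS h1 h2 h3

variable {r : ℕ} {E : X.Modules} (hE : FlatMod.IsFinLocFreeOfRank r E)
include hE

theorem isAdd_Psi : IsAdd (fun M : X.Modules => Psi k E M) :=
  fun S hS h1 h2 h3 => Groth.Agent.VarietyA.DegRank.euler_tensor_add k r E hE S hS h1 h2 h3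

theorem Psi_small (hdim : topologicalKrullDim X ≤ 1) {M : X.Modules} (hM : Coh.IsCoh M) (hs : IsSmall M) :
    Psi k E M = r * Curv2.euler k X M := by
  have : IsNoetherian X := Groth.Agent.Fga.SnapperTwist.isNoetherian_of_proper k X
  exact Groth.Agent.VarietyA.EulerFinite.euler_tensor_of_support k X M hM
    (topologicalKrullDim_support_le hdim M (Groth.Agent.VarietyA.GlobGen.isClosed_support M hM.2) hs) r E hE _
    (Iso.refl _)

theorem isAdd_D : IsAdd (fun M : X.Modules => Psi k E M - r * Curv2.euler k X M) := by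
  intro S hS h1 h2 h3
  have e1 := isAdd_Psi k hE S hS h1 h2 h3
  have e2 := isAdd_euler k S hS h1 h2 h3
  simp only at e1 e2 ⊢
  rw [e1, e2]
  ring

/-- `Ψ - r χ` only depends on the generic lengths. -/
theorem D_eq [IsReduced X] (hdim : topologicalKrullDim X ≤ 1) {M N : X.Modules} (hM : Coh.IsCoh M)
    (hN : Coh.IsCoh N) (h : ∀ ξ : X, IsGen ξ → Module.length (X.presheaf.stalk ξ) (M.presheaf.stalk ξ) =
      Module.length (X.presheaf.stalk ξ) (N.presheaf.stalk ξ)) :
    Psi k E M - r * Curv2.euler k X M = Psi k E N - r * Curv2.euler k X N := by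
  have : IsNoetherian X := Groth.Agent.Fga.SnapperTwist.isNoetherian_of_proper k X
  exact eq_of_gen (isAdd_D k hE) (fun M hM hs => by rw [Psi_small k hE hdim hM hs, sub_self]) hM hN h

omit [IsProper (X ↘ Spec (CommRingCat.of k))] in
theorem deg_subsch (Z : Set X) (hZ : IsClosed Z) :
    letI : (VecSt.subsch X Z hZ).Over (Spec (CommRingCat.of k)) :=
      ⟨VecSt.subschι X Z hZ ≫ (X ↘ Spec (CommRingCat.of k))⟩
    Curv2.deg k (VecSt.subsch X Z hZ) ((Scheme.Modules.pullback (VecSt.subschι X Z hZ)).obj E) r =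
      Psi k E (OZ X Z hZ) - r * Curv2.euler k X (OZ X Z hZ) := by
  letI : (VecSt.subsch X Z hZ).Over (Spec (CommRingCat.of k)) :=
      ⟨VecSt.subschι X Z hZ ≫ (X ↘ Spec (CommRingCat.of k))⟩
  unfold Curv2.deg
  rw [← Groth.Agent.CurvesC.DegIso.euler_push k (VecSt.subschι X Z hZ) rfl,
    ← Groth.Agent.CurvesC.DegIso.euler_push k (VecSt.subschι X Z hZ) rfl (Coh.structureModule _)]
  congr 1
  exact (Groth.Agent.CurvesC.DegIso.euler_congr k
    (Groth.Agent.VarietyB.ProjForm.projIsoUnit _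
      (Groth.Agent.VarietyB.TensCoh.HasBases.of_isFinLocFreeOfRank hE))).symm

/-- `rBeta` is `χ(E ⊗ G)` for `G` of generic rank one on `Z` and zero elsewhere. -/
theorem rBeta_eq_Psi [IsReduced X] (hdim : topologicalKrullDim X ≤ 1) {Z : Set X} (hZ : IsClosed Z)
    {G : X.Modules} (hG : Coh.IsCoh G)
    (h1 : ∀ ξ : X, IsGen ξ → ξ ∈ Z → Module.length (X.presheaf.stalk ξ) (G.presheaf.stalk ξ) = 1)
    (h0 : ∀ ξ : X, IsGen ξ → ξ ∉ Z → Subsingleton (G.presheaf.stalk ξ)) :
    TFOne.rBeta X k (X ↘ Spec (CommRingCat.of k)) Z hZ E r G = Psi k E G := by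
  have e1 := deg_subsch k hE Z hZ
  have e2 := D_eq k hE hdim hG (isCoh_OZ X Z hZ) fun ξ hξ => by
    by_cases hh : ξ ∈ Z
    · rw [h1 ξ hξ hh, length_OZ X Z hZ hξ hh]
    · have := h0 ξ hξ hh
      have := subsingleton_OZ X Z hZ hh
      rw [Module.length_eq_zero_iff.2 inferInstance, Module.length_eq_zero_iff.2 inferInstance]
  have e3 : TFOne.rBeta X k (X ↘ Spec (CommRingCat.of k)) Z hZ E r G =
      r * Curv2.euler k X G + (Psi k E (OZ X Z hZ) - r * Curv2.euler k X (OZ X Z hZ)) := by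
    rw [← e1]
    rfl
  rw [e3, ← e2]
  ring

end Psi

end K77.TF
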