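import Groth.Prelude.Def_TFOne
import Groth.Agent.CurvesB.SubClosed
import Groth.Agent.CycB.CohStalk
import Groth.Agent.CycB.LocQuot
import Groth.Agent.Fdesc.GenTop

/-!
# Torsion-free modules on a reduced scheme, through the generic stalks

`StTF F`: a germ of `F` at `x` vanishing at all generic points specializing to `x` vanishes.
On a reduced locally Noetherian scheme and for quasi-coherent `F` this is `TorSh.IsTorsionFree F`.
-/

set_option autoImplicit false
universe u
open CategoryTheory CategoryTheory.Limits AlgebraicGeometry Opposite TopologicalSpace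

namespace K77.TF

open Groth.Agent.CycB.StalkExact Groth.Agent.CurvesB Groth.Agent.CurvesB.SubH1
  Groth.Agent.CurvesB.GenStalk Groth.Agent.CycB.LocQuot

variable {X : Scheme.{u}}

theorem isGen_iff (ξ : X) : IsGen ξ ↔ ξ ∈ genericPoints X :=
  (Groth.Agent.Fdesc.GenTop.mem_genericPoints_iff).symm

/-- Naturality of specialization. -/
theorem stalkLin_spec {F G : X.Modules} (φ : F ⟶ G) {x y : X} (h : x ⤳ y) (m : F.presheaf.stalk y) :
    stalkLin φ x (F.presheaf.stalkSpecializes h m) = G.presheaf.stalkSpecializes h (stalkLin φ y m) := by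
  obtain ⟨U, hyU, s, rfl⟩ := F.presheaf.exists_germ_eq m
  have hxU : x ∈ U := h.mem_open U.isOpen hyU
  have h1 : F.presheaf.stalkSpecializes h (F.presheaf.germ U y hyU s) = F.presheaf.germ U x hxU s :=
    TopCat.Presheaf.germ_stalkSpecializes_apply F.presheaf hyU h s
  have h2 : G.presheaf.stalkSpecializes h (G.presheaf.germ U y hyU (φ.app U s)) =
      G.presheaf.germ U x hxU (φ.app U s) :=
    TopCat.Presheaf.germ_stalkSpecializes_apply G.presheaf hyU h (φ.app U s)
  rw [h1, stalkLin_germ, stalkLin_germ, h2]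

theorem spec_germ (F : X.Modules) {x ξ : X} (h : ξ ⤳ x) {U : X.Opens} (hx : x ∈ U) (hξ : ξ ∈ U)
    (s : Γ(F, U)) : F.presheaf.stalkSpecializes h (F.presheaf.germ U x hx s) = F.presheaf.germ U ξ hξ s :=
  TopCat.Presheaf.germ_stalkSpecializes_apply F.presheaf hx h s

theorem spec_spec (F : X.Modules) {x y z : X} (h : x ⤳ y) (h' : y ⤳ z) (m : F.presheaf.stalk z) :
    F.presheaf.stalkSpecializes h (F.presheaf.stalkSpecializes h' m) =
      F.presheaf.stalkSpecializes (h.trans h') m := by
  obtain ⟨U, hzU, s, rfl⟩ := F.presheaf.exists_germ_eq m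
  have hyU : y ∈ U := h'.mem_open U.isOpen hzU
  have hxU : x ∈ U := h.mem_open U.isOpen hyU
  rw [spec_germ F h' hzU hyU, spec_germ F h hyU hxU, spec_germ F (h.trans h') hzU hxU]

theorem spec_refl (F : X.Modules) {x : X} (h : x ⤳ x) (m : F.presheaf.stalk x) :
    F.presheaf.stalkSpecializes h m = m := by
  obtain ⟨U, hU, s, rfl⟩ := F.presheaf.exists_germ_eq m
  rw [spec_germ F h hU hU]

/-- A germ vanishing at all generic points specializing to its base point vanishes. -/
def StTF (F : X.Modules) : Prop :=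
  ∀ (x : X) (s : F.presheaf.stalk x),
    (∀ (ξ : X) (h : ξ ⤳ x), IsGen ξ → F.presheaf.stalkSpecializes h s = 0) → s = 0

theorem StTF.torsionFree {F : X.Modules} (hF : StTF F) : TorsionFree F := by
  intro U s hs
  refine Groth.Agent.VarietyA.FiniteSupport.section_eq F s 0 fun x hx => ?_
  rw [map_zero]
  refine hF x _ fun ξ h hξ => ?_
  rw [spec_germ F h hx (h.mem_open U.isOpen hx)]
  exact hs ξ _ hξ

theorem StTF.of_mono {F G : X.Modules} (f : F ⟶ G) [Mono f] (hG : StTF G) : StTF F := by
  intro x s hs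
  apply stalkLin_injective f x
  rw [map_zero]
  refine hG x _ fun ξ h hξ => ?_
  rw [← stalkLin_spec, hs ξ h hξ, map_zero]

theorem StTF.of_iso {F G : X.Modules} (e : F ≅ G) (hF : StTF F) : StTF G := StTF.of_mono e.inv hF

/-- A map into a torsion-free module which vanishes at all generic points vanishes. -/
theorem StTF.hom_eq_zero {F G : X.Modules} (hG : StTF G) (f : F ⟶ G)
    (h : ∀ ξ : X, IsGen ξ → stalkLin f ξ = 0) : f = 0 := hG.torsionFree.hom_eq_zero f h

theorem StTF.isZero {F : X.Modules} (hF : StTF F) (h : IsSmall F) : IsZero F := by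
  refine (Groth.Agent.VarietyA.StalkCrit.isZero_iff_stalks F).2 fun x => ?_
  refine ⟨fun a b => sub_eq_zero.1 (hF x _ fun ξ hξx hξ => ?_)⟩
  exact (h ξ hξ).elim _ _

/-- A map out of a torsion-free module which is injective at all generic points is mono. -/
theorem StTF.mono {F G : X.Modules} (hF : StTF F) (f : F ⟶ G)
    (h : ∀ ξ : X, IsGen ξ → Function.Injective (stalkLin f ξ)) : Mono f := by
  refine Groth.Agent.VarietyA.StalkCrit.mono_of_stalks f fun x => ?_
  rw [injective_iff_map_eq_zero]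
  intro s hs
  refine hF x s fun ξ hx hξ => ?_
  apply h ξ hξ
  rw [map_zero, stalkLin_spec, hs, map_zero]

theorem StTF.extension {S : ShortComplex X.Modules} (hS : S.ShortExact) (h₁ : StTF S.X₁)
    (h₃ : StTF S.X₃) : StTF S.X₂ := by
  intro x s hs
  have hm := hS.mono_f
  have h4 : stalkLin S.g x s = 0 := h₃ x _ fun ξ h hξ => by
    rw [← stalkLin_spec, hs ξ h hξ, map_zero]
  obtain ⟨t, rfl⟩ := (stalkLin_exact S hS.exact x s).1 h4
  have h5 : t = 0 := h₁ x _ fun ξ h hξ => by
    apply stalkLin_injective S.f ξ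
    rw [map_zero, stalkLin_spec]
    exact hs ξ h hξ
  rw [h5, map_zero]

/-- A unit at every generic point. -/
theorem isUnit_spec_of_regular [IsReduced X] {x ξ : X} (h : ξ ⤳ x) (hξ : IsGen ξ)
    (a : X.presheaf.stalk x) (ha : a ∈ nonZeroDivisors (X.presheaf.stalk x)) :
    IsUnit ((X.presheaf.stalkSpecializes h).hom a) := by
  have hmin : (primeOf h).asIdeal ∈ minimalPrimes (X.presheaf.stalk x) := by
    refine ⟨⟨(primeOf h).2, bot_le⟩, fun q hq hle => ?_⟩
    let Q : PrimeSpectrum (X.presheaf.stalk x) := ⟨q, hq.1⟩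
    have h1 : primeOf (ptOf_specializes Q) ≤ primeOf h := by
      rw [primeOf_ptOf]; exact hle
    rw [primeOf_le_iff] at h1
    have h2 : ptOf Q = ξ := hξ _ h1
    have h3 : Q = primeOf h := by
      rw [← primeOf_ptOf Q, primeOf_inj]; exact h2
    have h4 : q = (primeOf h).asIdeal := congrArg PrimeSpectrum.asIdeal h3
    exact h4.ge
  have h1 : a ∉ (primeOf h).asIdeal := by
    intro hmem
    exact Set.disjoint_left.1 (Ideal.disjoint_nonZeroDivisors_of_mem_minimalPrimes hmin) hmem ha
  by_contra hc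
  apply h1
  rw [primeOf_asIdeal]
  exact (mem_ker_specMap_iff h a).mpr hc

theorem StTF.isTorsionFree [IsReduced X] {F : X.Modules} (hF : StTF F) : TorSh.IsTorsionFree F := by
  intro x
  refine ⟨fun a ha => ?_⟩
  have hreg : a ∈ nonZeroDivisors (X.presheaf.stalk x) := isRegular_iff_mem_nonZeroDivisors.mp ha
  intro m m' hm
  refine sub_eq_zero.1 (hF x _ fun ξ h hξ => ?_)
  have h0 : a • (m - m') = 0 := by rw [smul_sub]; exact sub_eq_zero.2 hm
  have h1 : F.presheaf.stalkSpecializes h (a • (m - m')) =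
      (X.presheaf.stalkSpecializes h).hom a • F.presheaf.stalkSpecializes h (m - m') :=
    Groth.Agent.CycB.ModStalk.stalkSpecializes_smul h a _
  rw [h0, map_zero] at h1
  exact ((isUnit_spec_of_regular h hξ a hreg).smul_eq_zero).1 h1.symm

theorem isGen_ptOf {x : X} (Q : PrimeSpectrum (X.presheaf.stalk x))
    (hQ : Q.asIdeal ∈ minimalPrimes (X.presheaf.stalk x)) : IsGen (ptOf Q) := by
  intro y hy
  have hyx : y ⤳ x := hy.trans (ptOf_specializes Q)
  have h1 : primeOf hyx ≤ Q := by
    rw [← primeOf_ptOf Q, primeOf_le_iff]; exact hy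
  have h2 : Q ≤ primeOf hyx := hQ.2 ⟨(primeOf hyx).2, bot_le⟩ h1
  have h3 : primeOf hyx = Q := le_antisymm h1 h2
  rw [← h3, ptOf_primeOf]

/-- On a reduced locally Noetherian scheme a quasi-coherent torsion-free module is torsion-free in the sense of
generic stalks. -/
theorem stTF_of_isTorsionFree [IsReduced X] [IsLocallyNoetherian X] {F : X.Modules} (hq : Coh.IsQCoh F)
    (hF : TorSh.IsTorsionFree F) : StTF F := by
  intro x s hs
  have hN : IsNoetherianRing (X.presheaf.stalk x) := inferInstance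
  let J : Ideal (X.presheaf.stalk x) := Ideal.torsionOf (X.presheaf.stalk x) _ s
  have hfin : (minimalPrimes (X.presheaf.stalk x)).Finite := Ideal.finite_minimalPrimes_of_isNoetherianRing _ ⊥
  have key : ¬ ((J : Set (X.presheaf.stalk x)) ⊆ ⋃ P ∈ minimalPrimes (X.presheaf.stalk x), (P : Set (X.presheaf.stalk x))) := by
    intro hc
    have h1 := (Ideal.subset_union_prime_finite hfin (f := id) ⊥ ⊥ (fun P hP _ _ => hP.1.1)).1 hc
    obtain ⟨P, hP, hJP⟩ := h1
    let Q : PrimeSpectrum (X.presheaf.stalk x) := ⟨P, hP.1.1⟩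
    have hg := isGen_ptOf Q hP
    obtain ⟨a, ha, ha'⟩ := Groth.Agent.CycB.CohStalk.exists_smul_eq_zero F hq (ptOf_specializes Q) s
      (hs _ _ hg)
    rw [← primeOf_asIdeal, primeOf_ptOf] at ha
    exact ha (hJP ((Ideal.mem_torsionOf_iff _ _).2 ha'))
  obtain ⟨a, haJ, ha⟩ := Set.not_subset.1 key
  have has : a • s = 0 := (Ideal.mem_torsionOf_iff _ _).1 haJ
  have hreg : IsRegular a := by
    rw [isRegular_iff_mem_nonZeroDivisors, mem_nonZeroDivisors_iff_right]
    intro y hy
    by_contra hy0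
    apply ha
    have h2 : a ∈ ⋃ P ∈ (⊥ : Ideal (X.presheaf.stalk x)).minimalPrimes, (P : Set (X.presheaf.stalk x)) := by
      rw [Ideal.iUnion_minimalPrimes]
      have hr : (⊥ : Ideal (X.presheaf.stalk x)).radical = ⊥ := nilradical_eq_zero _
      refine ⟨y, ?_, ?_⟩
      · rw [hr]; exact hy0
      · rw [hr, mul_comm]; exact hy
    exact h2
  have := hF x
  exact (hreg.smul_eq_zero_iff_right).1 has

end K77.TF
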