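import Groth.Agent.TFOne.K77.Add

/-!
# The numerical theory of elementary modifications

`Mdf T a b π`: on a curve, `0 → G → N → M → G → 0` exact (`a`, `b`, `π`), `π : M ⟶ G` the torsion-free quotient of
`M` on the set `T` of generic points.  This is what an elementary modification of a flat family looks like on the
special fibre (`M` the old, `N` the new special fibre).

* `Mdf.formula`: for a set `S` of generic points
  `v(N_S) + v(G) = v(M_{T ∩ S}) + v(M_{T ∪ S}) + v(H)` for every additive `v`, with `H` small; `H = 0` if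
  `T ∩ S = ∅` or if `T ∪ S` is everything, and for `S = T` if and only if `G → N → N_T` is epi;
* `Mdf.isIso_lift_iff`: `N → N_T ⊞ N_{T'}` (`T'` the complement) is an isomorphism iff `G → N → N_T` is epi.
-/

set_option autoImplicit false
universe u
open CategoryTheory CategoryTheory.Limits AlgebraicGeometry Opposite TopologicalSpace

namespace K77.TF

open Groth.Agent.CycB.StalkExact Groth.Agent.CurvesB Groth.Agent.CurvesB.SubH1
  Groth.Agent.CurvesB.GenStalk Groth.Agent.VarietyA.StalkCrit Groth.Agent.Fga.ChiBasic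
  Groth.Agent.Sga67.CohBasic

variable {X : Scheme.{u}}

/-- An elementary modification on the special fibre. -/
structure Mdf {M N G : X.Modules} (T : Set X) (a : G ⟶ N) (b : N ⟶ M) (π : M ⟶ G) : Prop where
  q : IsQ T π
  mono : Mono a
  w₁ : a ≫ b = 0
  w₂ : b ≫ π = 0
  ex₁ : ∀ (x : X) (t : N.presheaf.stalk x), stalkLin b x t = 0 → ∃ s, stalkLin a x s = t
  ex₂ : ∀ (x : X) (t : M.presheaf.stalk x), stalkLin π x t = 0 → ∃ s, stalkLin b x s = t
  cohM : Coh.IsCoh M
  tfM : StTF M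
  cohN : Coh.IsCoh N

namespace Mdf

variable {M N G : X.Modules} {T : Set X} {a : G ⟶ N} {b : N ⟶ M} {π : M ⟶ G}

theorem a_inj (h : Mdf T a b π) (x : X) : Function.Injective (stalkLin a x) :=
  have := h.mono
  stalkLin_injective a x

theorem b_a (h : Mdf T a b π) (x : X) (s : G.presheaf.stalk x) : stalkLin b x (stalkLin a x s) = 0 := by
  rw [← stalkLin_comp_apply, h.w₁, stalkLin_zero_apply]

theorem π_b (h : Mdf T a b π) (x : X) (s : N.presheaf.stalk x) : stalkLin π x (stalkLin b x s) = 0 := by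
  rw [← stalkLin_comp_apply, h.w₂, stalkLin_zero_apply]

theorem tfN (h : Mdf T a b π) : StTF N := by
  intro x s hs
  have h4 : stalkLin b x s = 0 := h.tfM x _ fun ξ hx hξ => by
    rw [← stalkLin_spec, hs ξ hx hξ, map_zero]
  obtain ⟨t, rfl⟩ := h.ex₁ x s h4
  have h5 : t = 0 := h.q.tf x _ fun ξ hx hξ => by
    apply h.a_inj ξ
    rw [map_zero, stalkLin_spec]
    exact hs ξ hx hξ
  rw [h5, map_zero]

theorem b_zero (h : Mdf T a b π) {ξ : X} (hξ : ξ ∈ T) (t : N.presheaf.stalk ξ) : stalkLin b ξ t = 0 := by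
  apply h.q.inj ξ hξ
  rw [map_zero, h.π_b]

theorem b_inj (h : Mdf T a b π) {ξ : X} (hg : IsGen ξ) (hξ : ξ ∉ T) : Function.Injective (stalkLin b ξ) := by
  rw [injective_iff_map_eq_zero]
  intro t ht
  obtain ⟨s, rfl⟩ := h.ex₁ ξ t ht
  have : s = 0 := (h.q.zero ξ hg hξ).elim _ _
  rw [this, map_zero]

theorem b_surj (h : Mdf T a b π) {ξ : X} (hg : IsGen ξ) (hξ : ξ ∉ T) : Function.Surjective (stalkLin b ξ) :=
  fun t => h.ex₂ ξ t ((h.q.zero ξ hg hξ).elim _ _)

theorem a_surj (h : Mdf T a b π) {ξ : X} (hξ : ξ ∈ T) : Function.Surjective (stalkLin a ξ) :=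
  fun t => h.ex₁ ξ t (h.b_zero hξ t)

/-- The new module has the same generic stalks. -/
theorem nonempty_equiv (h : Mdf T a b π) {ξ : X} (hg : IsGen ξ) :
    Nonempty (N.presheaf.stalk ξ ≃ₗ[X.presheaf.stalk ξ] M.presheaf.stalk ξ) := by
  by_cases hξ : ξ ∈ T
  · exact ⟨(LinearEquiv.ofBijective (stalkLin a ξ) ⟨h.a_inj ξ, h.a_surj hξ⟩).symm.trans
      (LinearEquiv.ofBijective (stalkLin π ξ) ⟨h.q.inj ξ hξ, h.q.surj ξ⟩).symm⟩
  · exact ⟨LinearEquiv.ofBijective (stalkLin b ξ) ⟨h.b_inj hg hξ, h.b_surj hg hξ⟩⟩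

/-- The new module has the same Euler characteristic. -/
theorem add_eq [IsLocallyNoetherian X] (h : Mdf T a b π) {v : X.Modules → ℤ} (hv : IsAdd v) : v N = v M := by
  have := h.mono
  have := h.q.epi
  have e1 := four a b h.w₁ hv π h.w₂ (exact_of_stalk' b π h.w₂ h.ex₂) h.q.coh h.cohN h.cohM
  have e2 : v (homol a b h.w₁) = 0 := chi_isZero hv
    ((isZero_homol_iff a b h.w₁).2 (exact_of_stalk' a b h.w₁ h.ex₁))
  omega

/-- `a` dies in the quotients on sets disjoint from `T`. -/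
theorem a_comp_eq_zero (h : Mdf T a b π) {S : Set X} {N' : X.Modules} {p : N ⟶ N'} (hp : IsQ S p)
    (hS : T ∩ S = ∅) : a ≫ p = 0 := by
  refine hom_eq_zero_of_stalk _ fun x s => ?_
  rw [stalkLin_comp_apply, hp.ker_iff]
  intro ξ hξ hx
  have h1 : ξ ∉ T := fun hT => by
    have : ξ ∈ T ∩ S := ⟨hT, hξ⟩
    rw [hS] at this
    exact this
  have h2 : G.presheaf.stalkSpecializes hx s = 0 := (h.q.zero ξ (hp.gen ξ hξ) h1).elim _ _
  rw [← stalkLin_spec, h2, map_zero]

theorem exists_a (h : Mdf T a b π) {S : Set X} {N' : X.Modules} {p : N ⟶ N'} (hp : IsQ S p)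
    (hS : ∀ ξ, IsGen ξ → ξ ∈ T ∪ S) (x : X) (s : N.presheaf.stalk x) (hs : stalkLin p x s = 0) :
    ∃ g, stalkLin a x g = s := by
  refine h.ex₁ x s (h.tfM x _ fun ξ hx hξ => ?_)
  rw [← stalkLin_spec]
  rcases hS ξ hξ with hT | hS'
  · exact h.b_zero hT _
  · rw [(hp.ker_iff x s).1 hs ξ hS' hx, map_zero]

/-- The additive formula for the quotients of a modification. -/
theorem formula [IsLocallyNoetherian X] (h : Mdf T a b π) {S : Set X} {NS MI MU : X.Modules} {p : N ⟶ NS}
    {q : M ⟶ MI} {q' : M ⟶ MU} (hp : IsQ S p) (hq : IsQ (T ∩ S) q) (hq' : IsQ (T ∪ S) q') :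
    ∃ H : X.Modules, Coh.IsCoh H ∧ IsSmall H ∧
      (∀ v : X.Modules → ℤ, IsAdd v → v NS + v G = v MI + v MU + v H) ∧
      (T ∩ S = ∅ → IsZero H) ∧ ((∀ ξ : X, IsGen ξ → ξ ∈ T ∪ S) → IsZero H) ∧
      (S = T → (IsZero H ↔ Epi (a ≫ p))) := by
  have hma := h.mono
  have hpe := hp.epi
  have hqe := hq.epi
  have hqe' := hq'.epi
  -- the maps
  obtain ⟨c, hc, hce⟩ := h.q.exists_map hq Set.inter_subset_left
  obtain ⟨cc, hcc, hcce⟩ := hq'.exists_map h.q Set.subset_union_left
  obtain ⟨α, hα⟩ : ∃ α : MI ⟶ NS, c ≫ α = a ≫ p := by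
    refine exists_desc c (a ≫ p) fun x s hs => ?_
    obtain ⟨m, rfl⟩ := h.q.surj x s
    rw [← stalkLin_comp_apply, hc, hq.ker_iff] at hs
    rw [stalkLin_comp_apply, hp.ker_iff]
    intro ξ hξ hx
    by_cases hT : ξ ∈ T
    · rw [← stalkLin_spec, ← stalkLin_spec, hs ξ ⟨hT, hξ⟩ hx, map_zero, map_zero]
    · have h2 : G.presheaf.stalkSpecializes hx (stalkLin π x m) = 0 :=
        (h.q.zero ξ (hp.gen ξ hξ) hT).elim _ _
      rw [← stalkLin_spec, h2, map_zero]
  obtain ⟨β, hβ⟩ : ∃ β : NS ⟶ MU, p ≫ β = b ≫ q' := by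
    refine exists_desc p (b ≫ q') fun x s hs => ?_
    rw [hp.ker_iff] at hs
    rw [stalkLin_comp_apply, hq'.ker_iff]
    intro ξ hξ hx
    rw [← stalkLin_spec]
    rcases hξ with hT | hS
    · exact h.b_zero hT _
    · rw [hs ξ hS hx, map_zero]
  have hα' : ∀ (x : X) (g : G.presheaf.stalk x),
      stalkLin α x (stalkLin c x g) = stalkLin p x (stalkLin a x g) := fun x g => by
    rw [← stalkLin_comp_apply, hα, stalkLin_comp_apply]
  have hβ' : ∀ (x : X) (n : N.presheaf.stalk x),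
      stalkLin β x (stalkLin p x n) = stalkLin q' x (stalkLin b x n) := fun x n => by
    rw [← stalkLin_comp_apply, hβ, stalkLin_comp_apply]
  have hcs : ∀ x, Function.Surjective (stalkLin c x) := fun x => stalkLin_surjective c x
  have hαm : Mono α := by
    refine hq.tf.mono α fun ξ hξ => ?_
    by_cases hTS : ξ ∈ T ∩ S
    · rw [injective_iff_map_eq_zero]
      intro s hs
      obtain ⟨g, rfl⟩ := hcs ξ s
      rw [hα'] at hs
      have h1 := hp.inj ξ hTS.2 (hs.trans (map_zero _).symm)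
      have h2 := h.a_inj ξ (h1.trans (map_zero _).symm)
      rw [h2, map_zero]
    · have := hq.zero ξ hξ hTS
      exact Function.injective_of_subsingleton _
  have w : α ≫ β = 0 := by
    rw [← cancel_epi c, ← Category.assoc, hα, Category.assoc, hβ, ← Category.assoc, h.w₁, zero_comp,
      comp_zero]
  have w' : β ≫ cc = 0 := by
    rw [← cancel_epi p, ← Category.assoc, hβ, Category.assoc, hcc, h.w₂, comp_zero]
  have hex : (ShortComplex.mk β cc w').Exact := by
    refine exact_of_stalk' β cc w' fun x t ht => ?_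
    obtain ⟨m, rfl⟩ := hq'.surj x t
    rw [← stalkLin_comp_apply, hcc] at ht
    obtain ⟨n, rfl⟩ := h.ex₂ x m ht
    exact ⟨stalkLin p x n, hβ' x n⟩
  refine ⟨homol α β w, isCoh_homol α β w hq.coh hp.coh hq'.coh, ?_, ?_, ?_, ?_, ?_⟩
  · intro ξ hξ
    rw [subsingleton_homol_iff]
    intro t ht
    obtain ⟨n, rfl⟩ := hp.surj ξ t
    by_cases hS : ξ ∈ S
    · by_cases hT : ξ ∈ T
      · obtain ⟨g, rfl⟩ := h.a_surj hT n
        exact ⟨stalkLin c ξ g, hα' ξ g⟩
      · rw [hβ'] at ht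
        have h1 := hq'.inj ξ (Or.inr hS) (ht.trans (map_zero _).symm)
        have h2 := h.b_inj hξ hT (h1.trans (map_zero _).symm)
        exact ⟨0, by rw [h2, map_zero, map_zero]⟩
    · exact ⟨0, (hp.zero ξ hξ hS).elim _ _⟩
  · intro v hv
    have e := four α β w hv cc w' hex hq.coh hp.coh hq'.coh
    exact e
  · intro hTS
    rw [isZero_iff_stalks]
    intro x
    rw [subsingleton_homol_iff]
    intro t ht
    refine ⟨0, ?_⟩
    rw [map_zero]
    symm
    refine hp.spec_eq_zero t fun ξ hξ hx => ?_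
    obtain ⟨n, rfl⟩ := hp.surj x t
    rw [hβ', hq'.ker_iff] at ht
    have h1 := ht ξ (Or.inr hξ) hx
    rw [← stalkLin_spec] at h1
    have hT : ξ ∉ T := fun hT => by
      have : ξ ∈ T ∩ S := ⟨hT, hξ⟩
      rw [hTS] at this
      exact this
    have h2 := h.b_inj (hp.gen ξ hξ) hT (h1.trans (map_zero _).symm)
    rw [← stalkLin_spec, h2, map_zero]
  · intro hall
    rw [isZero_iff_stalks]
    intro x
    rw [subsingleton_homol_iff]
    intro t ht
    obtain ⟨n, rfl⟩ := hp.surj x t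
    rw [hβ', hq'.ker_iff] at ht
    have h1 : stalkLin b x n = 0 := h.tfM x _ fun ξ hx hξ => ht ξ (hall ξ hξ) hx
    obtain ⟨g, rfl⟩ := h.ex₁ x n h1
    exact ⟨stalkLin c x g, hα' x g⟩
  · rintro rfl
    have hβ0 : β = 0 := by
      rw [← cancel_epi p, hβ, comp_zero]
      refine hom_eq_zero_of_stalk _ fun x s => ?_
      rw [stalkLin_comp_apply, hq'.ker_iff]
      intro ξ hξ hx
      rw [← stalkLin_spec]
      exact h.b_zero (by simpa using hξ) _
    rw [isZero_iff_stalks]
    constructor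
    · intro hz
      have hαe : Epi α := by
        refine epi_of_stalks α fun x t => ?_
        refine (subsingleton_homol_iff α β w x).1 (hz x) t ?_
        rw [hβ0, stalkLin_zero_apply]
      rw [← hα]
      exact epi_comp _ _
    · intro he x
      rw [subsingleton_homol_iff]
      intro t _
      rw [← hα] at he
      have hαe : Epi α := epi_of_epi c α
      exact stalkLin_surjective α x t

/-- `N → N_T ⊞ N_{T'}` is an isomorphism iff `G → N → N_T` is epi. -/
theorem isIso_lift_iff (h : Mdf T a b π) {T' : Set X} {N₁ N₂ : X.Modules} {p₁ : N ⟶ N₁} {p₂ : N ⟶ N₂}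
    (h₁ : IsQ T p₁) (h₂ : IsQ T' p₂) (hT : T ∩ T' = ∅) (hT' : ∀ ξ, IsGen ξ → ξ ∈ T ∪ T') :
    IsIso (biprod.lift p₁ p₂) ↔ Epi (a ≫ p₁) := by
  have he₁ := h₁.epi
  have he₂ := h₂.epi
  constructor
  · intro hi
    refine epi_of_stalks _ fun x u => ?_
    let s := stalkLin (inv (biprod.lift p₁ p₂)) x (stalkLin (biprod.inl : N₁ ⟶ N₁ ⊞ N₂) x u)
    have e₁ : biprod.inl ≫ inv (biprod.lift p₁ p₂) ≫ p₁ = 𝟙 N₁ := by
      have : inv (biprod.lift p₁ p₂) ≫ p₁ = biprod.fst := by
        rw [IsIso.inv_comp_eq, biprod.lift_fst]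
      rw [this, biprod.inl_fst]
    have e₂ : biprod.inl ≫ inv (biprod.lift p₁ p₂) ≫ p₂ = 0 := by
      have : inv (biprod.lift p₁ p₂) ≫ p₂ = biprod.snd := by
        rw [IsIso.inv_comp_eq, biprod.lift_snd]
      rw [this, biprod.inl_snd]
    have hs₁ : stalkLin p₁ x s = u := by
      change stalkLin p₁ x (stalkLin _ x (stalkLin _ x u)) = u
      rw [← stalkLin_comp_apply, ← stalkLin_comp_apply, e₁, stalkLin_id]
      rfl
    have hs₂ : stalkLin p₂ x s = 0 := by
      change stalkLin p₂ x (stalkLin _ x (stalkLin _ x u)) = 0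
      rw [← stalkLin_comp_apply, ← stalkLin_comp_apply, e₂, stalkLin_zero_apply]
    obtain ⟨g, hg⟩ := h.exists_a h₂ hT' x s hs₂
    refine ⟨g, ?_⟩
    rw [stalkLin_comp_apply, hg, hs₁]
  · intro he
    have hm : Mono (biprod.lift p₁ p₂) := by
      refine mono_of_stalks _ fun x => ?_
      rw [injective_iff_map_eq_zero]
      intro s hs
      have e₁ : stalkLin p₁ x s = 0 := by
        have : p₁ = biprod.lift p₁ p₂ ≫ biprod.fst := (biprod.lift_fst _ _).symm
        rw [this, stalkLin_comp_apply, hs, map_zero]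
      have e₂ : stalkLin p₂ x s = 0 := by
        have : p₂ = biprod.lift p₁ p₂ ≫ biprod.snd := (biprod.lift_snd _ _).symm
        rw [this, stalkLin_comp_apply, hs, map_zero]
      refine h.tfN x s fun ξ hx hξ => ?_
      rcases hT' ξ hξ with hh | hh
      · exact (h₁.ker_iff x s).1 e₁ ξ hh hx
      · exact (h₂.ker_iff x s).1 e₂ ξ hh hx
    have hep : Epi (biprod.lift p₁ p₂) := by
      refine Preadditive.epi_of_cancel_zero _ fun {K} φ hφ => ?_
      have e0 : a ≫ p₂ = 0 := h.a_comp_eq_zero h₂ hT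
      have hl : biprod.lift p₁ p₂ = p₁ ≫ biprod.inl + p₂ ≫ biprod.inr :=
        biprod.hom_ext _ _ (by simp) (by simp)
      have h1 : biprod.inl ≫ φ = 0 := by
        rw [← cancel_epi (a ≫ p₁), comp_zero, Category.assoc]
        have : a ≫ (biprod.lift p₁ p₂ ≫ φ) = 0 := by rw [hφ, comp_zero]
        rw [hl, Preadditive.add_comp, Preadditive.comp_add] at this
        simp only [Category.assoc] at this
        rw [← Category.assoc a p₂, e0, zero_comp, add_zero] at this
        exact this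
      have h2 : biprod.inr ≫ φ = 0 := by
        rw [← cancel_epi p₂, comp_zero]
        have := hφ
        rw [hl, Preadditive.add_comp, Category.assoc, Category.assoc, h1, comp_zero, zero_add] at this
        exact this
      exact biprod.hom_ext' _ _ (by rw [h1, comp_zero]) (by rw [h2, comp_zero])
    exact isIso_of_mono_of_epi _

end Mdf

end K77.TF
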