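import Groth.Agent.TFOne.K77.Psi
import Groth.Agent.TFOne.K77.ModBeta
import Groth.Agent.CurvesB.SubMain

/-!
# From subcurves to sets of generic points

* `gens Z`: the generic points in `Z`; `IsU Z`: `Z` is a (possibly empty) closed union of irreducible components.
* `isQ_of_isQuotOn`, `isQuotOn_of_isQ`: for `F` torsion-free of rank one, `TFOne.IsQuotOn X F Z G π` is
  `IsQ (gens Z) π`.
* `vq v F T`: the value of an additive function `v` on the torsion-free quotient `F_T`; `bt k E F T = vq (Psi k E) F T`,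
  with `TFOne.rBeta … Z hZ E r G = bt k E F (gens Z)`.
* `isSemistable_iff`, `isStable_iff`, `isQuasistableAtPt_iff` in terms of `bt`.
-/

set_option autoImplicit false
universe u
open CategoryTheory CategoryTheory.Limits AlgebraicGeometry Opposite TopologicalSpace

namespace K77.TF

open Groth.Agent.CycB.StalkExact Groth.Agent.CurvesB Groth.Agent.CurvesB.SubH1
  Groth.Agent.CurvesB.GenStalk Groth.Agent.VarietyA.StalkCrit Groth.Agent.Fga.ChiBasic
  Groth.Agent.Sga67.CohBasic Groth.Agent.CurvesB.PairLemma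

variable {X : Scheme.{u}}

section Sets

/-- The generic points in `Z`. -/
def gens (Z : Set X) : Set X := {ξ | IsGen ξ ∧ ξ ∈ Z}

/-- A closed set containing a generic point above each of its points. -/
def IsU (Z : Set X) : Prop := IsClosed Z ∧ ∀ x ∈ Z, ∃ ξ : X, IsGen ξ ∧ ξ ∈ Z ∧ ξ ⤳ x

theorem mem_gens {Z : Set X} {ξ : X} : ξ ∈ gens Z ↔ IsGen ξ ∧ ξ ∈ Z := Iff.rfl

theorem isGen_of_mem_gens {Z : Set X} : ∀ ξ ∈ gens Z, IsGen ξ := fun _ h => h.1

theorem gens_union (Y Z : Set X) : gens (Y ∪ Z) = gens Y ∪ gens Z := by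
  ext ξ
  simp only [mem_gens, Set.mem_union]
  tauto

theorem gens_mono {Y Z : Set X} (h : Y ⊆ Z) : gens Y ⊆ gens Z := fun _ hξ => ⟨hξ.1, h hξ.2⟩

theorem exists_gen_of_comp {C : Set X} (hC : C ∈ irreducibleComponents (X : Type u)) :
    ∃ ξ : X, IsGen ξ ∧ C = closure {ξ} := by
  obtain ⟨z, hz⟩ := QuasiSober.sober hC.1 (isClosed_of_mem_irreducibleComponents C hC)
  refine ⟨z, ?_, hz.def.symm⟩
  refine (DimOneTop.closure_mem_irreducibleComponents_iff z).mp ?_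
  rw [hz.def]
  exact hC

theorem closure_mem {ξ : X} (h : IsGen ξ) : closure {ξ} ∈ irreducibleComponents (X : Type u) :=
  (DimOneTop.closure_mem_irreducibleComponents_iff ξ).mpr h

theorem mem_gens_sUnion (P : Set X → Prop) (ξ : X) :
    ξ ∈ gens (⋃₀ {C | C ∈ irreducibleComponents (X : Type u) ∧ P C}) ↔ IsGen ξ ∧ P (closure {ξ}) := by
  constructor
  · rintro ⟨hξ, C, ⟨hC, hP⟩, hξC⟩
    obtain ⟨η, hη, rfl⟩ := exists_gen_of_comp hC
    have h1 : η = ξ := hξ η (specializes_iff_mem_closure.2 hξC)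
    subst h1
    exact ⟨hξ, hP⟩
  · rintro ⟨hξ, hP⟩
    exact ⟨hξ, closure {ξ}, ⟨closure_mem hξ, hP⟩, subset_closure rfl⟩

theorem closure_subset_iff {ξ : X} {Z : Set X} (hZ : IsClosed Z) : closure {ξ} ⊆ Z ↔ ξ ∈ Z := by
  rw [hZ.closure_subset_iff, Set.singleton_subset_iff]

theorem isU_of_sUnion {Z : Set X} (hZ : IsClosed Z) {𝒮 : Set (Set X)}
    (h : 𝒮 ⊆ irreducibleComponents (X : Type u)) (e : Z = ⋃₀ 𝒮) : IsU Z := by
  refine ⟨hZ, fun x hx => ?_⟩
  rw [e] at hx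
  obtain ⟨C, hC, hxC⟩ := hx
  obtain ⟨ξ, hξ, rfl⟩ := exists_gen_of_comp (h hC)
  exact ⟨ξ, hξ, by rw [e]; exact ⟨_, hC, subset_closure rfl⟩, specializes_iff_mem_closure.2 hxC⟩

theorem isU_of_isSubcurve {Z : Set X} (hZ : IsClosed Z) (h : VecSt.IsSubcurve X Z) : IsU Z := by
  obtain ⟨𝒮, h1, -, h3⟩ := h
  exact isU_of_sUnion hZ h1 h3

theorem gens_nonempty {Z : Set X} (h : VecSt.IsSubcurve X Z) : (gens Z).Nonempty := by
  obtain ⟨𝒮, h1, ⟨C, hC⟩, h3⟩ := h
  obtain ⟨ξ, hξ, rfl⟩ := exists_gen_of_comp (h1 hC)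
  exact ⟨ξ, hξ, by rw [h3]; exact ⟨_, hC, subset_closure rfl⟩⟩

theorem IsU.subset_of_gens {Y Z : Set X} (hY : IsU Y) (hZ : IsClosed Z) (h : gens Y ⊆ gens Z) : Y ⊆ Z := by
  intro x hx
  obtain ⟨ξ, hξ, hξY, hξx⟩ := hY.2 x hx
  exact hξx.mem_closed hZ (h ⟨hξ, hξY⟩).2

theorem isU_univ : IsU (Set.univ : Set X) :=
  ⟨isClosed_univ, fun x _ => by
    obtain ⟨ξ, hξ, h⟩ := SubClosed.exists_isGen_specializes x
    exact ⟨ξ, hξ, trivial, h⟩⟩

theorem exists_isGen_not_mem {Z : Set X} (hZ : IsClosed Z) (h : Z ≠ Set.univ) : ∃ ξ : X, IsGen ξ ∧ ξ ∉ gens Z := by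
  by_contra hc
  push Not at hc
  apply h
  exact Set.eq_univ_of_univ_subset (isU_univ.subset_of_gens hZ fun ξ hξ => ⟨hξ.1, (hc ξ hξ.1).2⟩)

section Clos

variable [NoetherianSpace X] {T : Set X} (hT : ∀ ξ ∈ T, IsGen ξ)
include hT

theorem mem_closure_gens (x : X) : x ∈ closure T ↔ ∃ t ∈ T, t ⤳ x :=
  SubClosed.mem_closure_iff_of_finite ((SubClosed.finite_isGen X).subset hT) x

theorem gens_closure : gens (closure T) = T := by
  ext ξ
  rw [mem_gens, mem_closure_gens hT]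
  constructor
  · rintro ⟨hξ, t, ht, h⟩
    rwa [← hξ t h]
  · intro h
    exact ⟨hT ξ h, ξ, h, specializes_rfl⟩

theorem isU_closure : IsU (closure T) := by
  refine ⟨isClosed_closure, fun x hx => ?_⟩
  obtain ⟨t, ht, h⟩ := (mem_closure_gens hT x).1 hx
  exact ⟨t, hT t ht, subset_closure ht, h⟩

theorem isSubcurve_closure (hne : T.Nonempty) : VecSt.IsSubcurve X (closure T) := by
  refine ⟨(fun ξ => closure {ξ}) '' T, ?_, hne.image _, ?_⟩
  · rintro _ ⟨ξ, hξ, rfl⟩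
    exact closure_mem (hT ξ hξ)
  · ext x
    rw [mem_closure_gens hT, Set.mem_sUnion]
    constructor
    · rintro ⟨t, ht, h⟩
      exact ⟨_, ⟨t, ht, rfl⟩, specializes_iff_mem_closure.1 h⟩
    · rintro ⟨_, ⟨t, ht, rfl⟩, h⟩
      exact ⟨t, ht, specializes_iff_mem_closure.2 h⟩

theorem closure_ne_univ {ξ : X} (hξ : IsGen ξ) (h : ξ ∉ T) : closure T ≠ Set.univ := by
  intro he
  have : ξ ∈ gens (closure T) := ⟨hξ, by rw [he]; trivial⟩
  rw [gens_closure hT] at this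
  exact h this

end Clos

end Sets

section Quot

theorem rankOne_iff (F : X.Modules) : TFOne.IsRkOne X F ↔ RankOne F := by
  constructor
  · intro h ξ hξ
    exact h ξ ((isGen_iff ξ).1 hξ)
  · intro h ξ hξ
    exact h ξ ((isGen_iff ξ).2 hξ)

variable [IsReduced X] [IsLocallyNoetherian X]

theorem stTF_of_isTF1 {F : X.Modules} (h : TFOne.IsTF1 X F) : StTF F := stTF_of_isTorsionFree h.1.1 h.2.1

theorem isTF1_iff (F : X.Modules) : TFOne.IsTF1 X F ↔ Coh.IsCoh F ∧ StTF F ∧ RankOne F := by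
  constructor
  · intro h
    exact ⟨h.1, stTF_of_isTF1 h, (rankOne_iff F).1 h.2.2⟩
  · intro h
    exact ⟨h.1, h.2.1.isTorsionFree, (rankOne_iff F).2 h.2.2⟩

variable {F G : X.Modules} {π : F ⟶ G}

theorem isQ_of_isQuotOn' (hF : RankOne F) {Z : Set X} (h : TFOne.IsQuotOn X F Z G π) : IsQ (gens Z) π := by
  obtain ⟨h1, h2, h3, h4⟩ := h
  refine ⟨isGen_of_mem_gens, h1, h2, stTF_of_isTorsionFree h2.1 h3, fun ξ hξ => ?_, fun ξ hξ hZ => ?_⟩
  · have hne : ¬ Subsingleton (G.presheaf.stalk ξ) := by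
      intro hs
      have h5 : ξ ∈ CohB1.support G := by rw [h4]; exact hξ.2
      exact (not_mem_support_iff G ξ).2 hs h5
    rcases SubMain.genSimple_of_rankOne hF ξ hξ.1 (LinearMap.ker (stalkLin π ξ)) with h6 | h6
    · exact LinearMap.ker_eq_bot.1 h6
    · exfalso
      apply hne
      refine ⟨fun a b => ?_⟩
      obtain ⟨a, rfl⟩ := stalkLin_surjective π ξ a
      obtain ⟨b, rfl⟩ := stalkLin_surjective π ξ b
      have ha : a ∈ LinearMap.ker (stalkLin π ξ) := by rw [h6]; trivial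
      have hb : b ∈ LinearMap.ker (stalkLin π ξ) := by rw [h6]; trivial
      rw [LinearMap.mem_ker.1 ha, LinearMap.mem_ker.1 hb]
  · rw [← not_mem_support_iff, h4]
    exact fun hh => hZ ⟨hξ, hh⟩

theorem isQ_of_isQuotOn (hF : TFOne.IsTF1 X F) {Z : Set X} (h : TFOne.IsQuotOn X F Z G π) : IsQ (gens Z) π :=
  isQ_of_isQuotOn' ((rankOne_iff F).1 hF.2.2) h

theorem isQuotOn_of_isQ (hF : RankOne F) {Z : Set X} (hZ : IsU Z) (h : IsQ (gens Z) π) :
    TFOne.IsQuotOn X F Z G π := by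
  refine ⟨h.epi, h.coh, h.tf.isTorsionFree, ?_⟩
  ext x
  constructor
  · intro hx
    have h1 : Nontrivial (G.presheaf.stalk x) := by
      by_contra hc
      rw [not_nontrivial_iff_subsingleton, ← not_mem_support_iff] at hc
      exact hc hx
    obtain ⟨s, hs⟩ := exists_ne (0 : G.presheaf.stalk x)
    by_contra hc
    apply hs
    refine h.tf x s fun ξ hx hξ => ?_
    have h2 : ξ ∉ gens Z := fun hh => hc (hx.mem_closed hZ.1 hh.2)
    exact (h.zero ξ hξ h2).elim _ _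
  · intro hx
    obtain ⟨ξ, hξ, hξZ, hξx⟩ := hZ.2 x hx
    have hcl := Groth.Agent.VarietyA.GlobGen.isClosed_support G h.coh.2
    refine hξx.mem_closed hcl ?_
    by_contra hc
    rw [not_mem_support_iff] at hc
    apply SubMain.nontrivial_of_rankOne hF ξ hξ
    exact (h.inj ξ ⟨hξ, hξZ⟩).subsingleton

theorem IsQ.length_eq {T : Set X} (hF : RankOne F) (h : IsQ T π) {ξ : X} (hξ : ξ ∈ T) :
    Module.length (X.presheaf.stalk ξ) (G.presheaf.stalk ξ) = 1 := by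
  have hg := h.gen ξ hξ
  obtain ⟨e⟩ := hF ξ hg
  rw [← (LinearEquiv.ofBijective _ ⟨h.inj ξ hξ, h.surj ξ⟩).length_eq, e.length_eq, length_self_of_isGen X hg]

omit [IsReduced X] [IsLocallyNoetherian X] in
theorem isQ_id {T : Set X} (hT : ∀ ξ ∈ T, IsGen ξ) (hF : Coh.IsCoh F) (htf : StTF F)
    (h : ∀ ξ : X, IsGen ξ → ξ ∈ T) : IsQ T (𝟙 F) := by
  refine ⟨hT, inferInstance, hF, htf, fun ξ _ => ?_, fun ξ hξ hh => absurd (h ξ hξ) hh⟩
  rw [stalkLin_id]
  exact Function.injective_id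

end Quot

section Values

open Classical in
/-- The value of `v` on the torsion-free quotient of `F` on `T`. -/
noncomputable def vq (v : X.Modules → ℤ) (F : X.Modules) (T : Set X) : ℤ :=
  if h : ∃ (G : X.Modules) (π : F ⟶ G), IsQ T π then v h.choose else 0

theorem vq_eq {v : X.Modules → ℤ} (hv : IsAdd v) {F G : X.Modules} {T : Set X} {π : F ⟶ G} (h : IsQ T π) :
    vq v F T = v G := by
  have hh : ∃ (G : X.Modules) (π : F ⟶ G), IsQ T π := ⟨G, π, h⟩
  rw [vq, dif_pos hh]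
  obtain ⟨π', h'⟩ := hh.choose_spec
  obtain ⟨e, -⟩ := h'.exists_iso h
  exact chi_iso hv e h'.coh

variable (k : Type u) [Field k] [X.Over (Spec (CommRingCat.of k))]

/-- `r β_F(T)` for a set `T` of generic points: `χ(E ⊗ F_T)`. -/
noncomputable def bt (E F : X.Modules) (T : Set X) : ℤ := vq (fun M => Psi k E M) F T

/-- `χ(F_T)`. -/
noncomputable def ct (F : X.Modules) (T : Set X) : ℤ := vq (fun M => Curv2.euler k X M) F T

variable [IsProper (X ↘ Spec (CommRingCat.of k))]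

theorem ct_eq {F G : X.Modules} {T : Set X} {π : F ⟶ G} (h : IsQ T π) : ct k F T = Curv2.euler k X G :=
  vq_eq (isAdd_euler k) h

variable {r : ℕ} {E : X.Modules} (hE : FlatMod.IsFinLocFreeOfRank r E)
include hE

theorem bt_eq {F G : X.Modules} {T : Set X} {π : F ⟶ G} (h : IsQ T π) : bt k E F T = Psi k E G :=
  vq_eq (isAdd_Psi k hE) h

theorem bt_empty [IsReduced X] [IsLocallyNoetherian X] {F : X.Modules} (hF : Coh.IsCoh F) :
    bt k E F ∅ = 0 := by
  obtain ⟨G, π, h⟩ := exists_isQ hF (∅ : Set X) (fun ξ hξ => absurd hξ (Set.notMem_empty _))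
  rw [bt_eq k hE h]
  exact chi_isZero (isAdd_Psi k hE) (h.tf.isZero fun ξ hξ => h.zero ξ hξ (Set.notMem_empty _))

theorem rBeta_eq [IsReduced X] (hdim : topologicalKrullDim X ≤ 1) {F G : X.Modules} {π : F ⟶ G}
    (hF : RankOne F) {Z : Set X} (hZ : IsClosed Z) (h : IsQ (gens Z) π) :
    TFOne.rBeta X k (X ↘ Spec (CommRingCat.of k)) Z hZ E r G = bt k E F (gens Z) := by
  rw [bt_eq k hE h]
  refine rBeta_eq_Psi k hE hdim hZ h.coh (fun ξ hξ hh => ?_) fun ξ hξ hh => h.zero ξ hξ fun hg => hh hg.2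
  have hn := Groth.Agent.Fga.SnapperTwist.isNoetherian_of_proper k X
  exact h.length_eq hF ⟨hξ, hh⟩

theorem rBeta_eq_of_quotOn [IsReduced X] (hdim : topologicalKrullDim X ≤ 1) {F G : X.Modules} {π : F ⟶ G}
    (hF : TFOne.IsTF1 X F) {Z : Set X} (hZ : IsClosed Z) (h : TFOne.IsQuotOn X F Z G π) :
    TFOne.rBeta X k (X ↘ Spec (CommRingCat.of k)) Z hZ E r G = bt k E F (gens Z) := by
  have hn := Groth.Agent.Fga.SnapperTwist.isNoetherian_of_proper k X
  exact rBeta_eq k hE hdim ((rankOne_iff F).1 hF.2.2) hZ (isQ_of_isQuotOn hF h)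

/-- The total value `r χ(F) + deg E`. -/
theorem Psi_total [IsReduced X] (hdim : topologicalKrullDim X ≤ 1) {F : X.Modules} (hF : Coh.IsCoh F)
    (hr : RankOne F) : Psi k E F = r * Curv2.euler k X F + Curv2.deg k X E r := by
  have e1 := D_eq k hE hdim hF (Groth.Agent.Fdesc.StructMod.isCoh_structureModule X) fun ξ hξ => by
    obtain ⟨e⟩ := hr ξ hξ
    rw [e.length_eq, (Groth.Agent.Fdesc.StructMod.stalkEquiv ξ).length_eq]
  have e2 : Psi k E (Coh.structureModule X) = Curv2.euler k X E :=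
    Groth.Agent.VarietyA.DegRank.euler_iso k (Groth.Agent.Ega2.Tens.runit E)
  rw [e2] at e1
  rw [Curv2.deg]
  linarith

theorem bt_all [IsReduced X] {F : X.Modules} (hF : Coh.IsCoh F) (htf : StTF F) {T : Set X}
    (hT : ∀ ξ ∈ T, IsGen ξ) (h : ∀ ξ : X, IsGen ξ → ξ ∈ T) : bt k E F T = Psi k E F :=
  bt_eq k hE (isQ_id hT hF htf h)

variable [IsReduced X] (hdim : topologicalKrullDim X ≤ 1)
include hdim

theorem isSemistable_iff (F : X.Modules) :
    TFOne.IsSemistable X k (X ↘ Spec (CommRingCat.of k)) F E r ↔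
      TFOne.IsTF1 X F ∧ ∀ T : Set X, (∀ ξ ∈ T, IsGen ξ) → T.Nonempty → (∃ ξ : X, IsGen ξ ∧ ξ ∉ T) →
        0 ≤ bt k E F T := by
  have hn := Groth.Agent.Fga.SnapperTwist.isNoetherian_of_proper k X
  constructor
  · rintro ⟨hF, h⟩
    refine ⟨hF, fun T hT hne ⟨ξ, hξ, hξT⟩ => ?_⟩
    obtain ⟨G, π, hG⟩ := exists_isQ hF.1 T hT
    have hg := gens_closure hT
    have hG' : IsQ (gens (closure T)) π := by rw [hg]; exact hG
    have hR := (rankOne_iff F).1 hF.2.2
    have h1 := h (closure T) isClosed_closure (isSubcurve_closure hT hne) (closure_ne_univ hT hξ hξT) G π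
      (isQuotOn_of_isQ hR (isU_closure hT) hG')
    rwa [rBeta_eq k hE hdim hR isClosed_closure hG', hg] at h1
  · rintro ⟨hF, h⟩
    refine ⟨hF, fun Z hZ hs hne G π hG => ?_⟩
    rw [rBeta_eq_of_quotOn k hE hdim hF hZ hG]
    exact h _ isGen_of_mem_gens (gens_nonempty hs) (exists_isGen_not_mem hZ hne)

theorem isStable_iff (F : X.Modules) :
    TFOne.IsStable X k (X ↘ Spec (CommRingCat.of k)) F E r ↔
      TFOne.IsTF1 X F ∧ ∀ T : Set X, (∀ ξ ∈ T, IsGen ξ) → T.Nonempty → (∃ ξ : X, IsGen ξ ∧ ξ ∉ T) →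
        0 < bt k E F T := by
  have hn := Groth.Agent.Fga.SnapperTwist.isNoetherian_of_proper k X
  constructor
  · rintro ⟨hF, h⟩
    refine ⟨hF, fun T hT hne ⟨ξ, hξ, hξT⟩ => ?_⟩
    obtain ⟨G, π, hG⟩ := exists_isQ hF.1 T hT
    have hg := gens_closure hT
    have hG' : IsQ (gens (closure T)) π := by rw [hg]; exact hG
    have hR := (rankOne_iff F).1 hF.2.2
    have h1 := h (closure T) isClosed_closure (isSubcurve_closure hT hne) (closure_ne_univ hT hξ hξT) G π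
      (isQuotOn_of_isQ hR (isU_closure hT) hG')
    rwa [rBeta_eq k hE hdim hR isClosed_closure hG', hg] at h1
  · rintro ⟨hF, h⟩
    refine ⟨hF, fun Z hZ hs hne G π hG => ?_⟩
    rw [rBeta_eq_of_quotOn k hE hdim hF hZ hG]
    exact h _ isGen_of_mem_gens (gens_nonempty hs) (exists_isGen_not_mem hZ hne)

theorem isQuasistableAtPt_iff (F : X.Modules) (p : X) :
    TFOne.IsQuasistableAtPt X k (X ↘ Spec (CommRingCat.of k)) F E r p ↔
      TFOne.IsSemistable X k (X ↘ Spec (CommRingCat.of k)) F E r ∧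
      ∀ T : Set X, (∀ ξ ∈ T, IsGen ξ) → (∃ ξ : X, IsGen ξ ∧ ξ ∉ T) → (∃ ξ ∈ T, ξ ⤳ p) →
        0 < bt k E F T := by
  have hn := Groth.Agent.Fga.SnapperTwist.isNoetherian_of_proper k X
  constructor
  · rintro ⟨hF, h⟩
    refine ⟨hF, fun T hT ⟨ξ, hξ, hξT⟩ ⟨η, hη, hηp⟩ => ?_⟩
    obtain ⟨G, π, hG⟩ := exists_isQ hF.1.1 T hT
    have hg := gens_closure hT
    have hG' : IsQ (gens (closure T)) π := by rw [hg]; exact hG
    have hR := (rankOne_iff F).1 hF.1.2.2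
    have h1 := h (closure T) isClosed_closure (isSubcurve_closure hT ⟨η, hη⟩) (closure_ne_univ hT hξ hξT)
      ((mem_closure_gens hT p).2 ⟨η, hη, hηp⟩) G π (isQuotOn_of_isQ hR (isU_closure hT) hG')
    rwa [rBeta_eq k hE hdim hR isClosed_closure hG', hg] at h1
  · rintro ⟨hF, h⟩
    refine ⟨hF, fun Z hZ hs hne hp G π hG => ?_⟩
    rw [rBeta_eq_of_quotOn k hE hdim hF.1 hZ hG]
    obtain ⟨ξ, hξ, hξZ, hξp⟩ := (isU_of_isSubcurve hZ hs).2 p hp
    exact h _ isGen_of_mem_gens (exists_isGen_not_mem hZ hne) ⟨ξ, ⟨hξ, hξZ⟩, hξp⟩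

end Values

end K77.TF
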