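import Groth.Agent.TFOne.K77.Bridge
import Groth.Agent.TFOne.K22.Pull

/-!
# Flat pull-back of torsion-free quotients

`g : Y ⟶ X` flat, `X`, `Y` reduced and locally Noetherian.

* `StTF.pull`, `IsQ.pull`: torsion-free modules and torsion-free quotients pull back;
* `rankOne_pull_flat`: generic rank one pulls back;
* `pre g T`: the generic points of `Y` above `T`; `exists_pre`: if `g` is surjective every generic point of `X` has a
  preimage.
-/

set_option autoImplicit false
universe u
open CategoryTheory CategoryTheory.Limits AlgebraicGeometry Opposite TopologicalSpace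

namespace K77.TF

open Groth.Agent.Fdesc.PullbackStalk Groth.Agent.CycB.StalkExact Groth.Agent.CurvesB Groth.Agent.CurvesB.SubH1
  Groth.Agent.CurvesB.GenStalk Groth.Agent.VarietyA.StalkCrit Groth.Agent.CurvesB.PairLemma

variable {X Y : Scheme.{u}} (g : Y ⟶ X)

/-- The generic points above `T`. -/
def pre (T : Set X) : Set Y := {y | IsGen y ∧ g y ∈ T}

theorem mem_pre {T : Set X} {y : Y} : y ∈ pre g T ↔ IsGen y ∧ g y ∈ T := Iff.rfl

theorem isGen_pre (T : Set X) : ∀ y ∈ pre g T, IsGen y := fun _ h => h.1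

theorem stalkLin_canAdd {M N : X.Modules} (φ : M ⟶ N) (y : Y) (t : M.presheaf.stalk (g y)) :
    stalkLin ((Scheme.Modules.pullback g).map φ) y (canAdd g M y t) = canAdd g N y (stalkLin φ (g y) t) :=
  stalkMap_pullback_canAdd g φ y t

theorem stalkLin_pull_injective {M N : X.Modules} (φ : M ⟶ N) (y : Y)
    (h : Function.Bijective (stalkLin φ (g y))) :
    Function.Bijective (stalkLin ((Scheme.Modules.pullback g).map φ) y) := by
  let e : M.presheaf.stalk (g y) ≃ₗ[X.presheaf.stalk (g y)] N.presheaf.stalk (g y) :=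
    LinearEquiv.ofBijective (stalkLin φ (g y)) h
  have he : ∀ t, stalkLin φ (g y) (e.symm t) = t := fun t => e.apply_symm_apply t
  have he' : ∀ t, e.symm (stalkLin φ (g y) t) = t := fun t => e.symm_apply_apply t
  let ψ₀ : N.presheaf.stalk (g y) →+ ((Scheme.Modules.pullback g).obj M).presheaf.stalk y :=
    (canAdd g M y).comp e.symm.toLinearMap.toAddMonoidHom
  have hψ₀ : ∀ (r : X.presheaf.stalk (g y)) (t : N.presheaf.stalk (g y)),
      ψ₀ (r • t) = g.stalkMap y r • ψ₀ t := by
    intro r t
    refine Eq.trans ?_ (canAdd_smul g M y r (e.symm t))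
    exact congrArg (canAdd g M y) (e.symm.map_smul r t)
  let ψ := lift g ψ₀ hψ₀
  have hψ : ∀ t, ψ (canAdd g N y t) = canAdd g M y (e.symm t) := fun t => lift_canAdd g ψ₀ hψ₀ t
  have c1 : ψ.comp (stalkLin ((Scheme.Modules.pullback g).map φ) y) = LinearMap.id := by
    refine lift_unique g _ _ fun t => ?_
    rw [LinearMap.comp_apply, stalkLin_canAdd, hψ, he']
    rfl
  have c2 : (stalkLin ((Scheme.Modules.pullback g).map φ) y).comp ψ = LinearMap.id := by
    refine lift_unique g _ _ fun t => ?_
    rw [LinearMap.comp_apply, hψ, stalkLin_canAdd, he]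
    rfl
  exact ⟨fun a b hab => by
    have := congrArg ψ hab
    rwa [← LinearMap.comp_apply, ← LinearMap.comp_apply, c1] at this, fun b => ⟨ψ b, by
    rw [← LinearMap.comp_apply, c2]; rfl⟩⟩

variable [Flat g] [IsReduced X] [IsLocallyNoetherian X] [IsReduced Y] [IsLocallyNoetherian Y]

theorem StTF.pull {F : X.Modules} (hF : Coh.IsCoh F) (h : StTF F) : StTF ((Scheme.Modules.pullback g).obj F) :=
  stTF_of_isTorsionFree (Groth.Agent.FormalB.PullCoh.isCoh_pullback g hF).1
    (K22.Pull.isTorsionFree_pullback g hF h.isTorsionFree)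

theorem IsQ.pull {F G : X.Modules} {T : Set X} {π : F ⟶ G} (h : IsQ T π) :
    IsQ (pre g T) ((Scheme.Modules.pullback g).map π) := by
  have he := h.epi
  refine ⟨isGen_pre g T, inferInstance, Groth.Agent.FormalB.PullCoh.isCoh_pullback g h.coh, h.tf.pull g h.coh,
    fun y hy => ?_, fun y hy hT => ?_⟩
  · exact (stalkLin_pull_injective g π y ⟨h.inj _ hy.2, h.surj _⟩).1
  · have h1 := h.zero (g y) (K22.Pull.isGen_map g hy) fun hh => hT ⟨hy, hh⟩
    exact (K22.Pull.subsingleton_pullback_iff g G y).2 h1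

omit [IsReduced X] [IsLocallyNoetherian X] [IsReduced Y] [IsLocallyNoetherian Y] in
theorem rankOne_pull_flat {F : X.Modules} (h : RankOne F) : RankOne ((Scheme.Modules.pullback g).obj F) := by
  rw [← rankOne_iff] at h ⊢
  exact K22.Pull.isRkOne_pullback g h

end K77.TF
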