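import Groth.Agent.TFOne.K77.Total
import Groth.Agent.TFOne.K77.PullQ
import Groth.Agent.Grass.K652.LfRank

/-!
# The generic fibre of a flat quotient

`X` proper and flat over a discrete valuation ring `R`, `Z` the special fibre (reduced), `g : Y ⟶ X` a geometric
generic fibre (reduced), `p : I ⟶ F` an epimorphism of coherent flat modules whose restriction to `Z` is the torsion-free
quotient of `i^* I` on the set `T` of generic points.  Then `g^* p` is the torsion-free quotient on a set of generic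
points of `Y`.
-/

set_option autoImplicit false
universe u
open CategoryTheory CategoryTheory.Limits AlgebraicGeometry Opposite TopologicalSpace IsLocalRing

namespace K77.LemG

open Groth.Agent.CycB.StalkExact Groth.Agent.CurvesB.SubH1 Groth.Agent.Fdesc.PullbackStalk K77.TF K77.Total
  K975.FibK K975.FlatR Groth.Agent.VarietyA.StalkCrit Groth.Agent.CurvesB Groth.Agent.CurvesB.GenStalk
  Groth.Agent.CurvesB.PairLemma

section Rank

variable {X Y : Scheme.{u}} (g : Y ⟶ X) [Flat g] [IsReduced X] [IsReduced Y]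

theorem exists_isGen_above {x : X} (hx : IsGen x) (h : x ∈ Set.range g) : ∃ y : Y, IsGen y ∧ g y = x := by
  obtain ⟨y, rfl⟩ := h
  obtain ⟨y', h1, h2⟩ := DimOneTop.exists_generic_specializes y
  exact ⟨y', h1, hx _ (h2.map g.continuous)⟩

/-- Generic rank one descends at the generic points in the range. -/
theorem rankOne_of_pull {M : X.Modules} (h : RankOne ((Scheme.Modules.pullback g).obj M))
    (hr : ∀ x : X, IsGen x → x ∈ Set.range g) : RankOne M := by
  intro x hx
  obtain ⟨y, hy, rfl⟩ := exists_isGen_above g hx (hr x hx)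
  obtain ⟨e⟩ := h y hy
  let := stalkAlg g y
  have hff := K22.Pull.flat_stalk g y
  exact K22.Torsionless.exists_equiv_of_baseChange (GenStalk.isField_stalk (g y) hx)
    (GenStalk.isField_stalk y hy) ((stalkPullbackEquiv g M y).trans e)

end Rank

section Main

variable {R : Type u} [CommRing R] [IsDomain R] [IsDiscreteValuationRing R] {X : Scheme.{u}}
  (f : X ⟶ Spec (CommRingCat.of R)) [IsProper f] [Flat f] {Z : Scheme.{u}} (i : Z ⟶ X) {k : Type u} [Field k]
  {ρ : R →+* k} (hρ : Function.Surjective ρ) (q : Z ⟶ Spec (CommRingCat.of k))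
  (H : IsPullback i q f (Spec.map (CommRingCat.ofHom ρ))) [IsReduced Z]
  {I F : X.Modules} (hI : Coh.IsCoh I) (hF : Coh.IsCoh F) (hIf : FlatMod.IsFlatOver f I)
  (hFf : FlatMod.IsFlatOver f F) (p : I ⟶ F) (hI1 : RankOne I)
  {T : Set Z} (hp : IsQ T ((Scheme.Modules.pullback i).map p)) (hIt : StTF ((Scheme.Modules.pullback i).obj I))

include hρ H hI hF hIf hFf hI1 hp hIt

/-- The generic points of `X` in the support of `F`. -/
theorem isQ_total [Epi p] : IsQ {ξ : X | IsGen ξ ∧ Nontrivial (F.presheaf.stalk ξ)} p := by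
  have hred : IsReduced X := isReduced_total f i hρ q H
  have htf : StTF F := stTF_total f i hρ q H hF hFf hp.tf
  refine ⟨fun ξ hξ => hξ.1, inferInstance, hF, htf, fun ξ hξ => ?_, fun ξ hξ hT => ?_⟩
  · rcases SubMain.genSimple_of_rankOne hI1 ξ hξ.1 (LinearMap.ker (stalkLin p ξ)) with h6 | h6
    · exact LinearMap.ker_eq_bot.1 h6
    · exfalso
      have hnt := hξ.2
      rw [← not_subsingleton_iff_nontrivial] at hnt
      apply hnt
      refine ⟨fun a b => ?_⟩
      obtain ⟨a, rfl⟩ := stalkLin_surjective p ξ a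
      obtain ⟨b, rfl⟩ := stalkLin_surjective p ξ b
      have ha : a ∈ LinearMap.ker (stalkLin p ξ) := by rw [h6]; trivial
      have hb : b ∈ LinearMap.ker (stalkLin p ξ) := by rw [h6]; trivial
      rw [LinearMap.mem_ker.1 ha, LinearMap.mem_ker.1 hb]
  · by_contra hc
    rw [not_subsingleton_iff_nontrivial] at hc
    exact hT ⟨hξ, hc⟩

/-- If `T` is not everything then the support of `F` is not everything. -/
theorem exists_not_mem [Epi p] {η : Z} (hη : IsGen η) (hηT : η ∉ T)
    (hne : Nontrivial (((Scheme.Modules.pullback i).obj I).presheaf.stalk η)) :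
    ∃ ξ : X, IsGen ξ ∧ ¬ Nontrivial (F.presheaf.stalk ξ) := by
  have h := isQ_total f i hρ q H hI hF hIf hFf p hI1 hp hIt
  by_contra hc
  push Not at hc
  have htf : StTF I := stTF_total f i hρ q H hI hIf hIt
  have hm : Mono p := htf.mono p fun ξ hξ => h.inj ξ ⟨hξ, hc ξ hξ⟩
  have hiso : IsIso p := isIso_of_mono_of_epi p
  have h1 : Function.Injective (stalkLin ((Scheme.Modules.pullback i).map p) η) := stalkLin_injective _ η
  have h2 := hp.zero η hη hηT
  exact (not_subsingleton_iff_nontrivial.2 hne) h1.subsingleton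

/-- If all generic points through `z` are in `T`, then `p` is injective at `i z`. -/
theorem subsingleton_kernel {z : Z} (hz : ∀ η : Z, IsGen η → η ⤳ z → η ∈ T) :
    Subsingleton ((kernel p).presheaf.stalk (i z)) := by
  have hN : IsLocallyNoetherian X := LocallyOfFiniteType.isLocallyNoetherian f
  obtain ⟨ϖ, hϖ⟩ := IsDiscreteValuationRing.exists_irreducible R
  have hK : Coh.IsCoh (kernel p) := Groth.Agent.Sga67.CohBasic.isCoh_kernel p hI hF.1
  have hfin := Groth.Agent.CycB.CohStalk.finite_stalk (kernel p) hK (i z)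
  have hle : (⊤ : Submodule (X.presheaf.stalk (i z)) ((kernel p).presheaf.stalk (i z))) ≤
      Ideal.span {cst f (i z) ϖ} • ⊤ := by
    intro n _
    rw [Submodule.ideal_span_singleton_smul, Submodule.mem_smul_pointwise_iff_exists]
    have h1 : stalkLin p (i z) (stalkLin (kernel.ι p) (i z) n) = 0 := (mem_ker_iff p (i z) _).2 ⟨n, rfl⟩
    have h3 : canAdd i I z (stalkLin (kernel.ι p) (i z) n) = 0 := by
      refine hIt z _ fun η hηz hη => ?_
      have h4 : stalkLin ((Scheme.Modules.pullback i).map p) z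
          (canAdd i I z (stalkLin (kernel.ι p) (i z) n)) = 0 := by
        rw [stalkLin_canAdd, h1, map_zero]
      exact (hp.ker_iff z _).1 h4 η (hz η hη hηz) hηz
    obtain ⟨t, ht⟩ := (canAdd_eq_zero_iff f i hρ q H hϖ I z _).1 h3
    have h4 : stalkLin p (i z) t = 0 := by
      rw [ht, map_smul] at h1
      exact (isFlatOver_iff f hϖ F).1 hFf _ _ h1
    obtain ⟨m, hm⟩ := (mem_ker_iff p (i z) t).1 h4
    refine ⟨m, trivial, ?_⟩
    apply stalkLin_injective (kernel.ι p) (i z)
    rw [map_smul, hm, ← ht]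
  have hjac : Ideal.span {cst f (i z) ϖ} ≤ Ideal.jacobson ⊥ := by
    rw [IsLocalRing.jacobson_eq_maximalIdeal ⊥ bot_ne_top]
    exact (Ideal.span_singleton_le_iff_mem _).2 (cst_mem f i hρ q H hϖ z)
  have h5 := Submodule.eq_bot_of_le_smul_of_le_jacobson_bot _ ⊤ hfin.fg_top hle hjac
  exact (Submodule.subsingleton_iff _).1 (subsingleton_of_bot_eq_top h5.symm)

theorem nontrivial_of_specializes {z : Z} (hz : ∀ η : Z, IsGen η → η ⤳ z → η ∈ T) {ξ : X}
    (hξ : IsGen ξ) (h : ξ ⤳ i z) : Nontrivial (F.presheaf.stalk ξ) := by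
  have hN : IsLocallyNoetherian X := LocallyOfFiniteType.isLocallyNoetherian f
  have hK : Coh.IsCoh (kernel p) := Groth.Agent.Sga67.CohBasic.isCoh_kernel p hI hF.1
  have h1 := subsingleton_kernel f i hρ q H hI hF hIf hFf p hI1 hp hIt hz
  have hcl := Groth.Agent.VarietyA.GlobGen.isClosed_support (kernel p) hK.2
  have h2 : Subsingleton ((kernel p).presheaf.stalk ξ) := by
    rw [← not_mem_support_iff]
    intro hh
    exact (not_mem_support_iff (kernel p) (i z)).2 h1 (h.mem_closed hcl hh)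
  have h3 : Function.Injective (stalkLin p ξ) := by
    rw [injective_iff_map_eq_zero]
    intro s hs
    obtain ⟨t, rfl⟩ := (mem_ker_iff p ξ s).1 hs
    rw [Subsingleton.elim t 0, map_zero]
  have h4 : Nontrivial (I.presheaf.stalk ξ) := by
    have := SubMain.nontrivial_of_rankOne hI1 ξ hξ
    rwa [not_subsingleton_iff_nontrivial] at this
  exact h3.nontrivial

end Main

section Generic

variable {R : Type u} [CommRing R] [IsDomain R] [IsDiscreteValuationRing R] {X : Scheme.{u}}
  (f : X ⟶ Spec (CommRingCat.of R)) {Ω : Type u} [Field Ω] {φ : R →+* Ω} (hφ : Function.Injective φ)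
  {Y : Scheme.{u}} (g : Y ⟶ X) (qY : Y ⟶ Spec (CommRingCat.of Ω))
  (HY : IsPullback g qY f (Spec.map (CommRingCat.ofHom φ)))

include hφ in
theorem flat_spec : Flat (Spec.map (CommRingCat.ofHom φ)) := by
  obtain ⟨ϖ, hϖ⟩ := IsDiscreteValuationRing.exists_irreducible R
  rw [Flat.SpecMap_iff]
  letI := φ.toAlgebra
  refine (flat_iff_smul hϖ Ω).2 fun m hm => ?_
  have h1 : φ ϖ * m = 0 := hm
  rcases mul_eq_zero.1 h1 with h | h
  · exact absurd (hφ (h.trans (map_zero φ).symm)) hϖ.ne_zero
  · exact h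

include hφ HY in
theorem flat_g : Flat g := by
  have := flat_spec hφ
  exact MorphismProperty.of_isPullback HY.flip this

include hφ HY in
theorem mem_range_of_isGen [Flat f] {ξ : X} (hξ : IsGen ξ) : ξ ∈ Set.range g := by
  have h1 : IsGen (f ξ) := K22.Pull.isGen_map f hξ
  have h2 : (⊥ : PrimeSpectrum R) = f ξ := h1 _ ((PrimeSpectrum.le_iff_specializes _ _).1 bot_le)
  have h3 : Spec.map (CommRingCat.ofHom φ) (IsLocalRing.closedPoint Ω) = (⊥ : PrimeSpectrum R) := by
    refine PrimeSpectrum.ext ?_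
    change Ideal.comap φ (maximalIdeal Ω) = ⊥
    ext a
    rw [Ideal.mem_comap, IsLocalRing.mem_maximalIdeal, mem_nonunits_iff, isUnit_iff_ne_zero, not_not, Ideal.mem_bot]
    exact ⟨fun h => hφ (h.trans (map_zero φ).symm), fun h => by rw [h, map_zero]⟩
  obtain ⟨y, hy, -⟩ := exists_pt HY ξ (IsLocalRing.closedPoint Ω) (by rw [h3, h2])
  exact ⟨y, hy⟩

variable [IsProper f] [Flat f] {Z : Scheme.{u}} (i : Z ⟶ X) {k : Type u} [Field k]
  {ρ : R →+* k} (hρ : Function.Surjective ρ) [Z.Over (Spec (CommRingCat.of k))] [Y.Over (Spec (CommRingCat.of Ω))]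
  (H : IsPullback i (Z ↘ Spec (CommRingCat.of k)) f (Spec.map (CommRingCat.ofHom ρ))) [IsReduced Z]
  (HYo : IsPullback g (Y ↘ Spec (CommRingCat.of Ω)) f (Spec.map (CommRingCat.ofHom φ)))

include H in
omit [IsDomain R] [IsDiscreteValuationRing R] [Flat f] [IsReduced Z] in
theorem isProper_fibre : IsProper (Z ↘ Spec (CommRingCat.of k)) :=
  MorphismProperty.of_isPullback H (inferInstanceAs (IsProper f))

include hφ hρ H HYo in
/-- **The generic fibre of a flat quotient.** -/
theorem main {I F : X.Modules} (hI : Coh.IsCoh I) (hF : Coh.IsCoh F) (hIf : FlatMod.IsFlatOver f I)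
    (hFf : FlatMod.IsFlatOver f F) (p : I ⟶ F) [Epi p] {T : Set Z}
    (hp : IsQ T ((Scheme.Modules.pullback i).map p)) (hIt : TFOne.IsTF1 Z ((Scheme.Modules.pullback i).obj I))
    [IsReduced Y] (hI1 : TFOne.IsTF1 Y ((Scheme.Modules.pullback g).obj I))
    {E : X.Modules} {r : ℕ} (hE : FlatMod.IsFinLocFreeOfRank r E)
    (hψ : Psi Ω ((Scheme.Modules.pullback g).obj E) ((Scheme.Modules.pullback g).obj F) =
      Psi k ((Scheme.Modules.pullback i).obj E) ((Scheme.Modules.pullback i).obj F)) :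
    ∃ T' : Set X, (∀ ξ ∈ T', IsGen ξ) ∧
      bt Ω ((Scheme.Modules.pullback g).obj E) ((Scheme.Modules.pullback g).obj I) (pre g T') =
        bt k ((Scheme.Modules.pullback i).obj E) ((Scheme.Modules.pullback i).obj I) T ∧
      ((∃ η : Z, IsGen η ∧ η ∉ T) → ∃ y : Y, IsGen y ∧ y ∉ pre g T') ∧
      ∀ z : Z, (∀ η : Z, IsGen η → η ⤳ z → η ∈ T) → ∀ y : Y, g y ⤳ i z → ∃ y' ∈ pre g T', y' ⤳ y := by
  have hg := flat_g f hφ g _ HYo
  have hN : IsLocallyNoetherian X := LocallyOfFiniteType.isLocallyNoetherian f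
  have hpY := isProper_fibre f g HYo
  have hpZ := isProper_fibre f i H
  have hNY := Groth.Agent.Fga.SnapperTwist.isNoetherian_of_proper Ω Y
  have hNZ := Groth.Agent.Fga.SnapperTwist.isNoetherian_of_proper k Z
  have hred : IsReduced X := isReduced_total f i hρ _ H
  have hrange : ∀ ξ : X, IsGen ξ → ξ ∈ Set.range g := fun ξ hξ => mem_range_of_isGen f hφ g _ HYo hξ
  have hr1 : RankOne I := rankOne_of_pull g ((rankOne_iff _).1 hI1.2.2) hrange
  have hItf := stTF_of_isTF1 hIt
  have hQ := isQ_total f i hρ _ H hI hF hIf hFf p hr1 hp hItf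
  refine ⟨_, hQ.gen, ?_, ?_, ?_⟩
  · rw [bt_eq Ω (K652.LfRank.pullback g hE) (hQ.pull g), bt_eq k (K652.LfRank.pullback i hE) hp, hψ]
  · rintro ⟨η, hη, hηT⟩
    have hnt : Nontrivial (((Scheme.Modules.pullback i).obj I).presheaf.stalk η) := by
      have := SubMain.nontrivial_of_rankOne ((rankOne_iff _).1 hIt.2.2) η hη
      rwa [not_subsingleton_iff_nontrivial] at this
    obtain ⟨ξ, h1, h2⟩ := exists_not_mem f i hρ _ H hI hF hIf hFf p hr1 hp hItf hη hηT hnt
    obtain ⟨y, hy, rfl⟩ := exists_isGen_above g h1 (hrange ξ h1)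
    exact ⟨y, hy, fun hh => h2 hh.2.2⟩
  · intro z hz y hy
    obtain ⟨y', h1, h2⟩ := DimOneTop.exists_generic_specializes y
    have h3 : IsGen (g y') := K22.Pull.isGen_map g h1
    refine ⟨y', ⟨h1, h3, ?_⟩, h2⟩
    exact nontrivial_of_specializes f i hρ _ H hI hF hIf hFf p hr1 hp hItf hz h3 ((h2.map g.continuous).trans hy)

end Generic

end K77.LemG
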