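import Groth.Agent.TFOne.K77.Term
import Groth.Agent.Ega1.PullFormal

/-!
# Modifications do not change the generic fibre; factorization of geometric points

* `isIso_pullback_kernel`: `g^* I^Y → g^* I` is an isomorphism for every `g : Y ⟶ X` on which the uniformizer is
  invertible; `nonempty_iso_of_reach`;
* `unit_or_factor`: a morphism from the spectrum of a field to the spectrum of a discrete valuation ring inverts the
  uniformizer or factors through the closed point, compatibly with fibres.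
-/

set_option autoImplicit false
universe u
open CategoryTheory CategoryTheory.Limits AlgebraicGeometry Opposite TopologicalSpace IsLocalRing

namespace K77.GenFib

open K77.TF K77.ModSeq K77.Dvr K77.Tower Groth.Agent.CurvesB.SubH1

theorem isIso_smulModΓ_of_isUnit {Y : Scheme.{u}} (M : Y.Modules) (c : Γ(Y, ⊤)) (hc : IsUnit c) :
    IsIso (Formal.smulModΓ M (show Coh.Γtop Y from c)) := by
  obtain ⟨d, hd⟩ := hc.exists_left_inv
  have h1 : (show Coh.Γtop Y from d) * (show Coh.Γtop Y from c) = 1 := hd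
  have h2 : (show Coh.Γtop Y from c) * (show Coh.Γtop Y from d) = 1 := by
    rw [← h1]
    exact @mul_comm Γ(Y, ⊤) _ c d
  refine ⟨Formal.smulModΓ M (show Coh.Γtop Y from d), ?_, ?_⟩
  · rw [← Groth.Agent.FormalB.ModPow.smulModΓ_mul, h1, Groth.Agent.FormalB.ModPow.smulModΓ_one]
  · rw [← Groth.Agent.FormalB.ModPow.smulModΓ_mul, h2, Groth.Agent.FormalB.ModPow.smulModΓ_one]

section

variable {R : Type u} [CommRing R] [IsDomain R] [IsDiscreteValuationRing R] {X : Scheme.{u}}
  (f : X ⟶ Spec (CommRingCat.of R)) {Xs : Scheme.{u}} (i : Xs ⟶ X)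
  [Xs.Over (Spec (CommRingCat.of (IsLocalRing.ResidueField R)))]
  (hsq : IsPullback i (Xs ↘ Spec (CommRingCat.of (IsLocalRing.ResidueField R))) f
    (Spec.map (CommRingCat.ofHom (IsLocalRing.residue R))))

include hsq

/-- The uniformizer maps `I` into the modification. -/
theorem exists_m {ϖ : R} (hϖ : Irreducible ϖ) {I : X.Modules} (hI : Coh.IsQCoh I) {G : Xs.Modules}
    (π : (Scheme.Modules.pullback i).obj I ⟶ G) :
    ∃ m : I ⟶ kernel (toPush i π), m ≫ kernel.ι (toPush i π) = mulBy f I ϖ ∧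
      kernel.ι (toPush i π) ≫ m = mulBy f (kernel (toPush i π)) ϖ := by
  letI : X.Over (Spec (CommRingCat.of R)) := ⟨f⟩
  have hJ : maximalIdeal R = Ideal.span {ϖ} := (IsDiscreteValuationRing.irreducible_iff_uniformizer ϖ).1 hϖ
  obtain ⟨-, wI, -⟩ := exact_un' (A := R) ϖ hJ i
    (Xs ↘ Spec (CommRingCat.of (IsLocalRing.ResidueField R))) hsq I hI
  have hz : mulBy f I ϖ ≫ toPush i π = 0 := by
    change Formal.smulMod R I ϖ ≫ un i I ≫ (Scheme.Modules.pushforward i).map π = 0
    rw [← Category.assoc, wI, zero_comp]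
  refine ⟨kernel.lift _ _ hz, kernel.lift_ι _ _ _, ?_⟩
  rw [← cancel_mono (kernel.ι (toPush i π)), Category.assoc, kernel.lift_ι, mulBy_naturality]

theorem isIso_pullback_kernel {ϖ : R} (hϖ : Irreducible ϖ) {I : X.Modules} (hI : Coh.IsQCoh I) {G : Xs.Modules}
    (π : (Scheme.Modules.pullback i).obj I ⟶ G) {Y : Scheme.{u}} (g : Y ⟶ X)
    (hu : IsUnit (g.appTop.hom (show Γ(X, ⊤) from Coh.toGlobal f ϖ))) :
    IsIso ((Scheme.Modules.pullback g).map (kernel.ι (toPush i π))) := by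
  obtain ⟨m, h1, h2⟩ := exists_m f i hsq hϖ hI π
  have e1 : (Scheme.Modules.pullback g).map m ≫ (Scheme.Modules.pullback g).map (kernel.ι (toPush i π)) =
      Formal.smulModΓ _ (g.appTop.hom (Coh.toGlobal f ϖ)) := by
    rw [← Functor.map_comp, h1]
    exact Groth.Agent.Ega1.PullFormal.pullback_smulModΓ g I _
  have e2 : (Scheme.Modules.pullback g).map (kernel.ι (toPush i π)) ≫ (Scheme.Modules.pullback g).map m =
      Formal.smulModΓ _ (g.appTop.hom (Coh.toGlobal f ϖ)) := by
    rw [← Functor.map_comp, h2]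
    exact Groth.Agent.Ega1.PullFormal.pullback_smulModΓ g _ _
  have i1 := isIso_smulModΓ_of_isUnit ((Scheme.Modules.pullback g).obj I) _ hu
  have i2 := isIso_smulModΓ_of_isUnit ((Scheme.Modules.pullback g).obj (kernel (toPush i π))) _ hu
  have hep : Epi ((Scheme.Modules.pullback g).map (kernel.ι (toPush i π))) := by
    have : Epi ((Scheme.Modules.pullback g).map m ≫
        (Scheme.Modules.pullback g).map (kernel.ι (toPush i π))) := by
      rw [e1]; exact @IsIso.epi_of_iso _ _ _ _ _ i1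
    exact epi_of_epi ((Scheme.Modules.pullback g).map m) _
  have hmo : Mono ((Scheme.Modules.pullback g).map (kernel.ι (toPush i π))) := by
    have : Mono ((Scheme.Modules.pullback g).map (kernel.ι (toPush i π)) ≫
        (Scheme.Modules.pullback g).map m) := by
      rw [e2]; exact @IsIso.mono_of_iso _ _ _ _ _ i2
    exact mono_of_mono _ ((Scheme.Modules.pullback g).map m)
  exact isIso_of_mono_of_epi _

variable [IsProper f] [IsReduced Xs]

theorem nonempty_iso_of_mod {I I' : X.Modules} (hI : Adm f i I) {T : Set Xs} (h : IsMod i T I I')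
    {Y : Scheme.{u}} (g : Y ⟶ X)
    (hu : ∀ ϖ : R, Irreducible ϖ → IsUnit (g.appTop.hom (show Γ(X, ⊤) from Coh.toGlobal f ϖ))) :
    Nonempty ((Scheme.Modules.pullback g).obj I' ≅ (Scheme.Modules.pullback g).obj I) := by
  obtain ⟨ϖ, hϖ⟩ := IsDiscreteValuationRing.exists_irreducible R
  obtain ⟨G, π, -, rfl⟩ := h
  have := isIso_pullback_kernel f i hsq hϖ hI.coh.1 π g (hu ϖ hϖ)
  exact ⟨asIso ((Scheme.Modules.pullback g).map (kernel.ι (toPush i π)))⟩

theorem nonempty_iso_of_reach {I I' : X.Modules} (hI : Adm f i I) (h : Reach i I I')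
    {Y : Scheme.{u}} (g : Y ⟶ X)
    (hu : ∀ ϖ : R, Irreducible ϖ → IsUnit (g.appTop.hom (show Γ(X, ⊤) from Coh.toGlobal f ϖ))) :
    Nonempty ((Scheme.Modules.pullback g).obj I' ≅ (Scheme.Modules.pullback g).obj I) := by
  induction h with
  | refl => exact ⟨Iso.refl _⟩
  | step h h' ih =>
    obtain ⟨e⟩ := ih
    obtain ⟨e'⟩ := nonempty_iso_of_mod f i hsq (h.adm f i hsq hI) h' g hu
    exact ⟨e' ≪≫ e⟩

end

section Geo

variable {R : Type u} [CommRing R] {X : Scheme.{u}} (f : X ⟶ Spec (CommRingCat.of R))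

/-- Sections on fibres. -/
theorem appTop_fibre {Ω : Type u} [CommRing Ω] (φ : R →+* Ω) {Y : Scheme.{u}} (g : Y ⟶ X)
    (q : Y ⟶ Spec (CommRingCat.of Ω)) (w : g ≫ f = q ≫ Spec.map (CommRingCat.ofHom φ)) (a : R) :
    g.appTop.hom (show Γ(X, ⊤) from Coh.toGlobal f a) = (show Γ(Y, ⊤) from Coh.toGlobal q (φ a)) := by
  have h1 : g.appTop.hom (show Γ(X, ⊤) from Coh.toGlobal f a) =
      (g ≫ f).appTop.hom ((Scheme.ΓSpecIso (CommRingCat.of R)).inv.hom a) := rfl
  have h2 : (show Γ(Y, ⊤) from Coh.toGlobal q (φ a)) =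
      q.appTop.hom ((Scheme.ΓSpecIso (CommRingCat.of Ω)).inv.hom (φ a)) := rfl
  rw [h1, h2, w]
  have h3 := Scheme.ΓSpecIso_inv_naturality (CommRingCat.ofHom φ)
  have h4 : (Scheme.ΓSpecIso (CommRingCat.of Ω)).inv.hom (φ a) =
      (Spec.map (CommRingCat.ofHom φ)).appTop.hom ((Scheme.ΓSpecIso (CommRingCat.of R)).inv.hom a) :=
    congr($h3 a)
  rw [h4]
  rfl

theorem isUnit_appTop_fibre {Ω : Type u} [Field Ω] (φ : R →+* Ω) {Y : Scheme.{u}} (g : Y ⟶ X)
    (q : Y ⟶ Spec (CommRingCat.of Ω)) (w : g ≫ f = q ≫ Spec.map (CommRingCat.ofHom φ)) (a : R) (ha : φ a ≠ 0) :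
    IsUnit (g.appTop.hom (show Γ(X, ⊤) from Coh.toGlobal f a)) := by
  rw [appTop_fibre f φ g q w a]
  exact (IsUnit.mk0 (φ a) ha).map (Coh.toGlobal q)

variable [IsDomain R] [IsDiscreteValuationRing R] {Xs : Scheme.{u}} (i : Xs ⟶ X)
  [Xs.Over (Spec (CommRingCat.of (IsLocalRing.ResidueField R)))]
  (hsq : IsPullback i (Xs ↘ Spec (CommRingCat.of (IsLocalRing.ResidueField R))) f
    (Spec.map (CommRingCat.ofHom (IsLocalRing.residue R))))

include hsq

/-- A geometric fibre is a fibre over the generic point or over the closed point. -/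
theorem unit_or_factor {Ω : Type u} [Field Ω] (t : Spec (CommRingCat.of Ω) ⟶ Spec (CommRingCat.of R))
    {Y : Scheme.{u}} (g : Y ⟶ X) (q : Y ⟶ Spec (CommRingCat.of Ω)) (h : IsPullback g q f t) :
    (∃ φ : R →+* Ω, Function.Injective φ ∧ t = Spec.map (CommRingCat.ofHom φ) ∧
      ∀ ϖ : R, Irreducible ϖ → IsUnit (g.appTop.hom (show Γ(X, ⊤) from Coh.toGlobal f ϖ))) ∨
    (∃ (φ : IsLocalRing.ResidueField R →+* Ω) (g' : Y ⟶ Xs), g' ≫ i = g ∧
      t = Spec.map (CommRingCat.ofHom φ) ≫ Spec.map (CommRingCat.ofHom (IsLocalRing.residue R)) ∧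
      IsPullback g' q (Xs ↘ Spec (CommRingCat.of (IsLocalRing.ResidueField R)))
        (Spec.map (CommRingCat.ofHom φ))) := by
  let φ : R →+* Ω := (Spec.preimage t).hom
  have ht : t = Spec.map (CommRingCat.ofHom φ) := (Spec.map_preimage t).symm
  by_cases hφ : Function.Injective φ
  · refine Or.inl ⟨φ, hφ, ht, fun ϖ hϖ => ?_⟩
    refine isUnit_appTop_fibre f φ g q (by rw [h.w, ht]) ϖ fun h0 => hϖ.ne_zero (hφ (by rw [h0, map_zero]))
  · right
    have hker : maximalIdeal R ≤ RingHom.ker φ := by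
      have h1 : (RingHom.ker φ).IsPrime := RingHom.ker_isPrime φ
      have h2 : RingHom.ker φ ≠ ⊥ := fun hh => hφ ((RingHom.injective_iff_ker_eq_bot φ).2 hh)
      have h3 := IsDiscreteValuationRing.exists_irreducible R
      obtain ⟨ϖ, hϖ⟩ := h3
      have h4 : (RingHom.ker φ).IsMaximal := Ring.DimensionLEOne.maximalOfPrime h2 h1
      rw [IsLocalRing.eq_maximalIdeal h4]
    let ψ : IsLocalRing.ResidueField R →+* Ω := Ideal.Quotient.lift (maximalIdeal R) φ fun a ha => hker ha
    have hψ : ψ.comp (IsLocalRing.residue R) = φ := by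
      ext a
      rfl
    have ht' : t = Spec.map (CommRingCat.ofHom ψ) ≫ Spec.map (CommRingCat.ofHom (IsLocalRing.residue R)) := by
      rw [ht, ← Spec.map_comp, ← CommRingCat.ofHom_comp, hψ]
    have hw : g ≫ f = (q ≫ Spec.map (CommRingCat.ofHom ψ)) ≫
        Spec.map (CommRingCat.ofHom (IsLocalRing.residue R)) := by
      rw [h.w, ht', Category.assoc]
    refine ⟨ψ, hsq.lift g (q ≫ Spec.map (CommRingCat.ofHom ψ)) hw, hsq.lift_fst _ _ _, ht', ?_⟩
    refine IsPullback.of_right ?_ (hsq.lift_snd _ _ _) hsq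
    rw [hsq.lift_fst, ← ht']
    exact h

end Geo

end K77.GenFib
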