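import Groth.Agent.TFOne.K77.Term

/-!
# Termination of chains of elementary modifications, up to infinite decomposing towers

* `exists_semi_or_tower`: a semistable `I'` or an infinite decomposing tower with negative value;
* `exists_strict_or_tower`: starting from `I` semistable, a semistable `I'` strict at the component of `η`, or an
  infinite decomposing tower with value zero;
* `exists_indec_or_tower`: an indecomposable `I'` or two infinite decomposing towers along complementary sets.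
-/

set_option autoImplicit false
universe u
open CategoryTheory CategoryTheory.Limits AlgebraicGeometry Opposite TopologicalSpace IsLocalRing

namespace K77.Tower

open Groth.Agent.CurvesB Groth.Agent.CurvesB.SubH1 Groth.Agent.CurvesB.PairLemma K77.TF K77.ModSeq

variable {R : Type u} [CommRing R] [IsDomain R] [IsDiscreteValuationRing R] {X : Scheme.{u}}
  (f : X ⟶ Spec (CommRingCat.of R)) {Xs : Scheme.{u}} (i : Xs ⟶ X)
  [IsProper f] [Xs.Over (Spec (CommRingCat.of (IsLocalRing.ResidueField R)))]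
  (hsq : IsPullback i (Xs ↘ Spec (CommRingCat.of (IsLocalRing.ResidueField R))) f
    (Spec.map (CommRingCat.ofHom (IsLocalRing.residue R)))) [IsReduced Xs]
  (hdim : topologicalKrullDim Xs ≤ 1) {E : X.Modules} {r : ℕ} (hE : FlatMod.IsFinLocFreeOfRank r E)

/-- `r β` of the restriction to the special fibre. -/
noncomputable abbrev be (R : Type u) [CommRing R] [IsDomain R] [IsDiscreteValuationRing R] {X Xs : Scheme.{u}}
    (i : Xs ⟶ X) [Xs.Over (Spec (CommRingCat.of (IsLocalRing.ResidueField R)))] (E J : X.Modules) (T : Set Xs) : ℤ :=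
  bt (IsLocalRing.ResidueField R) ((Scheme.Modules.pullback i).obj E) ((Scheme.Modules.pullback i).obj J) T

/-- The total value on the special fibre. -/
noncomputable abbrev tot (R : Type u) [CommRing R] [IsDomain R] [IsDiscreteValuationRing R] {X Xs : Scheme.{u}}
    (i : Xs ⟶ X) [Xs.Over (Spec (CommRingCat.of (IsLocalRing.ResidueField R)))] (E J : X.Modules) : ℤ :=
  Psi (IsLocalRing.ResidueField R) ((Scheme.Modules.pullback i).obj E) ((Scheme.Modules.pullback i).obj J)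

/-- Decomposition of the special fibre. -/
abbrev De (R : Type u) [CommRing R] [IsDomain R] [IsDiscreteValuationRing R] {X Xs : Scheme.{u}}
    (i : Xs ⟶ X) [Xs.Over (Spec (CommRingCat.of (IsLocalRing.ResidueField R)))] (J : X.Modules) (T : Set Xs) : Prop :=
  Dec (IsLocalRing.ResidueField R) ((Scheme.Modules.pullback i).obj J) T

/-- An infinite tower of modifications along `T`, starting from `J`, all of whose members decompose at `T`. -/
def HasTower (R : Type u) [CommRing R] [IsDomain R] [IsDiscreteValuationRing R] {X Xs : Scheme.{u}}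
    (i : Xs ⟶ X) [Xs.Over (Spec (CommRingCat.of (IsLocalRing.ResidueField R)))] (J : X.Modules) (T : Set Xs) : Prop :=
  ∃ In : ℕ → X.Modules, In 0 = J ∧ ∀ n, De R i (In n) T ∧ IsMod i T (In n) (In (n + 1))

include hsq

theorem tot_mod (hE : FlatMod.IsFinLocFreeOfRank r E) (hdim : topologicalKrullDim Xs ≤ 1) {J J' : X.Modules}
    (hJ : Adm f i J) {T : Set Xs} (h : IsMod i T J J') : tot R i E J' = tot R i E J := by
  have hp := K77.Dvr.isProper_Xs R f i hsq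
  obtain ⟨G, a, b, π, hm⟩ := h.exists_mdf f i hsq hJ
  exact hm.Psi_eq (IsLocalRing.ResidueField R) (K652.LfRank.pullback i hE) hdim

theorem tot_reach (hE : FlatMod.IsFinLocFreeOfRank r E) (hdim : topologicalKrullDim Xs ≤ 1) {J J' : X.Modules}
    (hJ : Adm f i J) (h : Reach i J J') : tot R i E J' = tot R i E J := by
  induction h with
  | refl => rfl
  | step h h' ih => rw [tot_mod f i hsq hE hdim (h.adm f i hsq hJ) h', ih]

theorem be_all (hE : FlatMod.IsFinLocFreeOfRank r E) {J : X.Modules} (hJ : Adm f i J) {T : Set Xs}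
    (hT : ∀ ξ ∈ T, IsGen ξ) (hT' : ∀ ξ : Xs, IsGen ξ → ξ ∈ T) : be R i E J T = tot R i E J := by
  have hp := K77.Dvr.isProper_Xs R f i hsq
  have hn := Groth.Agent.Fga.SnapperTwist.isNoetherian_of_proper (IsLocalRing.ResidueField R) Xs
  exact bt_all _ (K652.LfRank.pullback i hE) hJ.tf1.1 (stTF_of_isTF1 hJ.tf1) hT hT'

theorem be_empty (hE : FlatMod.IsFinLocFreeOfRank r E) {J : X.Modules} (hJ : Adm f i J) :
    be R i E J ∅ = 0 := by
  have hp := K77.Dvr.isProper_Xs R f i hsq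
  have hn := Groth.Agent.Fga.SnapperTwist.isNoetherian_of_proper (IsLocalRing.ResidueField R) Xs
  exact bt_empty _ (K652.LfRank.pullback i hE) hJ.tf1.1

theorem be_submod (hE : FlatMod.IsFinLocFreeOfRank r E) (hdim : topologicalKrullDim Xs ≤ 1) {J : X.Modules}
    (hJ : Adm f i J) {A B : Set Xs} (hA : ∀ ξ ∈ A, IsGen ξ) (hB : ∀ ξ ∈ B, IsGen ξ) :
    be R i E J (A ∩ B) + be R i E J (A ∪ B) ≤ be R i E J A + be R i E J B := by
  have hp := K77.Dvr.isProper_Xs R f i hsq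
  exact bt_submod _ hdim (K652.LfRank.pullback i hE) hJ.tf1.1 hA hB

theorem finite_gens : {ξ : Xs | IsGen ξ}.Finite := by
  have hp := K77.Dvr.isProper_Xs R f i hsq
  have hn := Groth.Agent.Fga.SnapperTwist.isNoetherian_of_proper (IsLocalRing.ResidueField R) Xs
  exact SubClosed.finite_isGen Xs

theorem finite_of_gens {A : Set Xs} (hA : ∀ ξ ∈ A, IsGen ξ) : A.Finite :=
  (finite_gens f i hsq).subset hA

theorem ncard_le {A : Set Xs} (hA : ∀ ξ ∈ A, IsGen ξ) : A.ncard ≤ {ξ : Xs | IsGen ξ}.ncard :=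
  Set.ncard_le_ncard hA (finite_gens f i hsq)

/-! ### The strict case -/

/-- `T` is the least set containing `η` with value zero. -/
structure Least (R : Type u) [CommRing R] [IsDomain R] [IsDiscreteValuationRing R] {X Xs : Scheme.{u}}
    (i : Xs ⟶ X) [Xs.Over (Spec (CommRingCat.of (IsLocalRing.ResidueField R)))] (E J : X.Modules) (η : Xs)
    (T : Set Xs) : Prop where
  gen : ∀ ξ ∈ T, IsGen ξ
  mem : η ∈ T
  zero : be R i E J T = 0
  le : ∀ T' : Set Xs, (∀ ξ ∈ T', IsGen ξ) → η ∈ T' → be R i E J T' = 0 → T ⊆ T'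

theorem exists_least (hE : FlatMod.IsFinLocFreeOfRank r E) (hdim : topologicalKrullDim Xs ≤ 1) {J : X.Modules}
    (hJ : Adm f i J) (h0 : tot R i E J = 0) (hs : ∀ T : Set Xs, (∀ ξ ∈ T, IsGen ξ) → 0 ≤ be R i E J T)
    {η : Xs} (hη : IsGen η) : ∃ T, Least R i E J η T := by
  obtain ⟨T, ⟨h1, h2, h3⟩, h4⟩ := exists_min
    (fun T : Set Xs => (∀ ξ ∈ T, IsGen ξ) ∧ η ∈ T ∧ be R i E J T = 0) (fun T => T.ncard)
    ⟨{ξ | IsGen ξ}, fun ξ hξ => hξ, hη,
      (be_all f i hsq hE hJ (T := {ξ | IsGen ξ}) (fun ξ hξ => hξ) (fun ξ hξ => hξ)).trans h0⟩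
  refine ⟨T, h1, h2, h3, fun T' g1 g2 g3 => ?_⟩
  have hI : ∀ ξ ∈ T ∩ T', IsGen ξ := fun ξ hξ => h1 ξ hξ.1
  have e1 := be_submod f i hsq hE hdim hJ h1 g1
  have e2 := hs (T ∩ T') hI
  have e3 := hs (T ∪ T') fun ξ hξ => hξ.elim (h1 ξ) (g1 ξ)
  have e4 := h4 (T ∩ T') ⟨hI, ⟨h2, g2⟩, by linarith⟩
  have e5 : T ∩ T' = T := Set.eq_of_subset_of_ncard_le Set.inter_subset_left e4 (finite_of_gens f i hsq h1)
  rw [← e5]
  exact Set.inter_subset_right

/-- From a semistable module: a semistable `I'` strict at `η`, or an infinite decomposing tower of value zero. -/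
theorem exists_strict_or_tower (hr : 0 < r) (hE : FlatMod.IsFinLocFreeOfRank r E)
    (hdim : topologicalKrullDim Xs ≤ 1) {I : X.Modules} (hI : Adm f i I) (h0 : tot R i E I = 0)
    (hs : ∀ T : Set Xs, (∀ ξ ∈ T, IsGen ξ) → 0 ≤ be R i E I T) {η : Xs} (hη : IsGen η) :
    ∃ I', Reach i I I' ∧ (∀ T : Set Xs, (∀ ξ ∈ T, IsGen ξ) → 0 ≤ be R i E I' T) ∧
      ((∀ T : Set Xs, (∀ ξ ∈ T, IsGen ξ) → η ∈ T → (∃ ξ : Xs, IsGen ξ ∧ ξ ∉ T) → 0 < be R i E I' T) ∨
        ∃ T : Set Xs, (∀ ξ ∈ T, IsGen ξ) ∧ η ∈ T ∧ (∃ ξ : Xs, IsGen ξ ∧ ξ ∉ T) ∧ be R i E I' T = 0 ∧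
          HasTower R i I' T) := by
  have hp := K77.Dvr.isProper_Xs R f i hsq
  have hEs := K652.LfRank.pullback i hE
  obtain ⟨⟨J, T⟩, ⟨c1, c2, c3⟩, c4⟩ := exists_max
    (fun p : X.Modules × Set Xs => Reach i I p.1 ∧ (∀ T : Set Xs, (∀ ξ ∈ T, IsGen ξ) → 0 ≤ be R i E p.1 T) ∧
      Least R i E p.1 η p.2) (fun p => p.2.ncard) _ (fun p hp => ncard_le f i hsq hp.2.2.gen)
    (by
      obtain ⟨T, hT⟩ := exists_least f i hsq hE hdim hI h0 hs hη
      exact ⟨(I, T), Reach.refl, hs, hT⟩)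
  simp only at c1 c2 c3 c4
  by_cases hT : ∃ ξ : Xs, IsGen ξ ∧ ξ ∉ T
  · -- the tower
    have step : ∀ J', (Reach i I J' ∧ (∀ T : Set Xs, (∀ ξ ∈ T, IsGen ξ) → 0 ≤ be R i E J' T) ∧ Least R i E J' η T) →
        ∃ J'', IsMod i T J' J'' ∧ (Reach i I J'' ∧ (∀ T : Set Xs, (∀ ξ ∈ T, IsGen ξ) → 0 ≤ be R i E J'' T) ∧
          Least R i E J'' η T) ∧ De R i J'' T := by
      rintro J' ⟨d1, d2, d3⟩
      have hJ' := d1.adm f i hsq hI
      obtain ⟨J'', hm⟩ := exists_mod f i hsq hJ' d3.gen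
      obtain ⟨G, a, b, π, hm'⟩ := hm.exists_mdf f i hsq hJ'
      have e0 : tot R i E J' = 0 := (tot_reach f i hsq hE hdim hI d1).trans h0
      have s2 := (hm'.semi_iff _ hEs hdim e0 d2).2 d3.zero
      have r2 : Reach i I J'' := d1.step hm
      have hJ'' := r2.adm f i hsq hI
      obtain ⟨T'', hT''⟩ := exists_least f i hsq hE hdim hJ''
        ((tot_reach f i hsq hE hdim hI r2).trans h0) s2 hη
      have hsub : T ⊆ T'' := hm'.minZero_subset _ hEs hdim d2 d3.zero (P := fun U => η ∈ U)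
        (fun U u1 u2 u3 => d3.le U u1 u2 u3) hT''.gen ⟨d3.mem, hT''.mem⟩ hT''.zero
      have hle : T''.ncard ≤ T.ncard := c4 (J'', T'') ⟨r2, s2, hT''⟩
      have heq : T = T'' := Set.eq_of_subset_of_ncard_le hsub hle (finite_of_gens f i hsq hT''.gen)
      subst heq
      refine ⟨J'', hm, ⟨r2, s2, hT''⟩, ?_⟩
      have hn := Groth.Agent.Fga.SnapperTwist.isNoetherian_of_proper (IsLocalRing.ResidueField R) Xs
      obtain ⟨N₁, p₁, h₁⟩ := exists_isQ hm'.cohN T d3.gen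
      obtain ⟨N₂, p₂, h₂⟩ := exists_isQ hm'.cohN (cpl T) (isGen_cpl T)
      rw [De, dec_iff (IsLocalRing.ResidueField R) hdim hm'.cohN hm'.tfN h₁ h₂,
        ← hm'.bt_self_eq_iff (IsLocalRing.ResidueField R) hEs hdim hr h₁ h₂ (inter_cpl T) (mem_union_cpl T)]
      exact hT''.zero.trans d3.zero.symm
    obtain ⟨J₁, m₁, p₁, q₁⟩ := step J ⟨c1, c2, c3⟩
    obtain ⟨In, hIn0, hIn⟩ := exists_tower i T
      (fun J' => (Reach i I J' ∧ (∀ T : Set Xs, (∀ ξ ∈ T, IsGen ξ) → 0 ≤ be R i E J' T) ∧ Least R i E J' η T) ∧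
        De R i J' T)
      (fun J' hJ' => by
        obtain ⟨J'', u1, u2, u3⟩ := step J' hJ'.1
        exact ⟨J'', u1, u2, u3⟩) (J := J₁) ⟨p₁, q₁⟩
    exact ⟨J₁, p₁.1, p₁.2.1, Or.inr ⟨T, c3.gen, c3.mem, hT, p₁.2.2.zero, In, hIn0,
      fun n => ⟨(hIn n).1.2, (hIn n).2⟩⟩⟩
  · push Not at hT
    refine ⟨J, c1, c2, Or.inl fun T' t1 t2 ⟨ξ, t3, t4⟩ => ?_⟩
    rcases (c2 T' t1).lt_or_eq with h | h
    · exact h
    · exact absurd (c3.le T' t1 t2 h.symm (hT ξ t3)) t4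

/-! ### The semistable case -/

/-- `T` is the largest set on which the value is minimal. -/
structure MaxMin (R : Type u) [CommRing R] [IsDomain R] [IsDiscreteValuationRing R] {X Xs : Scheme.{u}}
    (i : Xs ⟶ X) [Xs.Over (Spec (CommRingCat.of (IsLocalRing.ResidueField R)))] (E J : X.Modules)
    (T : Set Xs) : Prop where
  gen : ∀ ξ ∈ T, IsGen ξ
  min : ∀ T' : Set Xs, (∀ ξ ∈ T', IsGen ξ) → be R i E J T ≤ be R i E J T'
  le : ∀ T' : Set Xs, (∀ ξ ∈ T', IsGen ξ) → be R i E J T' = be R i E J T → T' ⊆ T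

theorem exists_maxMin (hE : FlatMod.IsFinLocFreeOfRank r E) (hdim : topologicalKrullDim Xs ≤ 1) {J : X.Modules}
    (hJ : Adm f i J) : ∃ T, MaxMin R i E J T := by
  have hfin := finite_gens f i hsq
  -- a minimizer
  obtain ⟨T₀, g1, g2⟩ : ∃ T₀ : Set Xs, (∀ ξ ∈ T₀, IsGen ξ) ∧
      ∀ T' : Set Xs, (∀ ξ ∈ T', IsGen ξ) → be R i E J T₀ ≤ be R i E J T' := by
    have h1 : {T : Set Xs | ∀ ξ ∈ T, IsGen ξ}.Finite := hfin.finite_subsets
    obtain ⟨T₀, h2, h3⟩ := Set.exists_min_image _ (fun T => be R i E J T) h1 ⟨∅, fun ξ hξ => absurd hξ (Set.notMem_empty _)⟩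
    exact ⟨T₀, h2, fun T' hT' => h3 T' hT'⟩
  obtain ⟨T, ⟨h1, h2⟩, h4⟩ := exists_max
    (fun T : Set Xs => (∀ ξ ∈ T, IsGen ξ) ∧ be R i E J T = be R i E J T₀) (fun T => T.ncard) _
    (fun T hT => ncard_le f i hsq hT.1) ⟨T₀, g1, rfl⟩
  refine ⟨T, h1, fun T' hT' => by rw [h2]; exact g2 T' hT', fun T' t1 t2 => ?_⟩
  have hI : ∀ ξ ∈ T ∩ T', IsGen ξ := fun ξ hξ => h1 ξ hξ.1
  have hU : ∀ ξ ∈ T ∪ T', IsGen ξ := fun ξ hξ => hξ.elim (h1 ξ) (t1 ξ)
  have e1 := be_submod f i hsq hE hdim hJ h1 t1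
  have e2 := g2 (T ∩ T') hI
  have e3 := g2 (T ∪ T') hU
  have e4 := h4 (T ∪ T') ⟨hU, by linarith⟩
  have e5 : T = T ∪ T' := Set.eq_of_subset_of_ncard_le Set.subset_union_left e4 (finite_of_gens f i hsq hU)
  rw [e5]
  exact Set.subset_union_right

/-- A semistable `I'` or an infinite decomposing tower of negative value. -/
theorem exists_semi_or_tower (hr : 0 < r) (hE : FlatMod.IsFinLocFreeOfRank r E)
    (hdim : topologicalKrullDim Xs ≤ 1) {I : X.Modules} (hI : Adm f i I) (h0 : tot R i E I = 0) :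
    ∃ I', Reach i I I' ∧
      ((∀ T : Set Xs, (∀ ξ ∈ T, IsGen ξ) → 0 ≤ be R i E I' T) ∨
        ∃ T : Set Xs, (∀ ξ ∈ T, IsGen ξ) ∧ be R i E I' T < 0 ∧ HasTower R i I' T) := by
  have hp := K77.Dvr.isProper_Xs R f i hsq
  have hEs := K652.LfRank.pullback i hE
  -- maximize the minimum
  obtain ⟨⟨J₀, T₀⟩, ⟨a1, a2⟩, a3⟩ := exists_min
    (fun p : X.Modules × Set Xs => Reach i I p.1 ∧ MaxMin R i E p.1 p.2) (fun p => (-(be R i E p.1 p.2)).toNat)
    (by
      obtain ⟨T, hT⟩ := exists_maxMin f i hsq hE hdim hI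
      exact ⟨(I, T), Reach.refl, hT⟩)
  obtain ⟨⟨J, T⟩, ⟨c1, c2, c3⟩, c4⟩ := exists_min
    (fun p : X.Modules × Set Xs => Reach i I p.1 ∧ MaxMin R i E p.1 p.2 ∧ be R i E p.1 p.2 = be R i E J₀ T₀)
    (fun p => p.2.ncard) ⟨(J₀, T₀), a1, a2, rfl⟩
  simp only at a1 a2 a3 c1 c2 c3 c4
  have hle0 : be R i E J₀ T₀ ≤ 0 := by
    have := a2.min ∅ (fun ξ hξ => absurd hξ (Set.notMem_empty _))
    rwa [be_empty f i hsq hE (a1.adm f i hsq hI)] at this
  rcases hle0.lt_or_eq with hlt | heq0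
  · have step : ∀ J', (Reach i I J' ∧ MaxMin R i E J' T ∧ be R i E J' T = be R i E J₀ T₀) →
        ∃ J'', IsMod i T J' J'' ∧ (Reach i I J'' ∧ MaxMin R i E J'' T ∧ be R i E J'' T = be R i E J₀ T₀) ∧
          De R i J'' T := by
      rintro J' ⟨d1, d2, d3⟩
      have hJ' := d1.adm f i hsq hI
      obtain ⟨J'', hm⟩ := exists_mod f i hsq hJ' d2.gen
      obtain ⟨G, a, b, π, hm'⟩ := hm.exists_mdf f i hsq hJ'
      have e0 : tot R i E J' = 0 := (tot_reach f i hsq hE hdim hI d1).trans h0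
      have r2 : Reach i I J'' := d1.step hm
      have hJ'' := r2.adm f i hsq hI
      obtain ⟨T'', hT''⟩ := exists_maxMin f i hsq hE hdim hJ''
      have hTne : T.Nonempty := by
        rw [Set.nonempty_iff_ne_empty]
        rintro rfl
        rw [be_empty f i hsq hE hJ'] at d3
        omega
      obtain ⟨m1, m2⟩ := hm'.min_max _ hEs hdim hTne
        (fun U u1 u2 => (be_all f i hsq hE hJ' u1 u2).trans e0) (fun U u1 _ => d2.min U u1)
        (fun U u1 _ u3 => d2.le U u1 u3) (S := T'') hT''.gen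
      have m1' : be R i E J₀ T₀ ≤ be R i E J'' T'' := by rw [← d3]; exact m1
      have hle : be R i E J'' T'' ≤ 0 := by
        have := hT''.min ∅ (fun ξ hξ => absurd hξ (Set.notMem_empty _))
        rwa [be_empty f i hsq hE hJ''] at this
      have m3 := a3 (J'', T'') ⟨r2, hT''⟩
      simp only at m3
      have m4 : be R i E J'' T'' = be R i E J₀ T₀ := by omega
      have hsub : T'' ⊆ T := m2 (by rw [← d3] at m4; exact m4)
      have hle' : T.ncard ≤ T''.ncard := c4 (J'', T'') ⟨r2, hT'', m4⟩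
      have heq : T'' = T := Set.eq_of_subset_of_ncard_le hsub hle' (finite_of_gens f i hsq d2.gen)
      subst heq
      refine ⟨J'', hm, ⟨r2, hT'', m4⟩, ?_⟩
      have hn := Groth.Agent.Fga.SnapperTwist.isNoetherian_of_proper (IsLocalRing.ResidueField R) Xs
      obtain ⟨N₁, p₁, h₁⟩ := exists_isQ hm'.cohN T'' d2.gen
      obtain ⟨N₂, p₂, h₂⟩ := exists_isQ hm'.cohN (cpl T'') (isGen_cpl T'')
      rw [De, dec_iff (IsLocalRing.ResidueField R) hdim hm'.cohN hm'.tfN h₁ h₂,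
        ← hm'.bt_self_eq_iff (IsLocalRing.ResidueField R) hEs hdim hr h₁ h₂ (inter_cpl T'') (mem_union_cpl T'')]
      exact m4.trans d3.symm
    obtain ⟨J₁, m₁, p₁, q₁⟩ := step J ⟨c1, c2, c3⟩
    obtain ⟨In, hIn0, hIn⟩ := exists_tower i T
      (fun J' => (Reach i I J' ∧ MaxMin R i E J' T ∧ be R i E J' T = be R i E J₀ T₀) ∧ De R i J' T)
      (fun J' hJ' => by
        obtain ⟨J'', u1, u2, u3⟩ := step J' hJ'.1
        exact ⟨J'', u1, u2, u3⟩) (J := J₁) ⟨p₁, q₁⟩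
    exact ⟨J₁, p₁.1, Or.inr ⟨T, c2.gen, by rw [p₁.2.2]; exact hlt, In, hIn0,
      fun n => ⟨(hIn n).1.2, (hIn n).2⟩⟩⟩
  · exact ⟨J₀, a1, Or.inl fun T' hT' => by rw [← heq0]; exact a2.min T' hT'⟩

/-! ### The indecomposable case -/

/-- A module with indecomposable special fibre or two infinite decomposing towers; `Q` is any property preserved by
modifications along decomposing sets. -/
theorem exists_indec_or_tower (hE : FlatMod.IsFinLocFreeOfRank r E) (hdim : topologicalKrullDim Xs ≤ 1)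
    (Q : X.Modules → Prop) {I : X.Modules} (hI : Adm f i I) (hQI : Q I)
    (hQ : ∀ (J J' : X.Modules) (T : Set Xs), Adm f i J → Reach i I J → Q J → (∀ ξ ∈ T, IsGen ξ) → De R i J T →
      IsMod i T J J' → Q J') :
    ∃ I', Reach i I I' ∧ Q I' ∧
      ((∀ T : Set Xs, (∀ ξ ∈ T, IsGen ξ) → T.Nonempty → (∃ ξ : Xs, IsGen ξ ∧ ξ ∉ T) → ¬ De R i I' T) ∨
        ∃ T : Set Xs, (∀ ξ ∈ T, IsGen ξ) ∧ T.Nonempty ∧ (∃ ξ : Xs, IsGen ξ ∧ ξ ∉ T) ∧
          HasTower R i I' T ∧ HasTower R i I' (cpl T)) := by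
  have hp := K77.Dvr.isProper_Xs R f i hsq
  have hEs := K652.LfRank.pullback i hE
  let D : X.Modules → Set (Set Xs) := fun J => {T | (∀ ξ ∈ T, IsGen ξ) ∧ De R i J T}
  have hDfin : ∀ J, (D J).Finite := fun J =>
    ((finite_gens f i hsq).finite_subsets).subset fun T hT => hT.1
  obtain ⟨J, ⟨c1, c2⟩, c3⟩ := exists_min (fun J => Reach i I J ∧ Q J) (fun J => (D J).ncard)
    ⟨I, Reach.refl, hQI⟩
  by_cases hc : ∀ T : Set Xs, (∀ ξ ∈ T, IsGen ξ) → T.Nonempty → (∃ ξ : Xs, IsGen ξ ∧ ξ ∉ T) → ¬ De R i J T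
  · exact ⟨J, c1, c2, Or.inl hc⟩
  · push Not at hc
    obtain ⟨T, t1, t2, t3, t4⟩ := hc
    have step : ∀ (S : Set Xs), S ∈ D J → ∀ J', (Reach i I J' ∧ Q J' ∧ D J' = D J) →
        ∃ J'', IsMod i S J' J'' ∧ (Reach i I J'' ∧ Q J'' ∧ D J'' = D J) := by
      rintro S hS J' ⟨d1, d2, d3⟩
      have hJ' := d1.adm f i hsq hI
      have hSJ' : S ∈ D J' := by rw [d3]; exact hS
      obtain ⟨J'', hm⟩ := exists_mod f i hsq hJ' hS.1
      obtain ⟨G, a, b, π, hm'⟩ := hm.exists_mdf f i hsq hJ'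
      have r2 : Reach i I J'' := d1.step hm
      have q2 : Q J'' := hQ J' J'' S hJ' d1 d2 hS.1 hSJ'.2 hm
      have hsub : D J'' ⊆ D J' := fun U hU => ⟨hU.1, hm'.dec_of_dec _ hdim hEs hSJ'.2 hU.1 hU.2⟩
      have hle : (D J).ncard ≤ (D J'').ncard := c3 J'' ⟨r2, q2⟩
      rw [← d3] at hle
      exact ⟨J'', hm, r2, q2, (Set.eq_of_subset_of_ncard_le hsub hle (hDfin J')).trans d3⟩
    have tower : ∀ S : Set Xs, S ∈ D J → HasTower R i J S := by
      intro S hS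
      obtain ⟨In, hIn0, hIn⟩ := exists_tower i S (fun J' => Reach i I J' ∧ Q J' ∧ D J' = D J) (step S hS)
        (J := J) ⟨c1, c2, rfl⟩
      refine ⟨In, hIn0, fun n => ⟨?_, (hIn n).2⟩⟩
      have : S ∈ D (In n) := by rw [(hIn n).1.2.2]; exact hS
      exact this.2
    exact ⟨J, c1, c2, Or.inr ⟨T, t1, t2, t3, tower T ⟨t1, t4⟩,
      tower (cpl T) ⟨isGen_cpl T, t4.cpl _ t1⟩⟩⟩

/-- Semistability is preserved by modifications along decomposing sets. -/
theorem semi_of_dec (hE : FlatMod.IsFinLocFreeOfRank r E) (hdim : topologicalKrullDim Xs ≤ 1) {J J' : X.Modules}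
    {T : Set Xs} (hJ : Adm f i J) (h0 : tot R i E J = 0)
    (hs : ∀ T : Set Xs, (∀ ξ ∈ T, IsGen ξ) → 0 ≤ be R i E J T) (hT : ∀ ξ ∈ T, IsGen ξ) (hd : De R i J T)
    (hm : IsMod i T J J') : ∀ T : Set Xs, (∀ ξ ∈ T, IsGen ξ) → 0 ≤ be R i E J' T := by
  have hp := K77.Dvr.isProper_Xs R f i hsq
  have hn := Groth.Agent.Fga.SnapperTwist.isNoetherian_of_proper (IsLocalRing.ResidueField R) Xs
  have hEs := K652.LfRank.pullback i hE
  obtain ⟨G, a, b, π, hm'⟩ := hm.exists_mdf f i hsq hJ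
  have e1 := dec_bt _ hdim hEs hT hJ.tf1.1 (stTF_of_isTF1 hJ.tf1) hd
  have e2 := hs T hT
  have e3 := hs (cpl T) (isGen_cpl T)
  refine (hm'.semi_iff _ hEs hdim h0 hs).2 ?_
  have : bt (IsLocalRing.ResidueField R) ((Scheme.Modules.pullback i).obj E) ((Scheme.Modules.pullback i).obj J) T +
    bt (IsLocalRing.ResidueField R) ((Scheme.Modules.pullback i).obj E) ((Scheme.Modules.pullback i).obj J) (cpl T) = 0 :=
    e1.trans h0
  linarith

end K77.Tower
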