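import Groth.Agent.TFOne.K77.Closed
import Groth.Agent.TFOne.K77.GenFib
import Groth.Agent.TFOne.K77.Term2
import Groth.Agent.S0018

/-!
# From the special fibre and the generic fibre to all geometric fibres

`I'` reachable from the relatively torsion-free rank-one module `I` by elementary modifications.

* `adm_of_isRelTF1`, `isRelTF1_of_reach`, `nonempty_iso_generic`;
* `fibSemistable_of_reach`, `fibQuasistable_of_reach`.
-/

set_option autoImplicit false
universe u
open CategoryTheory CategoryTheory.Limits AlgebraicGeometry Opposite TopologicalSpace IsLocalRing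

namespace K77.Transfer

open Groth.Agent.CurvesB.SubH1 K77.TF Groth.Agent.CurvesB Groth.Agent.CurvesB.PairLemma K77.Tower K77.GenFib

/-- `g'^* i^* M ≅ g^* M` for `g = g' ≫ i`. -/
theorem nonempty_compIso {W Y X : Scheme.{u}} {g' : W ⟶ Y} {i : Y ⟶ X} {g : W ⟶ X} (h : g' ≫ i = g)
    (M : X.Modules) : Nonempty ((Scheme.Modules.pullback g').obj ((Scheme.Modules.pullback i).obj M) ≅
      (Scheme.Modules.pullback g).obj M) := by
  subst h
  exact ⟨(Scheme.Modules.pullbackComp g' i).app M⟩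

section Main

variable {R : Type u} [CommRing R] [IsDomain R] [IsDiscreteValuationRing R] {X : Scheme.{u}}
  (f : X ⟶ Spec (CommRingCat.of R)) [Flat f] [IsProper f] {Xs : Scheme.{u}}
  [Xs.Over (Spec (CommRingCat.of (IsLocalRing.ResidueField R)))] (i : Xs ⟶ X)
  (hsq : IsPullback i (Xs ↘ Spec (CommRingCat.of (IsLocalRing.ResidueField R))) f
    (Spec.map (CommRingCat.ofHom (IsLocalRing.residue R)))) [IsReduced Xs]
  (hgi : ∀ (C : Set Xs) (hC : C ∈ irreducibleComponents (Xs : Type u)),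
    GeometricallyIntegral (VecSt.subschι Xs C (isClosed_of_mem_irreducibleComponents C hC) ≫
      (Xs ↘ Spec (CommRingCat.of (IsLocalRing.ResidueField R)))))

include hsq hgi in
theorem adm_of_isRelTF1 {I : X.Modules} (hI : TFOne.IsRelTF1 f I) : Adm f i I := by
  have hN : IsLocallyNoetherian X := LocallyOfFiniteType.isLocallyNoetherian f
  have hcoh : Coh.IsCoh I := (Groth.Agent.S0018.result X I).2 hI.2.1
  have hp := K77.Dvr.isProper_Xs R f i hsq
  have hNs := Groth.Agent.Fga.SnapperTwist.isNoetherian_of_proper (IsLocalRing.ResidueField R) Xs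
  refine ⟨hcoh, hI.1, ?_⟩
  let φ := algebraMap (IsLocalRing.ResidueField R) (AlgebraicClosure (IsLocalRing.ResidueField R))
  let s := Spec.map (CommRingCat.ofHom φ)
  let q₀ := Xs ↘ Spec (CommRingCat.of (IsLocalRing.ResidueField R))
  have hpb : IsPullback (pullback.fst q₀ s) (pullback.snd q₀ s) q₀ s := IsPullback.of_hasPullback _ _
  have h1 := hI.2.2 (AlgebraicClosure (IsLocalRing.ResidueField R)) _ _ _ _ (hpb.paste_horiz hsq)
  obtain ⟨e⟩ := nonempty_compIso (g' := pullback.fst q₀ s) (i := i) rfl I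
  have hfl := FieldExt.flat _ _ _ hpb
  have hsu := FieldExt.surjective _ _ _ hpb
  have hred : IsReduced (pullback q₀ s) := FieldExt.isReduced _ _ _ hpb hgi
  exact K22.Pull.isTF1_of_pullback (pullback.fst q₀ s) (Groth.Agent.FormalB.PullCoh.isCoh_pullback i hcoh)
    (Iso.isTF1 e.symm h1)

include hsq in
theorem isRelTF1_of_reach {I I' : X.Modules} (hI : TFOne.IsRelTF1 f I) (hA : Adm f i I) (hR : Reach i I I') :
    TFOne.IsRelTF1 f I' := by
  have hN : IsLocallyNoetherian X := LocallyOfFiniteType.isLocallyNoetherian f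
  have hp := K77.Dvr.isProper_Xs R f i hsq
  have hNs := Groth.Agent.Fga.SnapperTwist.isNoetherian_of_proper (IsLocalRing.ResidueField R) Xs
  have hA' := hR.adm f i hsq hA
  refine ⟨hA'.flat, (Groth.Agent.S0018.result X I').1 hA'.coh, ?_⟩
  intro Ω _ _ t Y g q h
  rcases unit_or_factor f i hsq t g q h with ⟨φ, -, -, hu⟩ | ⟨φ, g', hg', -, hpb⟩
  · obtain ⟨e⟩ := nonempty_iso_of_reach f i hsq hA hR g hu
    exact Iso.isTF1 e.symm (hI.2.2 Ω t Y g q h)
  · obtain ⟨e⟩ := nonempty_compIso hg' I'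
    have hfl := FieldExt.flat _ _ _ hpb
    exact Iso.isTF1 e (K22.Pull.isTF1_pullback g' hA'.tf1)

include hsq in
omit [Flat f] in
theorem nonempty_iso_generic {I I' : X.Modules} (hA : Adm f i I) (hR : Reach i I I') {Ω : Type u} [Field Ω]
    {φ : R →+* Ω} (hφ : Function.Injective φ) {Y : Scheme.{u}} (g : Y ⟶ X) (q : Y ⟶ Spec (CommRingCat.of Ω))
    (h : IsPullback g q f (Spec.map (CommRingCat.ofHom φ))) :
    Nonempty ((Scheme.Modules.pullback g).obj I' ≅ (Scheme.Modules.pullback g).obj I) :=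
  nonempty_iso_of_reach f i hsq hA hR g fun ϖ hϖ => isUnit_appTop_fibre f φ g q h.w ϖ fun h0 =>
    hϖ.ne_zero (hφ (h0.trans (map_zero φ).symm))

end Main

section Generic

variable {R : Type u} [CommRing R] [IsDomain R] {X : Scheme.{u}}
  (f : X ⟶ Spec (CommRingCat.of R)) {Xg : Scheme.{u}} [Xg.Over (Spec (CommRingCat.of (FractionRing R)))] (j : Xg ⟶ X)
  (hgen : IsPullback j (Xg ↘ Spec (CommRingCat.of (FractionRing R))) f
    (Spec.map (CommRingCat.ofHom (algebraMap R (FractionRing R)))))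

include hgen in
/-- A fibre over a field containing `R` is a fibre of the generic fibre. -/
theorem exists_lift {Ω : Type u} [Field Ω] {φ : R →+* Ω} (hφ : Function.Injective φ) {Y : Scheme.{u}} (g : Y ⟶ X)
    (q : Y ⟶ Spec (CommRingCat.of Ω)) (h : IsPullback g q f (Spec.map (CommRingCat.ofHom φ))) :
    ∃ (ψ : FractionRing R →+* Ω) (g' : Y ⟶ Xg), ψ.comp (algebraMap R (FractionRing R)) = φ ∧ g' ≫ j = g ∧
      IsPullback g' q (Xg ↘ Spec (CommRingCat.of (FractionRing R))) (Spec.map (CommRingCat.ofHom ψ)) := by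
  let ψ : FractionRing R →+* Ω := IsLocalization.lift (M := nonZeroDivisors R) (g := φ) fun y =>
    IsUnit.mk0 _ fun h0 => nonZeroDivisors.ne_zero y.2 (hφ (h0.trans (map_zero φ).symm))
  have hψ : ψ.comp (algebraMap R (FractionRing R)) = φ := IsLocalization.lift_comp _
  have ht : Spec.map (CommRingCat.ofHom φ) = Spec.map (CommRingCat.ofHom ψ) ≫
      Spec.map (CommRingCat.ofHom (algebraMap R (FractionRing R))) := by
    rw [← Spec.map_comp, ← CommRingCat.ofHom_comp, hψ]
  have hw : g ≫ f = (q ≫ Spec.map (CommRingCat.ofHom ψ)) ≫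
      Spec.map (CommRingCat.ofHom (algebraMap R (FractionRing R))) := by
    rw [h.w, ht, Category.assoc]
  refine ⟨ψ, hgen.lift g (q ≫ Spec.map (CommRingCat.ofHom ψ)) hw, hψ, hgen.lift_fst _ _ _, ?_⟩
  refine IsPullback.of_right ?_ (hgen.lift_snd _ _ _) hgen
  rw [hgen.lift_fst, ← ht]
  exact h

include hgen in
theorem isSemistable_generic {I E : X.Modules} {r : ℕ}
    (hIg : TFOne.FibSemistable (Xg ↘ Spec (CommRingCat.of (FractionRing R)))
      ((Scheme.Modules.pullback j).obj I) ((Scheme.Modules.pullback j).obj E) r)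
    {Ω : Type u} [Field Ω] [IsAlgClosed Ω] {φ : R →+* Ω} (hφ : Function.Injective φ) {Y : Scheme.{u}} (g : Y ⟶ X)
    (q : Y ⟶ Spec (CommRingCat.of Ω)) (h : IsPullback g q f (Spec.map (CommRingCat.ofHom φ))) :
    TFOne.IsSemistable Y Ω q ((Scheme.Modules.pullback g).obj I) ((Scheme.Modules.pullback g).obj E) r := by
  obtain ⟨ψ, g', -, h1, h2⟩ := exists_lift f j hgen hφ g q h
  obtain ⟨e⟩ := nonempty_compIso h1 I
  obtain ⟨e'⟩ := nonempty_compIso h1 E
  exact Iso.isSemistable Ω q e e' r (hIg Ω _ Y g' q h2)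

include hgen in
theorem isSimple_generic {I : X.Modules}
    (hIg : TFOne.FibSimple (Xg ↘ Spec (CommRingCat.of (FractionRing R))) ((Scheme.Modules.pullback j).obj I))
    {Ω : Type u} [Field Ω] [IsAlgClosed Ω] {φ : R →+* Ω} (hφ : Function.Injective φ) {Y : Scheme.{u}} (g : Y ⟶ X)
    (q : Y ⟶ Spec (CommRingCat.of Ω)) (h : IsPullback g q f (Spec.map (CommRingCat.ofHom φ))) :
    TFOne.IsSimple Y Ω q ((Scheme.Modules.pullback g).obj I) := by
  obtain ⟨ψ, g', -, h1, h2⟩ := exists_lift f j hgen hφ g q h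
  obtain ⟨e⟩ := nonempty_compIso h1 I
  exact Iso.isSimple Ω q e (hIg Ω _ Y g' q h2)

include hgen in
theorem isQuasistable_generic {I E : X.Modules} {r : ℕ} {σ : Spec (CommRingCat.of R) ⟶ X}
    {σg : Spec (CommRingCat.of (FractionRing R)) ⟶ Xg}
    (hσg : σg ≫ (Xg ↘ Spec (CommRingCat.of (FractionRing R))) = 𝟙 _)
    (hσgj : σg ≫ j = Spec.map (CommRingCat.ofHom (algebraMap R (FractionRing R))) ≫ σ)
    (hIg : TFOne.FibQuasistableAlong (Xg ↘ Spec (CommRingCat.of (FractionRing R)))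
      ((Scheme.Modules.pullback j).obj I) ((Scheme.Modules.pullback j).obj E) σg hσg r)
    {Ω : Type u} [Field Ω] [IsAlgClosed Ω] {φ : R →+* Ω} (hφ : Function.Injective φ) {Y : Scheme.{u}} (g : Y ⟶ X)
    (q : Y ⟶ Spec (CommRingCat.of Ω)) (h : IsPullback g q f (Spec.map (CommRingCat.ofHom φ)))
    (y : Spec (CommRingCat.of Ω) ⟶ Y) (hy1 : y ≫ g = Spec.map (CommRingCat.ofHom φ) ≫ σ) (hy2 : y ≫ q = 𝟙 _) :
    TFOne.IsQuasistableAtPt Y Ω q ((Scheme.Modules.pullback g).obj I) ((Scheme.Modules.pullback g).obj E) r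
      (y.base (IsLocalRing.closedPoint Ω)) := by
  obtain ⟨ψ, g', h0, h1, h2⟩ := exists_lift f j hgen hφ g q h
  obtain ⟨e⟩ := nonempty_compIso h1 I
  obtain ⟨e'⟩ := nonempty_compIso h1 E
  have ht : Spec.map (CommRingCat.ofHom φ) = Spec.map (CommRingCat.ofHom ψ) ≫
      Spec.map (CommRingCat.ofHom (algebraMap R (FractionRing R))) := by
    rw [← Spec.map_comp, ← CommRingCat.ofHom_comp, h0]
  have hyg : y ≫ g' = Spec.map (CommRingCat.ofHom ψ) ≫ σg := by
    apply hgen.hom_ext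
    · rw [Category.assoc, h1, hy1, Category.assoc, hσgj, ← Category.assoc, ← ht]
    · rw [Category.assoc, h2.w, ← Category.assoc, hy2, Category.id_comp, Category.assoc, hσg, Category.comp_id]
  exact Iso.isQuasistableAtPt Ω q e e' r _ (hIg Ω _ Y g' q h2 y hyg hy2)

end Generic

section Fib

variable {R : Type u} [CommRing R] [IsDomain R] [IsDiscreteValuationRing R] {X : Scheme.{u}}
  (f : X ⟶ Spec (CommRingCat.of R)) [Flat f] [IsProper f] {Xs : Scheme.{u}}
  [Xs.Over (Spec (CommRingCat.of (IsLocalRing.ResidueField R)))] (i : Xs ⟶ X)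
  (hsq : IsPullback i (Xs ↘ Spec (CommRingCat.of (IsLocalRing.ResidueField R))) f
    (Spec.map (CommRingCat.ofHom (IsLocalRing.residue R)))) [IsReduced Xs]
  (hgi : ∀ (C : Set Xs) (hC : C ∈ irreducibleComponents (Xs : Type u)),
    GeometricallyIntegral (VecSt.subschι Xs C (isClosed_of_mem_irreducibleComponents C hC) ≫
      (Xs ↘ Spec (CommRingCat.of (IsLocalRing.ResidueField R)))))
  {Xg : Scheme.{u}} [Xg.Over (Spec (CommRingCat.of (FractionRing R)))] (j : Xg ⟶ X)
  (hgen : IsPullback j (Xg ↘ Spec (CommRingCat.of (FractionRing R))) f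
    (Spec.map (CommRingCat.ofHom (algebraMap R (FractionRing R)))))
  (hdim : topologicalKrullDim Xs ≤ 1)
  {I I' E : X.Modules} {r : ℕ} (hE : FlatMod.IsFinLocFreeOfRank r E) (hA : Adm f i I) (hR : Reach i I I')
  (hs : ∀ T : Set Xs, (∀ ξ ∈ T, IsGen ξ) → 0 ≤ be R i E I' T)
  (hψ : ∀ (Ω : Type u) [Field Ω] (φ : IsLocalRing.ResidueField R →+* Ω) (Y : Scheme.{u})
    [Y.Over (Spec (CommRingCat.of Ω))] (g' : Y ⟶ Xs),
    IsPullback g' (Y ↘ Spec (CommRingCat.of Ω)) (Xs ↘ Spec (CommRingCat.of (IsLocalRing.ResidueField R)))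
      (Spec.map (CommRingCat.ofHom φ)) → ∀ G : Xs.Modules, Coh.IsCoh G →
    Psi Ω ((Scheme.Modules.pullback g').obj ((Scheme.Modules.pullback i).obj E))
      ((Scheme.Modules.pullback g').obj G) = Psi (IsLocalRing.ResidueField R) ((Scheme.Modules.pullback i).obj E) G)

include hsq hgi hgen hdim hE hA hR hs hψ

omit [Flat f] in
theorem fibSemistable_of_reach
    (hIg : TFOne.FibSemistable (Xg ↘ Spec (CommRingCat.of (FractionRing R)))
      ((Scheme.Modules.pullback j).obj I) ((Scheme.Modules.pullback j).obj E) r) :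
    TFOne.FibSemistable f I' E r := by
  have hp := K77.Dvr.isProper_Xs R f i hsq
  have hA' := hR.adm f i hsq hA
  intro Ω _ _ t Y g q h
  rcases unit_or_factor f i hsq t g q h with ⟨φ, hφ, rfl, hu⟩ | ⟨φ, g', hg', -, hpb⟩
  · obtain ⟨e⟩ := nonempty_iso_of_reach f i hsq hA hR g hu
    exact Iso.isSemistable Ω q e.symm (CategoryTheory.Iso.refl _) r (isSemistable_generic f j hgen hIg hφ g q h)
  · obtain ⟨e⟩ := nonempty_compIso hg' I'
    obtain ⟨e'⟩ := nonempty_compIso hg' E
    let : Y.Over (Spec (CommRingCat.of Ω)) := ⟨q⟩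
    have hpb' : IsPullback g' (Y ↘ Spec (CommRingCat.of Ω))
      (Xs ↘ Spec (CommRingCat.of (IsLocalRing.ResidueField R))) (Spec.map (CommRingCat.ofHom φ)) := hpb
    exact Iso.isSemistable Ω q e e' r (Closed.isSemistable_pull hgi g' hpb' (K652.LfRank.pullback i hE) hA'.tf1
      (hψ Ω φ Y g' hpb') hdim hs)

theorem fibQuasistable_of_reach {σ : Spec (CommRingCat.of R) ⟶ X} (hσ : σ ≫ f = 𝟙 _)
    {σg : Spec (CommRingCat.of (FractionRing R)) ⟶ Xg}
    (hσg : σg ≫ (Xg ↘ Spec (CommRingCat.of (FractionRing R))) = 𝟙 _)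
    (hσgj : σg ≫ j = Spec.map (CommRingCat.ofHom (algebraMap R (FractionRing R))) ≫ σ)
    (hIg : TFOne.FibQuasistableAlong (Xg ↘ Spec (CommRingCat.of (FractionRing R)))
      ((Scheme.Modules.pullback j).obj I) ((Scheme.Modules.pullback j).obj E) σg hσg r) {η : Xs}
    (hη : ∀ ξ : Xs, IsGen ξ → i ξ ⤳ σ (IsLocalRing.closedPoint R) → ξ = η)
    (hst : ∀ T : Set Xs, (∀ ξ ∈ T, IsGen ξ) → η ∈ T → (∃ ξ : Xs, IsGen ξ ∧ ξ ∉ T) → 0 < be R i E I' T) :
    TFOne.FibQuasistableAlong f I' E σ hσ r := by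
  have hp := K77.Dvr.isProper_Xs R f i hsq
  have hA' := hR.adm f i hsq hA
  intro Ω _ _ t Y g q h y hy1 hy2
  rcases unit_or_factor f i hsq t g q h with ⟨φ, hφ, rfl, hu⟩ | ⟨φ, g', hg', ht, hpb⟩
  · obtain ⟨e⟩ := nonempty_iso_of_reach f i hsq hA hR g hu
    exact Iso.isQuasistableAtPt Ω q e.symm (CategoryTheory.Iso.refl _) r _
      (isQuasistable_generic f j hgen hσg hσgj hIg hφ g q h y hy1 hy2)
  · obtain ⟨e⟩ := nonempty_compIso hg' I'
    obtain ⟨e'⟩ := nonempty_compIso hg' E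
    let : Y.Over (Spec (CommRingCat.of Ω)) := ⟨q⟩
    have hpb' : IsPullback g' (Y ↘ Spec (CommRingCat.of Ω))
      (Xs ↘ Spec (CommRingCat.of (IsLocalRing.ResidueField R))) (Spec.map (CommRingCat.ofHom φ)) := hpb
    refine Iso.isQuasistableAtPt Ω q e e' r _ (Closed.isQuasistableAtPt_pull hgi g' hpb'
      (K652.LfRank.pullback i hE) hA'.tf1 (hψ Ω φ Y g' hpb') hdim hs hst fun ξ hξ hξp => ?_)
    refine hη ξ hξ ?_
    have h1 : i (g' (y (IsLocalRing.closedPoint Ω))) = σ (t (IsLocalRing.closedPoint Ω)) := by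
      have h2 : (y ≫ g' ≫ i) (IsLocalRing.closedPoint Ω) = (t ≫ σ) (IsLocalRing.closedPoint Ω) := by
        rw [hg', hy1]
      exact h2
    have h3 : t (IsLocalRing.closedPoint Ω) = (IsLocalRing.closedPoint R : Spec (CommRingCat.of R)) := by
      rw [ht]
      have h4 : Spec.map (CommRingCat.ofHom φ) (IsLocalRing.closedPoint Ω) =
          (IsLocalRing.closedPoint (IsLocalRing.ResidueField R) :
            Spec (CommRingCat.of (IsLocalRing.ResidueField R))) := Subsingleton.elim _ _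
      have hloc : IsLocalHom (CommRingCat.ofHom (IsLocalRing.residue R)).hom :=
        IsLocalHom.of_surjective _ IsLocalRing.residue_surjective
      have h5 : Spec.map (CommRingCat.ofHom (IsLocalRing.residue R)) (IsLocalRing.closedPoint
          (IsLocalRing.ResidueField R)) = (IsLocalRing.closedPoint R : Spec (CommRingCat.of R)) := Spec_closedPoint
      rw [← h5, ← h4]
      rfl
    rw [← h3, ← h1]
    exact hξp.map i.continuous

end Fib

end K77.Transfer
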