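import Groth.Agent.TFOne.K77.Basic
import Groth.Agent.Dix.NormalLoc

/-!
# The component through a smooth point

* `exists_unique_gen`: a point of the special fibre at which the family is smooth lies on exactly one irreducible
  component.
-/

set_option autoImplicit false
universe u
open CategoryTheory CategoryTheory.Limits AlgebraicGeometry Opposite TopologicalSpace IsLocalRing

namespace K77.SmoothPt

open Groth.Agent.CurvesB Groth.Agent.CurvesB.SubH1 K77.TF Groth.Agent.CycB.LocQuot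

theorem exists_unique_gen_of_isDomain {X : Scheme.{u}} {x : X} (hx : IsDomain (X.presheaf.stalk x)) :
    ∃ η : X, IsGen η ∧ η ⤳ x ∧ ∀ ξ : X, IsGen ξ → ξ ⤳ x → ξ = η := by
  obtain ⟨η, hη, hηx⟩ := SubClosed.exists_isGen_specializes x
  let Q : PrimeSpectrum (X.presheaf.stalk x) := ⟨⊥, Ideal.isPrime_bot⟩
  have key : ∀ (ξ : X), IsGen ξ → ξ ⤳ x → ptOf Q = ξ := by
    intro ξ hξ h
    have h1 : primeOf (ptOf_specializes Q) ≤ primeOf h := by
      rw [primeOf_ptOf]; exact bot_le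
    rw [primeOf_le_iff] at h1
    exact hξ _ h1
  exact ⟨η, hη, hηx, fun ξ hξ h => (key ξ hξ h).symm.trans (key η hη hηx)⟩

theorem exists_unique_gen {k R : CommRingCat.{u}} {X Xs : Scheme.{u}} (f : X ⟶ Spec R) (i : Xs ⟶ X)
    (hk : IsField k) {q : Xs ⟶ Spec k} {s : Spec k ⟶ Spec R} (hsq : IsPullback i q f s) (U : X.Opens)
    [Smooth (U.ι ≫ f)] {z : Xs} (hz : i z ∈ U) :
    ∃ η : Xs, IsGen η ∧ η ⤳ z ∧ ∀ ξ : Xs, IsGen ξ → ξ ⤳ z → ξ = η := by
  have h1 : IsPullback (i ∣_ U) ((i ⁻¹ᵁ U).ι ≫ q) (U.ι ≫ f) s :=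
    (isPullback_morphismRestrict i U).paste_vert hsq
  have h2 : Smooth ((i ⁻¹ᵁ U).ι ≫ q) := MorphismProperty.of_isPullback h1 inferInstance
  let := hk.toField
  have h3 := (Groth.Agent.Dix.NormalLoc.stalk_of_smooth ((i ⁻¹ᵁ U).ι ≫ q) ⟨z, hz⟩).1
  apply exists_unique_gen_of_isDomain
  let e := (asIso ((i ⁻¹ᵁ U).ι.stalkMap ⟨z, hz⟩)).commRingCatIsoToRingEquiv
  exact e.toMulEquiv.isDomain _

end K77.SmoothPt
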