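import Groth.Agent.TFOne.K77.TowerG
import Groth.Agent.TFOne.K77.SmoothPt

/-!
# Semistable and quasistable modifications

* `exists_semistable`: a module reachable from `I` with semistable special fibre;
* `exists_quasistable`: a module reachable from `I` with special fibre quasistable at the section.
-/

set_option autoImplicit false
universe u
open CategoryTheory CategoryTheory.Limits AlgebraicGeometry Opposite TopologicalSpace IsLocalRing

namespace K77.Final

open Groth.Agent.CurvesB.SubH1 K77.TF Groth.Agent.CurvesB Groth.Agent.CurvesB.PairLemma K77.Tower K77.Transfer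
  K77.TowerG

variable {R : Type u} [CommRing R] [IsDomain R] [IsDiscreteValuationRing R] {X : Scheme.{u}}
  (f : X ⟶ Spec (CommRingCat.of R)) [Flat f] [IsProper f] {Xs : Scheme.{u}}
  [Xs.Over (Spec (CommRingCat.of (IsLocalRing.ResidueField R)))] (i : Xs ⟶ X)
  (hsq : IsPullback i (Xs ↘ Spec (CommRingCat.of (IsLocalRing.ResidueField R))) f
    (Spec.map (CommRingCat.ofHom (IsLocalRing.residue R))))
  [IsReduced Xs]
  (hgi : ∀ (C : Set Xs) (hC : C ∈ irreducibleComponents (Xs : Type u)),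
    GeometricallyIntegral (VecSt.subschι Xs C (isClosed_of_mem_irreducibleComponents C hC) ≫
      (Xs ↘ Spec (CommRingCat.of (IsLocalRing.ResidueField R)))))
  (hdim : topologicalKrullDim Xs ≤ 1) {E I : X.Modules} {r : ℕ} (hr : 0 < r)
  (hE : FlatMod.IsFinLocFreeOfRank r E) (hI : TFOne.IsRelTF1 f I) (h0 : tot R i E I = 0)

include hsq hgi hdim hE hI h0 hr

/-- The fibre condition for the geometric generic fibres. -/
theorem exists_semistable
    (hs : ∀ (Ω : Type u) [Field Ω] [IsAlgClosed Ω] (ψ : R →+* Ω) (Y : Scheme.{u}) (g : Y ⟶ X)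
      (q : Y ⟶ Spec (CommRingCat.of Ω)), Function.Injective ψ → IsPullback g q f (Spec.map (CommRingCat.ofHom ψ)) →
      TFOne.IsSemistable Y Ω q ((Scheme.Modules.pullback g).obj I) ((Scheme.Modules.pullback g).obj E) r) :
    ∃ I', Reach i I I' ∧ ∀ T : Set Xs, (∀ ξ ∈ T, IsGen ξ) → 0 ≤ be R i E I' T := by
  have hA := adm_of_isRelTF1 f i hsq hgi hI
  obtain ⟨I', h1, h2⟩ := exists_semi_or_tower f i hsq hr hE hdim hA h0
  refine ⟨I', h1, ?_⟩
  rcases h2 with h2 | ⟨T, t1, t2, t3⟩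
  · exact h2
  · exfalso
    have hA' := h1.adm f i hsq hA
    have hI' := isRelTF1_of_reach f i hsq hI hA h1
    refine absurd (nonneg_of_semistable f i hsq hgi hdim hE hA' hI' ((tot_reach f i hsq hE hdim hA h1).trans h0) t3
      fun Ω _ _ ψ Y g q hψ hY => ?_) (not_le.2 t2)
    obtain ⟨e⟩ := nonempty_iso_generic f i hsq hA h1 hψ g q hY
    exact K77.Iso.isSemistable Ω q e.symm (CategoryTheory.Iso.refl _) r (hs Ω ψ Y g q hψ hY)

theorem exists_quasistable {σ : Spec (CommRingCat.of R) ⟶ X} (hσ : σ ≫ f = 𝟙 _) {U : X.Opens}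
    (hσU : Set.range σ.base ⊆ (U : Set X)) [Smooth (U.ι ≫ f)]
    (hs : ∀ (Ω : Type u) [Field Ω] [IsAlgClosed Ω] (ψ : R →+* Ω) (Y : Scheme.{u}) (g : Y ⟶ X)
      (q : Y ⟶ Spec (CommRingCat.of Ω)), Function.Injective ψ → IsPullback g q f (Spec.map (CommRingCat.ofHom ψ)) →
      ∀ y : Spec (CommRingCat.of Ω) ⟶ Y, y ≫ g = Spec.map (CommRingCat.ofHom ψ) ≫ σ → y ≫ q = 𝟙 _ →
      TFOne.IsQuasistableAtPt Y Ω q ((Scheme.Modules.pullback g).obj I) ((Scheme.Modules.pullback g).obj E) r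
        (y (closedPoint Ω))) :
    ∃ (I' : X.Modules) (η : Xs), Reach i I I' ∧ (∀ ξ : Xs, IsGen ξ → i ξ ⤳ σ (closedPoint R) → ξ = η) ∧
      (∀ T : Set Xs, (∀ ξ ∈ T, IsGen ξ) → 0 ≤ be R i E I' T) ∧
      ∀ T : Set Xs, (∀ ξ ∈ T, IsGen ξ) → η ∈ T → (∃ ξ : Xs, IsGen ξ ∧ ξ ∉ T) → 0 < be R i E I' T := by
  have hA := adm_of_isRelTF1 f i hsq hgi hI
  have hci := K77.Dvr.isClosedImmersion_i R f i hsq
  -- the point of the special fibre
  have hloc : IsLocalHom (CommRingCat.ofHom (IsLocalRing.residue R)).hom :=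
    IsLocalHom.of_surjective _ IsLocalRing.residue_surjective
  have h5 : Spec.map (CommRingCat.ofHom (IsLocalRing.residue R)) (IsLocalRing.closedPoint
      (IsLocalRing.ResidueField R)) = (IsLocalRing.closedPoint R : Spec (CommRingCat.of R)) := Spec_closedPoint
  have h6 : f (σ (closedPoint R)) = (closedPoint R : Spec (CommRingCat.of R)) := by
    have : (σ ≫ f) (closedPoint R) = (closedPoint R : Spec (CommRingCat.of R)) := by rw [hσ]; rfl
    exact this
  obtain ⟨z, hz, -⟩ := K77.Total.exists_pt hsq (σ (closedPoint R)) _ (h6.trans h5.symm)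
  obtain ⟨η, hη, hηz, huniq⟩ := K77.SmoothPt.exists_unique_gen f i (Field.toIsField _) hsq U (z := z)
    (by rw [hz]; exact hσU ⟨_, rfl⟩)
  have huniq' : ∀ ξ : Xs, IsGen ξ → i ξ ⤳ σ (closedPoint R) → ξ = η := by
    intro ξ hξ h
    rw [← hz] at h
    exact huniq ξ hξ ((SubClosed.specializes_iff i ξ z).1 h)
  -- semistable
  obtain ⟨I₁, r1, s1⟩ := exists_semistable f i hsq hgi hdim hr hE hI h0 fun Ω _ _ ψ Y g q hψ hY => by
    have hw : (Spec.map (CommRingCat.ofHom ψ) ≫ σ) ≫ f = 𝟙 _ ≫ Spec.map (CommRingCat.ofHom ψ) := by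
      rw [Category.assoc, hσ, Category.comp_id, Category.id_comp]
    exact (hs Ω ψ Y g q hψ hY (hY.lift _ _ hw) (hY.lift_fst _ _ _) (hY.lift_snd _ _ _)).1
  have hA₁ := r1.adm f i hsq hA
  have hI₁ := isRelTF1_of_reach f i hsq hI hA r1
  have h01 := (tot_reach f i hsq hE hdim hA r1).trans h0
  obtain ⟨I₂, r2, s2, h2⟩ := exists_strict_or_tower f i hsq hr hE hdim hA₁ h01 s1 hη
  have hr12 : Reach i I I₂ := by
    clear h2 s2
    induction r2 with
    | refl => exact r1
    | step _ hm ih => exact ih.step hm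
  refine ⟨I₂, η, hr12, huniq', s2, ?_⟩
  rcases h2 with h2 | ⟨T, t1, t2, t3, t4, t5⟩
  · exact h2
  · exfalso
    have hA₂ := hr12.adm f i hsq hA
    have hI₂ := isRelTF1_of_reach f i hsq hI hA hr12
    have h02 := (tot_reach f i hsq hE hdim hA hr12).trans h0
    refine absurd (pos_of_quasistable f i hsq hgi hdim hE hA₂ hI₂ h02 t5 hσ
      (fun ξ hξ hξz => by rw [huniq' ξ hξ hξz]; exact t2) t3 fun Ω _ _ ψ Y g q hψ hY y hy1 hy2 => ?_) (by rw [t4]; exact lt_irrefl 0)
    obtain ⟨e⟩ := nonempty_iso_generic f i hsq hA hr12 hψ g q hY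
    exact K77.Iso.isQuasistableAtPt Ω q e.symm (CategoryTheory.Iso.refl _) r _ (hs Ω ψ Y g q hψ hY y hy1 hy2)

end K77.Final
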