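import Groth.Agent.TFOne.K77.GenFib
import Groth.Agent.TFOne.K975.FibK
import Groth.Agent.TFOne.K975.FlatR
import Groth.Agent.Fdesc.PullbackStalk
import Groth.Agent.S0436

/-!
# Flat modules with torsion-free special fibre are torsion-free on the total space

`X` proper and flat over a discrete valuation ring `R`, `Z` the special fibre, reduced.  If `F` is coherent and flat
over `R` with torsion-free restriction to `Z`, then `F` is torsion-free on `X`.
-/

set_option autoImplicit false
universe u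
open CategoryTheory CategoryTheory.Limits AlgebraicGeometry Opposite TopologicalSpace IsLocalRing

namespace K77.Total

open Groth.Agent.CycB.StalkExact Groth.Agent.CurvesB.SubH1 Groth.Agent.Fdesc.PullbackStalk K77.TF
  K975.FibK K975.FlatR Groth.Agent.VarietyA.StalkCrit Groth.Agent.CurvesB Groth.Agent.CurvesB.GenStalk

section Alg

variable {A : Type*} [CommRing A] [IsLocalRing A] [IsNoetherianRing A] {ϖ : A}

theorem eq_pow_mul_unit (hm : maximalIdeal A ≤ Ideal.span {ϖ}) (hϖ : ϖ ∈ maximalIdeal A) {a : A} (ha : a ≠ 0) :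
    ∃ (n : ℕ) (u : A), IsUnit u ∧ a = ϖ ^ n * u := by
  classical
  have hle : Ideal.span {ϖ} ≤ maximalIdeal A := (Ideal.span_singleton_le_iff_mem _).2 hϖ
  have hne : Ideal.span {ϖ} ≠ (⊤ : Ideal A) := fun h =>
    (IsLocalRing.maximalIdeal.isMaximal A).ne_top (top_le_iff.1 (h ▸ hle))
  have h1 : ⨅ n : ℕ, (Ideal.span {ϖ}) ^ n = (⊥ : Ideal A) := Ideal.iInf_pow_eq_bot_of_isLocalRing _ hne
  have h2 : ∃ n : ℕ, a ∉ (Ideal.span {ϖ}) ^ n := by
    by_contra hc
    push Not at hc
    have h3 : a ∈ ⨅ n : ℕ, (Ideal.span {ϖ}) ^ n := (Submodule.mem_iInf _).2 hc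
    rw [h1] at h3
    exact ha h3
  have h4 := Nat.find_spec h2
  obtain ⟨n, hn⟩ : ∃ n, Nat.find h2 = n + 1 := by
    refine Nat.exists_eq_succ_of_ne_zero fun h0 => ?_
    rw [h0, pow_zero, Ideal.one_eq_top] at h4
    exact h4 trivial
  have h5 : a ∈ (Ideal.span {ϖ}) ^ n := by
    by_contra hc
    have := Nat.find_min' h2 hc
    omega
  rw [hn, Ideal.span_singleton_pow, Ideal.mem_span_singleton] at h4
  rw [Ideal.span_singleton_pow, Ideal.mem_span_singleton] at h5
  obtain ⟨u, hu⟩ := h5
  refine ⟨n, u, ?_, hu⟩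
  by_contra hc
  have h6 := hm ((IsLocalRing.mem_maximalIdeal u).2 hc)
  obtain ⟨v, hv⟩ := Ideal.mem_span_singleton.1 h6
  exact h4 ⟨v, by rw [hu, hv, pow_succ, mul_assoc]⟩

end Alg

theorem exists_pt {P X Y Z : Scheme.{u}} {fst : P ⟶ X} {snd : P ⟶ Y} {f : X ⟶ Z} {g : Y ⟶ Z}
    (sq : IsPullback fst snd f g) (x : X) (y : Y) (h : f x = g y) : ∃ z : P, fst z = x ∧ snd z = y := by
  obtain ⟨z, h1, h2⟩ := Scheme.Pullback.exists_preimage_pullback x y h
  refine ⟨sq.isoPullback.inv z, ?_, ?_⟩
  · rw [← h1, ← sq.isoPullback_inv_fst]; rfl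
  · rw [← h2, ← sq.isoPullback_inv_snd]; rfl

/-- The kernel of `F_{g y} → (g^* F)_y` when `O_{V, g y} → O_{W, y}` is surjective. -/
theorem mem_of_canAdd_eq_zero {W V : Scheme.{u}} (g : W ⟶ V) (F : V.Modules) (y : W)
    (hp : Function.Surjective (g.stalkMap y).hom) (t : F.presheaf.stalk (g.base y)) (ht : canAdd g F y t = 0) :
    t ∈ (RingHom.ker (g.stalkMap y).hom • (⊤ : Submodule (V.presheaf.stalk (g.base y)) (F.presheaf.stalk (g.base y)))) := by
  let I := RingHom.ker (g.stalkMap y).hom
  let Q := F.presheaf.stalk (g y) ⧸ (I • (⊤ : Submodule (V.presheaf.stalk (g y)) (F.presheaf.stalk (g y))))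
  let σ : (V.presheaf.stalk (g y) ⧸ I) ≃+* W.presheaf.stalk y := RingHom.quotientKerEquivOfSurjective hp
  let _ : Module (W.presheaf.stalk y) Q := Module.compHom Q σ.symm.toRingHom
  have hg : ∀ (r : V.presheaf.stalk (g y)) (t : F.presheaf.stalk (g y)),
    (Submodule.mkQ (I • (⊤ : Submodule (V.presheaf.stalk (g y)) (F.presheaf.stalk (g y))))).toAddMonoidHom (r • t) =
      g.stalkMap y r • (Submodule.mkQ (I • (⊤ : Submodule (V.presheaf.stalk (g y)) (F.presheaf.stalk (g y))))).toAddMonoidHom t := by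
    intro r t
    have hσ : σ.symm (g.stalkMap y r) = Ideal.Quotient.mk I r := by
      rw [RingEquiv.symm_apply_eq]
      rfl
    change _ = σ.symm (g.stalkMap y r) •
      (Submodule.mkQ (I • (⊤ : Submodule (V.presheaf.stalk (g y)) (F.presheaf.stalk (g y))))) t
    rw [hσ]
    rfl
  have h1 := lift_canAdd (M := F) (Q := Q) g _ hg t
  rw [ht, map_zero] at h1
  exact (Submodule.Quotient.mk_eq_zero _).mp h1.symm

/-- Naturality of the canonical map under specialization. -/
theorem canAdd_spec {Y X : Scheme.{u}} (g : Y ⟶ X) (F : X.Modules) {y z : Y} (h : y ⤳ z) (h' : g y ⤳ g z)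
    (s : F.presheaf.stalk (g z)) :
    canAdd g F y (F.presheaf.stalkSpecializes h' s) =
      ((Scheme.Modules.pullback g).obj F).presheaf.stalkSpecializes h (canAdd g F z s) := by
  obtain ⟨U, hU, s, rfl⟩ := F.presheaf.exists_germ_eq s
  have hyU : g y ∈ U := h'.mem_open U.isOpen hU
  rw [spec_germ _ h' hU hyU]
  refine (canAdd_germ g F y U hyU s).trans ?_
  have h1 := canAdd_germ g F z U hU s
  refine Eq.trans ?_ (congrArg _ h1.symm)
  exact (spec_germ ((Scheme.Modules.pullback g).obj F) h (U := g ⁻¹ᵁ U) hU hyU _).symm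

/-- For `f` flat, `O_X` is flat over `S`. -/
theorem isFlatOver_structureModule {X S : Scheme.{u}} (f : X ⟶ S) [Flat f] :
    FlatMod.IsFlatOver f (Coh.structureModule X) := by
  intro x
  let a1 : Module (S.presheaf.stalk (f x)) (X.presheaf.stalk x) :=
    Module.compHom (X.presheaf.stalk x) (f.stalkMap x).hom
  let a2 := FlatMod.moduleStalkOver f (Coh.structureModule X) x
  have h1 : Module.Flat (S.presheaf.stalk (f x)) (X.presheaf.stalk x) := Flat.stalkMap f x
  let e : X.presheaf.stalk x ≃ₗ[S.presheaf.stalk (f x)] (Coh.structureModule X).presheaf.stalk x :=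
    { Groth.Agent.Fdesc.StructMod.stalkEquiv x with
      map_smul' := fun r m => (Groth.Agent.Fdesc.StructMod.stalkEquiv x).map_smul ((f.stalkMap x).hom r) m }
  exact Module.Flat.of_linearEquiv e.symm

theorem isReduced_stalk_of_specializes {X : Scheme.{u}} {x y : X} (h : x ⤳ y) [_root_.IsReduced (X.presheaf.stalk y)] :
    _root_.IsReduced (X.presheaf.stalk x) := by
  let := (X.presheaf.stalkSpecializes h).hom.toAlgebra
  have h1 : IsLocalization.AtPrime (X.presheaf.stalk x) (RingHom.ker (Cyc.specMap y x h)) :=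
    Groth.Agent.CycB.LocQuot.isLocalization_stalkSpecializes h
  exact isReduced_localizationPreserves (RingHom.ker (Cyc.specMap y x h)).primeCompl _ inferInstance

section Main

variable {R : Type u} [CommRing R] [IsDomain R] [IsDiscreteValuationRing R] {X : Scheme.{u}}
  (f : X ⟶ Spec (CommRingCat.of R)) {Z : Scheme.{u}} (i : Z ⟶ X) {k : Type u} [Field k] {ρ : R →+* k}
  (hρ : Function.Surjective ρ) (q : Z ⟶ Spec (CommRingCat.of k))
  (H : IsPullback i q f (Spec.map (CommRingCat.ofHom ρ)))

include hρ in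
theorem ker_eq : RingHom.ker ρ = maximalIdeal R :=
  IsLocalRing.eq_maximalIdeal (RingHom.ker_isMaximal_of_surjective ρ hρ)

include hρ H in
theorem ker_stalk {ϖ : R} (hϖ : Irreducible ϖ) (z : Z) :
    RingHom.ker (i.stalkMap z).hom = Ideal.span {cst f (i z) ϖ} := by
  rw [ker_stalkMap f hρ H z, ker_eq hρ, hϖ.maximalIdeal_eq, Ideal.map_span, Set.image_singleton]

include hρ H in
theorem isClosedImm : IsClosedImmersion i := by
  have hcl : IsClosedImmersion (Spec.map (CommRingCat.ofHom ρ)) := IsClosedImmersion.spec_of_surjective _ hρ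
  exact MorphismProperty.of_isPullback H.flip hcl

include hρ H in
theorem cst_mem {ϖ : R} (hϖ : Irreducible ϖ) (z : Z) : cst f (i z) ϖ ∈ maximalIdeal (X.presheaf.stalk (i z)) := by
  have h1 : cst f (i z) ϖ ∈ RingHom.ker (i.stalkMap z).hom := by
    rw [ker_stalk f i hρ q H hϖ z]; exact Ideal.mem_span_singleton_self _
  exact IsLocalRing.le_maximalIdeal (RingHom.ker_ne_top _) h1

include hρ H in
theorem canAdd_eq_zero_iff {ϖ : R} (hϖ : Irreducible ϖ) (F : X.Modules) (z : Z) (t : F.presheaf.stalk (i z)) :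
    canAdd i F z t = 0 ↔ ∃ t', t = cst f (i z) ϖ • t' := by
  have hcl := isClosedImm f i hρ q H
  have hk := ker_stalk f i hρ q H hϖ z
  constructor
  · intro h
    have h1 := mem_of_canAdd_eq_zero i F z (i.stalkMap_surjective z) t h
    rw [hk, Submodule.ideal_span_singleton_smul, Submodule.mem_smul_pointwise_iff_exists] at h1
    obtain ⟨t', -, ht'⟩ := h1
    exact ⟨t', ht'.symm⟩
  · rintro ⟨t', rfl⟩
    refine (canAdd_smul i F z _ t').trans ?_
    have : (i.stalkMap z).hom (cst f (i z) ϖ) = 0 := by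
      rw [← RingHom.mem_ker, hk]; exact Ideal.mem_span_singleton_self _
    rw [this, zero_smul]

include hρ H in
theorem mem_span_of_isGen [IsReduced Z] {ϖ : R} (hϖ : Irreducible ϖ) {z : Z} (hz : IsGen z) :
    maximalIdeal (X.presheaf.stalk (i z)) ≤ Ideal.span {cst f (i z) ϖ} := by
  rw [← ker_stalk f i hρ q H hϖ z]
  intro a ha
  by_contra hc
  have h1 : (i.stalkMap z).hom a ≠ 0 := fun h => hc h
  obtain ⟨b, hb⟩ := (isField_stalk z hz).mul_inv_cancel h1
  have h2 : IsUnit ((i.stalkMap z).hom a) := IsUnit.of_mul_eq_one b hb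
  have h3 : IsUnit a := (isUnit_map_iff (i.stalkMap z).hom a).1 h2
  exact (IsLocalRing.mem_maximalIdeal a).1 ha h3

variable [IsProper f]

include hρ H in
theorem exists_specializes (x : X) : ∃ z : Z, x ⤳ i z := by
  have hcl : IsClosedMap f := f.isClosedMap
  have h1 : IsClosed (f '' closure {x}) := hcl _ isClosed_closure
  have h2 : f x ∈ f '' closure {x} := ⟨x, subset_closure rfl, rfl⟩
  have h3 : (f x : Spec (CommRingCat.of R)) ⤳ (IsLocalRing.closedPoint R : Spec (CommRingCat.of R)) :=
    IsLocalRing.specializes_closedPoint _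
  obtain ⟨y, hy, hfy⟩ := h3.mem_closed h1 h2
  have h4 : (Spec.map (CommRingCat.ofHom ρ)) (IsLocalRing.closedPoint k) = (IsLocalRing.closedPoint R : Spec (CommRingCat.of R)) := by
    have hloc : IsLocalHom (CommRingCat.ofHom ρ).hom := IsLocalHom.of_surjective ρ hρ
    exact Spec_closedPoint
  obtain ⟨z, hz, -⟩ := exists_pt H y (IsLocalRing.closedPoint k) (by rw [hfy, h4])
  exact ⟨z, by rw [hz]; exact specializes_iff_mem_closure.2 hy⟩

include hρ H in
theorem isReduced_total [Flat f] [IsReduced Z] : IsReduced X := by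
  have hN : IsLocallyNoetherian X := LocallyOfFiniteType.isLocallyNoetherian f
  obtain ⟨ϖ, hϖ⟩ := IsDiscreteValuationRing.exists_irreducible R
  have hreg : ∀ (x : X) (a : X.presheaf.stalk x), cst f x ϖ * a = 0 → a = 0 := by
    intro x a ha
    have h1 := (isFlatOver_iff f hϖ _).1 (isFlatOver_structureModule f) x
      ((Groth.Agent.Fdesc.StructMod.stalkEquiv x) a) (by
        rw [← map_smul, smul_eq_mul, ha, map_zero])
    exact (LinearEquiv.map_eq_zero_iff _).1 h1
  have hregn : ∀ (x : X) (n : ℕ) (a : X.presheaf.stalk x), cst f x ϖ ^ n * a = 0 → a = 0 := by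
    intro x n
    induction n with
    | zero => intro a ha; simpa using ha
    | succ n ih =>
      intro a ha
      rw [pow_succ, mul_assoc] at ha
      exact hreg _ _ (ih _ ha)
  have key : ∀ z : Z, _root_.IsReduced (X.presheaf.stalk (i z)) := by
    intro z
    have hn : nilradical (X.presheaf.stalk (i z)) ≤ Ideal.span {cst f (i z) ϖ} • nilradical (X.presheaf.stalk (i z)) := by
      intro a ha
      rw [mem_nilradical] at ha
      have h1 : a ∈ Ideal.span {cst f (i z) ϖ} := by
        rw [← ker_stalk f i hρ q H hϖ z, RingHom.mem_ker]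
        exact (ha.map (i.stalkMap z).hom).eq_zero
      obtain ⟨b, rfl⟩ := Ideal.mem_span_singleton.1 h1
      rw [smul_eq_mul, Ideal.mem_span_singleton_mul]
      refine ⟨b, ?_, rfl⟩
      obtain ⟨n, hn⟩ := ha
      rw [mul_pow] at hn
      exact ⟨n, hregn _ n _ hn⟩
    have hjac : Ideal.span {cst f (i z) ϖ} ≤ Ideal.jacobson ⊥ := by
      rw [IsLocalRing.jacobson_eq_maximalIdeal ⊥ bot_ne_top]
      exact (Ideal.span_singleton_le_iff_mem _).2 (cst_mem f i hρ q H hϖ z)
    have h5 := Submodule.eq_bot_of_le_smul_of_le_jacobson_bot _ (nilradical (X.presheaf.stalk (i z)))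
      (IsNoetherian.noetherian _) hn hjac
    exact nilradical_eq_bot_iff.1 h5
  have : ∀ x : X, _root_.IsReduced (X.presheaf.stalk x) := by
    intro x
    obtain ⟨z, hz⟩ := exists_specializes f i hρ q H x
    have := key z
    exact isReduced_stalk_of_specializes hz
  exact isReduced_of_isReduced_stalk X

include hρ H in
/-- At a generic point of the special fibre a torsion germ vanishes. -/
theorem eq_zero_at_gen [IsReduced Z] {ϖ : R} (hϖ : Irreducible ϖ) {F : X.Modules} (hF : Coh.IsQCoh F)
    (hfl : FlatMod.IsFlatOver f F) {z : Z} (hz : IsGen z) (s : F.presheaf.stalk (i z))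
    (hs : ∀ (ξ : X) (h : ξ ⤳ i z), IsGen ξ → F.presheaf.stalkSpecializes h s = 0) : s = 0 := by
  have hN : IsLocallyNoetherian X := LocallyOfFiniteType.isLocallyNoetherian f
  obtain ⟨ξ, hξ, h⟩ := SubClosed.exists_isGen_specializes (i z)
  obtain ⟨a, ha, has⟩ := Groth.Agent.CycB.CohStalk.exists_smul_eq_zero F hF h s (hs ξ h hξ)
  have ha0 : a ≠ 0 := by
    rintro rfl
    exact ha (zero_mem _)
  obtain ⟨n, u, hu, rfl⟩ := eq_pow_mul_unit (mem_span_of_isGen f i hρ q H hϖ hz) (cst_mem f i hρ q H hϖ z) ha0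
  have hreg := (isFlatOver_iff f hϖ F).1 hfl (i z)
  have h1 : ∀ n : ℕ, ∀ t : F.presheaf.stalk (i z), cst f (i z) ϖ ^ n • t = 0 → t = 0 := by
    intro n
    induction n with
    | zero => intro t ht; simpa using ht
    | succ n ih =>
      intro t ht
      rw [pow_succ, mul_smul] at ht
      exact hreg _ (ih _ ht)
  rw [mul_smul] at has
  exact (hu.smul_eq_zero).1 (h1 n _ has)

include hρ H in
/-- **Torsion-freeness on the total space.** -/
theorem stTF_total [Flat f] [IsReduced Z] {F : X.Modules} (hF : Coh.IsCoh F) (hfl : FlatMod.IsFlatOver f F)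
    (hs : StTF ((Scheme.Modules.pullback i).obj F)) : StTF F := by
  have hN : IsLocallyNoetherian X := LocallyOfFiniteType.isLocallyNoetherian f
  have hred : IsReduced X := isReduced_total f i hρ q H
  obtain ⟨ϖ, hϖ⟩ := IsDiscreteValuationRing.exists_irreducible R
  obtain ⟨G, π, h⟩ := exists_isQ hF {ξ : X | IsGen ξ} fun ξ hξ => hξ
  have hep := h.epi
  have hK : Coh.IsCoh (kernel π) := Groth.Agent.Sga67.CohBasic.isCoh_kernel π hF h.coh.1
  have key : ∀ z : Z, Subsingleton ((kernel π).presheaf.stalk (i z)) := by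
    intro z
    have hfin := Groth.Agent.CycB.CohStalk.finite_stalk (kernel π) hK (i z)
    have hle : (⊤ : Submodule (X.presheaf.stalk (i z)) ((kernel π).presheaf.stalk (i z))) ≤
        Ideal.span {cst f (i z) ϖ} • ⊤ := by
      intro n _
      rw [Submodule.ideal_span_singleton_smul, Submodule.mem_smul_pointwise_iff_exists]
      have h1 : stalkLin π (i z) (stalkLin (kernel.ι π) (i z) n) = 0 := (mem_ker_iff π (i z) _).2 ⟨n, rfl⟩
      have h2 := (h.ker_iff (i z) _).1 h1
      -- vanishing in the special fibre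
      have h3 : canAdd i F z (stalkLin (kernel.ι π) (i z) n) = 0 := by
        refine hs z _ fun η hηz hη => ?_
        have h' : i η ⤳ i z := hηz.map i.continuous
        refine (canAdd_spec i F hηz h' _).symm.trans ?_
        have h6 : F.presheaf.stalkSpecializes h' (stalkLin (kernel.ι π) (i z) n) = 0 := by
          refine eq_zero_at_gen f i hρ q H hϖ hF.1 hfl hη _ fun ξ hξ hgen => ?_
          rw [spec_spec]
          exact h2 ξ hgen (hξ.trans h')
        rw [h6, map_zero]
      obtain ⟨t, ht⟩ := (canAdd_eq_zero_iff f i hρ q H hϖ F z _).1 h3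
      have h4 : stalkLin π (i z) t = 0 := by
        rw [h.ker_iff]
        intro ξ hξ hx
        have h5 := h2 ξ hξ hx
        rw [ht] at h5
        have h6 : F.presheaf.stalkSpecializes hx (cst f (i z) ϖ • t) =
            (X.presheaf.stalkSpecializes hx).hom (cst f (i z) ϖ) • F.presheaf.stalkSpecializes hx t :=
          Groth.Agent.CycB.ModStalk.stalkSpecializes_smul hx _ _
        have h7 : (X.presheaf.stalkSpecializes hx).hom (cst f (i z) ϖ) = cst f ξ ϖ :=
          TopCat.Presheaf.germ_stalkSpecializes_apply (U := ⊤) X.presheaf trivial hx _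
        rw [h6, h7] at h5
        exact (isFlatOver_iff f hϖ F).1 hfl ξ _ h5
      obtain ⟨m, hm⟩ := (mem_ker_iff π (i z) t).1 h4
      refine ⟨m, trivial, ?_⟩
      apply stalkLin_injective (kernel.ι π) (i z)
      rw [map_smul, hm, ← ht]
    have hjac : Ideal.span {cst f (i z) ϖ} ≤ Ideal.jacobson ⊥ := by
      rw [IsLocalRing.jacobson_eq_maximalIdeal ⊥ bot_ne_top]
      exact (Ideal.span_singleton_le_iff_mem _).2 (cst_mem f i hρ q H hϖ z)
    have h5 := Submodule.eq_bot_of_le_smul_of_le_jacobson_bot _ ⊤ hfin.fg_top hle hjac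
    exact (Submodule.subsingleton_iff _).1 (subsingleton_of_bot_eq_top h5.symm)
  have hz : IsZero (kernel π) := by
    refine (isZero_iff_stalks _).2 fun x => ?_
    obtain ⟨z, hz⟩ := exists_specializes f i hρ q H x
    by_contra hc
    have h1 : x ∈ CohB1.support (kernel π) := by
      by_contra h2
      exact hc ((not_mem_support_iff (kernel π) x).1 h2)
    have hcl := Groth.Agent.VarietyA.GlobGen.isClosed_support (kernel π) hK.2
    have h2 := hz.mem_closed hcl h1
    exact (not_mem_support_iff (kernel π) (i z)).2 (key z) h2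
  intro x s hs'
  have h1 : stalkLin π x s = 0 := (h.ker_iff x s).2 fun ξ hξ hx => hs' ξ hx hξ
  obtain ⟨t, rfl⟩ := (mem_ker_iff π x s).1 h1
  have := (isZero_iff_stalks _).1 hz x
  rw [Subsingleton.elim t 0, map_zero]

end Main

end K77.Total
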