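import Groth.Agent.TFOne.K77.Quot
import Groth.Agent.Fga.ChiBasic
import Groth.Agent.SGA6.K266.DimFilt

/-!
# Additive functions on coherent modules and four-term complexes

* `homol a b w`: the homology of a complex `A → B → C`; its stalks vanish exactly where the complex is exact.
* `four`: `v B + v D = v A + v C + v (homology at B)` for a complex `0 → A → B → C → D → 0` exact except at `B`.
* `eq_of_gen`: an additive function vanishing on modules with zero generic stalks only depends on the lengths of the
  generic stalks.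
-/

set_option autoImplicit false
universe u
open CategoryTheory CategoryTheory.Limits AlgebraicGeometry Opposite TopologicalSpace

namespace K77.TF

open Groth.Agent.CycB.StalkExact Groth.Agent.CurvesB Groth.Agent.CurvesB.SubH1
  Groth.Agent.CurvesB.GenStalk Groth.Agent.VarietyA.StalkCrit Groth.Agent.Fga.ChiBasic
  Groth.Agent.Sga67.CohBasic

variable {X : Scheme.{u}}

section Homol

variable {A B C D : X.Modules} (a : A ⟶ B) (b : B ⟶ C) (w : a ≫ b = 0)

/-- The homology of a complex `A → B → C`. -/
noncomputable def homol : X.Modules := cokernel (kernel.lift b a w)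

theorem isCoh_homol [IsLocallyNoetherian X] (hA : Coh.IsCoh A) (hB : Coh.IsCoh B) (hC : Coh.IsCoh C) :
    Coh.IsCoh (homol a b w) :=
  isCoh_cokernel _ hA.1 (isCoh_kernel b hB hC.1)

theorem subsingleton_homol_iff (x : X) : Subsingleton ((homol a b w).presheaf.stalk x) ↔
    ∀ t : B.presheaf.stalk x, stalkLin b x t = 0 → ∃ s, stalkLin a x s = t := by
  rw [homol, subsingleton_cokernel_stalk_iff]
  constructor
  · intro h t ht
    obtain ⟨t', rfl⟩ := (mem_ker_iff b x t).1 ht
    obtain ⟨s, rfl⟩ := h t'
    refine ⟨s, ?_⟩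
    rw [← stalkLin_comp_apply, kernel.lift_ι]
  · intro h t'
    obtain ⟨s, hs⟩ := h (stalkLin (kernel.ι b) x t') ((mem_ker_iff b x _).2 ⟨t', rfl⟩)
    refine ⟨s, ?_⟩
    apply stalkLin_injective (kernel.ι b) x
    rw [← stalkLin_comp_apply, kernel.lift_ι, hs]

theorem isZero_homol_iff : IsZero (homol a b w) ↔ (ShortComplex.mk a b w).Exact := by
  rw [isZero_iff_stalks]
  constructor
  · intro h
    exact exact_of_stalk' a b w fun x => (subsingleton_homol_iff a b w x).1 (h x)
  · intro h x
    rw [subsingleton_homol_iff]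
    intro t ht
    exact (stalkLin_exact _ h x t).1 ht

variable [IsLocallyNoetherian X]

theorem chi_homol {v : X.Modules → ℤ} (hv : IsAdd v) [Mono a] (hA : Coh.IsCoh A) (hB : Coh.IsCoh B)
    (hC : Coh.IsCoh C) : v (kernel b) = v A + v (homol a b w) := by
  have hk : Coh.IsCoh (kernel b) := isCoh_kernel b hB hC.1
  have h1 := chi_map hv (kernel.lift b a w) hA hk
  have hm : Mono (kernel.lift b a w) := by
    have : Mono (kernel.lift b a w ≫ kernel.ι b) := by rw [kernel.lift_ι]; infer_instance
    exact mono_of_mono _ (kernel.ι b)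
  have h2 : v (kernel (kernel.lift b a w)) = 0 := chi_isZero hv (isZero_kernel_of_mono _)
  rw [h2] at h1
  rw [homol]
  omega

/-- The Euler characteristic of a complex `0 → A → B → C → D → 0` exact except at `B`. -/
theorem four {v : X.Modules → ℤ} (hv : IsAdd v) [Mono a] (c : C ⟶ D) [Epi c] (w' : b ≫ c = 0)
    (hex : (ShortComplex.mk b c w').Exact) (hA : Coh.IsCoh A) (hB : Coh.IsCoh B) (hC : Coh.IsCoh C) :
    v B + v D = v A + v C + v (homol a b w) := by
  have h1 := chi_homol a b w hv hA hB hC
  have h2 := chi_map hv b hB hC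
  have hcok : Nonempty (cokernel b ≅ D) := by
    have h3 := hex.gIsCokernel
    exact ⟨(cokernelIsCokernel b).coconePointUniqueUpToIso h3⟩
  obtain ⟨e⟩ := hcok
  have h4 : v (cokernel b) = v D := chi_iso hv e (isCoh_cokernel b hB.1 hC)
  omega

/-- The Euler characteristic of a complex `0 → A → B → C → 0` exact except at `B`. -/
theorem three {v : X.Modules → ℤ} (hv : IsAdd v) [Mono a] [Epi b] (hA : Coh.IsCoh A) (hB : Coh.IsCoh B)
    (hC : Coh.IsCoh C) : v B = v A + v C + v (homol a b w) := by
  have h1 := chi_homol a b w hv hA hB hC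
  have h2 := chi_map hv b hB hC
  have h3 : v (cokernel b) = 0 := chi_isZero hv (isZero_cokernel_of_epi b)
  omega

end Homol

section Gen

open Classical in
/-- The generic lengths of `M` weighted by the values of `v` on the structure sheaves of the closures. -/
noncomputable def genSum (v : X.Modules → ℤ) (S : Finset X) (M : X.Modules) : ℤ :=
  ∑ ξ ∈ S, ((Module.length (X.presheaf.stalk ξ) (M.presheaf.stalk ξ)).toNat : ℤ) *
    v (Cyc.closureStructureSheaf ξ)

theorem length_ne_top_of_isGen [IsReduced X] {M : X.Modules} (hM : Coh.IsCoh M) {ξ : X} (hξ : IsGen ξ) :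
    Module.length (X.presheaf.stalk ξ) (M.presheaf.stalk ξ) ≠ ⊤ := by
  have h1 := Groth.Agent.CycB.CohStalk.finite_stalk M hM ξ
  letI := (isField_stalk ξ hξ).toField
  have h2 : IsArtinian (X.presheaf.stalk ξ) (M.presheaf.stalk ξ) := inferInstance
  have h3 : IsNoetherian (X.presheaf.stalk ξ) (M.presheaf.stalk ξ) := inferInstance
  exact Module.length_ne_top_iff.2 (isFiniteLength_iff_isNoetherian_isArtinian.2 ⟨h3, h2⟩)

theorem genSum_add [IsReduced X] (v : X.Modules → ℤ) (S : Finset X) (hS : ∀ ξ ∈ S, IsGen ξ)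
    (T : ShortComplex X.Modules) (hT : T.ShortExact) (h1 : Coh.IsCoh T.X₁) (h3 : Coh.IsCoh T.X₃) :
    genSum v S T.X₂ = genSum v S T.X₁ + genSum v S T.X₃ := by
  unfold genSum
  rw [← Finset.sum_add_distrib]
  refine Finset.sum_congr rfl fun ξ hξ => ?_
  rw [length_stalk_shortExact T hT ξ, ENat.toNat_add (length_ne_top_of_isGen h1 (hS ξ hξ))
    (length_ne_top_of_isGen h3 (hS ξ hξ))]
  push_cast
  ring

theorem eq_genSum [IsReduced X] [IsNoetherian X] {v : X.Modules → ℤ} (hv : IsAdd v)
    (h0 : ∀ M : X.Modules, Coh.IsCoh M → IsSmall M → v M = 0) (S : Finset X)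
    (hS : ∀ ξ, ξ ∈ S ↔ IsGen ξ) {M : X.Modules} (hM : Coh.IsCoh M) : v M = genSum v S M := by
  refine Groth.Agent.Ega3B.Devissage.devissage Set.univ isClosed_univ
    (fun M => v M = genSum v S M) ?_ ?_ ?_ M hM (Set.subset_univ _)
  · intro M hM
    rw [chi_isZero hv hM, genSum]
    symm
    refine Finset.sum_eq_zero fun ξ _ => ?_
    have : Subsingleton (M.presheaf.stalk ξ) := stalk_of_isZero hM ξ
    rw [Module.length_eq_zero]
    simp
  · intro T hT h1 h2 h3 _
    have e1 := hv T hT h1 h2 h3
    have e2 := genSum_add v S (fun ξ hξ => (hS ξ).1 hξ) T hT h1 h3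
    refine ⟨fun a b => ?_, fun a b => ?_, fun a b => ?_⟩ <;> simp only at a b ⊢ <;> omega
  · intro y _
    refine ⟨Cyc.closureStructureSheaf y, Groth.Agent.CycB.ClosSheaf.isCoh_closureStructureSheaf y, ?_,
      (K266.DimFilt.support_closureStructureSheaf y).le, K266.DimFilt.isSimpleModule_stalk_self y⟩
    have hsub : ∀ ξ, ¬ y ⤳ ξ → Subsingleton ((Cyc.closureStructureSheaf y).presheaf.stalk ξ) := by
      intro ξ h
      rw [← not_mem_support_iff, K266.DimFilt.support_closureStructureSheaf, ← specializes_iff_mem_closure]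
      exact h
    by_cases hy : IsGen y
    · change v _ = genSum v S _
      rw [genSum, Finset.sum_eq_single y]
      · have := K266.DimFilt.isSimpleModule_stalk_self y
        rw [Module.length_eq_one]
        simp
      · intro ξ hξ hne
        have := hsub ξ fun h => hne (((hS ξ).1 hξ) y h).symm
        rw [Module.length_eq_zero]
        simp
      · intro h
        exact absurd ((hS y).2 hy) h
    · change v _ = genSum v S _
      have hsm : IsSmall (Cyc.closureStructureSheaf y) := fun ξ hξ =>
        hsub ξ fun h => hy ((hξ y h) ▸ hξ)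
      rw [h0 _ (Groth.Agent.CycB.ClosSheaf.isCoh_closureStructureSheaf y) hsm, genSum]
      symm
      refine Finset.sum_eq_zero fun ξ hξ => ?_
      have := hsm ξ ((hS ξ).1 hξ)
      rw [Module.length_eq_zero]
      simp

/-- An additive function vanishing on modules with zero generic stalks only depends on the lengths of the
generic stalks. -/
theorem eq_of_gen [IsReduced X] [IsNoetherian X] {v : X.Modules → ℤ} (hv : IsAdd v)
    (h0 : ∀ M : X.Modules, Coh.IsCoh M → IsSmall M → v M = 0) {M N : X.Modules} (hM : Coh.IsCoh M)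
    (hN : Coh.IsCoh N) (h : ∀ ξ : X, IsGen ξ → Module.length (X.presheaf.stalk ξ) (M.presheaf.stalk ξ) =
      Module.length (X.presheaf.stalk ξ) (N.presheaf.stalk ξ)) : v M = v N := by
  have hfin := SubClosed.finite_isGen X
  have hS : ∀ ξ, ξ ∈ hfin.toFinset ↔ IsGen ξ := fun ξ => hfin.mem_toFinset
  rw [eq_genSum hv h0 _ hS hM, eq_genSum hv h0 _ hS hN]
  unfold genSum
  exact Finset.sum_congr rfl fun ξ hξ => by rw [h ξ ((hS ξ).1 hξ)]

end Gen

end K77.TF
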