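import Groth.Agent.TFOne.K77.Basic
import Groth.Agent.CycB.MSky
import Groth.Agent.VarietyB.ExactLoc
import Groth.Agent.Sga67.CohBasic

/-!
# Torsion-free quotients attached to sets of generic points

`IsQ T π`: `π : F ⟶ G` is epi, `G` coherent and torsion-free, `π` is injective at the points of `T` and `G`
vanishes at the generic points outside `T`.  For `F` torsion-free of rank one and a union `Z` of irreducible
components `TFOne.IsQuotOn X F Z G π` is `IsQ {ξ | IsGen ξ ∧ ξ ∈ Z} π`.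
-/

set_option autoImplicit false
universe u
open CategoryTheory CategoryTheory.Limits AlgebraicGeometry Opposite TopologicalSpace

namespace K77.TF

open Groth.Agent.CycB.StalkExact Groth.Agent.CurvesB Groth.Agent.CurvesB.SubH1
  Groth.Agent.CurvesB.GenStalk Groth.Agent.VarietyA.StalkCrit

variable {X : Scheme.{u}}

section General

theorem stalkLin_comp_apply {M N K : X.Modules} (φ : M ⟶ N) (ψ : N ⟶ K) (x : X)
    (m : M.presheaf.stalk x) : stalkLin (φ ≫ ψ) x m = stalkLin ψ x (stalkLin φ x m) := by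
  rw [stalkLin_comp]; rfl

theorem stalkLin_zero_apply (M N : X.Modules) (x : X) (m : M.presheaf.stalk x) :
    stalkLin (0 : M ⟶ N) x m = 0 := by
  have h1 : stalkLin (0 : M ⟶ N) x m = ((stalkFun x).map (0 : M ⟶ N)).hom m := rfl
  rw [h1, Functor.map_zero]
  rfl

theorem hom_eq_zero_of_stalk {M N : X.Modules} (φ : M ⟶ N)
    (h : ∀ (x : X) (m : M.presheaf.stalk x), stalkLin φ x m = 0) : φ = 0 := by
  apply Scheme.Modules.hom_ext
  intro U
  ext s
  refine Groth.Agent.VarietyA.FiniteSupport.section_eq N _ _ fun x hx => ?_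
  rw [← stalkLin_germ, h]
  exact (map_zero _).symm

theorem mem_ker_iff {M N : X.Modules} (φ : M ⟶ N) (x : X) (s : M.presheaf.stalk x) :
    stalkLin φ x s = 0 ↔ ∃ t : (kernel φ).presheaf.stalk x, stalkLin (kernel.ι φ) x t = s := by
  have h : (ShortComplex.mk (kernel.ι φ) φ (kernel.condition φ)).Exact :=
    ShortComplex.exact_of_f_is_kernel _ (kernelIsKernel φ)
  exact stalkLin_exact _ h x s

/-- A map vanishing where an epimorphism vanishes factors through it. -/
theorem exists_desc {F G H : X.Modules} (π : F ⟶ G) [Epi π] (φ : F ⟶ H)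
    (h : ∀ (x : X) (s : F.presheaf.stalk x), stalkLin π x s = 0 → stalkLin φ x s = 0) :
    ∃ c : G ⟶ H, π ≫ c = φ := by
  have hz : kernel.ι π ≫ φ = 0 := by
    refine hom_eq_zero_of_stalk _ fun x m => ?_
    rw [stalkLin_comp_apply]
    exact h x _ ((mem_ker_iff π x _).2 ⟨m, rfl⟩)
  exact ⟨Abelian.epiDesc π φ hz, Abelian.comp_epiDesc π φ hz⟩

/-- A map with values in a subobject factors through it. -/
theorem exists_lift {K F H : X.Modules} (ι : K ⟶ F) [Mono ι] (φ : H ⟶ F)
    (h : ∀ (x : X) (s : H.presheaf.stalk x), ∃ t : K.presheaf.stalk x, stalkLin ι x t = stalkLin φ x s) :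
    ∃ c : H ⟶ K, c ≫ ι = φ := by
  have hz : φ ≫ cokernel.π ι = 0 := by
    refine hom_eq_zero_of_stalk _ fun x m => ?_
    rw [stalkLin_comp_apply]
    obtain ⟨t, ht⟩ := h x m
    rw [← ht, ← stalkLin_comp_apply, cokernel.condition, stalkLin_zero_apply]
  exact ⟨Abelian.monoLift ι φ hz, Abelian.monoLift_comp ι φ hz⟩

theorem exact_of_stalk' {A B C : X.Modules} (f : A ⟶ B) (g : B ⟶ C) (w : f ≫ g = 0)
    (h : ∀ (x : X) (b : B.presheaf.stalk x), stalkLin g x b = 0 → ∃ a, stalkLin f x a = b) :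
    (ShortComplex.mk f g w).Exact := by
  refine Groth.Agent.VarietyB.ExactLoc.exact_of_stalk _ fun x b => ⟨h x b, ?_⟩
  rintro ⟨a, rfl⟩
  change stalkLin g x (stalkLin f x a) = 0
  rw [← stalkLin_comp_apply, w, stalkLin_zero_apply]

end General

/-- `π : F ⟶ G` is the torsion-free quotient of `F` on the set `T` of generic points. -/
structure IsQ {F G : X.Modules} (T : Set X) (π : F ⟶ G) : Prop where
  gen : ∀ ξ ∈ T, IsGen ξ
  epi : Epi π
  coh : Coh.IsCoh G
  tf : StTF G
  inj : ∀ ξ ∈ T, Function.Injective (stalkLin π ξ)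
  zero : ∀ ξ, IsGen ξ → ξ ∉ T → Subsingleton (G.presheaf.stalk ξ)

namespace IsQ

variable {F G G' : X.Modules} {T T' : Set X} {π : F ⟶ G} {π' : F ⟶ G'}

theorem surj (h : IsQ T π) (x : X) : Function.Surjective (stalkLin π x) :=
  have := h.epi
  stalkLin_surjective π x

/-- The kernel of a torsion-free quotient consists of the germs vanishing at the points of `T`. -/
theorem ker_iff (h : IsQ T π) (x : X) (s : F.presheaf.stalk x) :
    stalkLin π x s = 0 ↔ ∀ ξ ∈ T, ∀ hx : ξ ⤳ x, F.presheaf.stalkSpecializes hx s = 0 := by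
  constructor
  · intro hs ξ hξ hx
    apply h.inj ξ hξ
    rw [stalkLin_spec, hs, map_zero, map_zero]
  · intro hs
    refine h.tf x _ fun ξ hx hξ => ?_
    rw [← stalkLin_spec]
    by_cases hT : ξ ∈ T
    · rw [hs ξ hT hx, map_zero]
    · exact (h.zero ξ hξ hT).elim _ _

theorem spec_eq_zero (h : IsQ T π) {x : X} (s : G.presheaf.stalk x)
    (hs : ∀ ξ ∈ T, ∀ hx : ξ ⤳ x, G.presheaf.stalkSpecializes hx s = 0) : s = 0 := by
  refine h.tf x _ fun ξ hx hξ => ?_
  by_cases hT : ξ ∈ T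
  · exact hs ξ hT hx
  · exact (h.zero ξ hξ hT).elim _ _

/-- The comparison map for `T' ⊆ T`. -/
theorem exists_map (h : IsQ T π) (h' : IsQ T' π') (hT : T' ⊆ T) : ∃ c : G ⟶ G', π ≫ c = π' ∧ Epi c := by
  have := h.epi
  obtain ⟨c, hc⟩ := exists_desc π π' fun x s hs =>
    (h'.ker_iff x s).2 fun ξ hξ hx => (h.ker_iff x s).1 hs ξ (hT hξ) hx
  have h2 : Epi (π ≫ c) := by rw [hc]; exact h'.epi
  exact ⟨c, hc, epi_of_epi π c⟩

/-- Uniqueness of the quotient. -/
theorem exists_iso (h : IsQ T π) (h' : IsQ T π') : ∃ e : G ≅ G', π ≫ e.hom = π' := by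
  obtain ⟨c, hc, -⟩ := h.exists_map h' le_rfl
  obtain ⟨d, hd, -⟩ := h'.exists_map h le_rfl
  have := h.epi
  have := h'.epi
  refine ⟨⟨c, d, ?_, ?_⟩, hc⟩
  · rw [← cancel_epi π, ← Category.assoc, hc, hd, Category.comp_id]
  · rw [← cancel_epi π', ← Category.assoc, hd, hc, Category.comp_id]

end IsQ

section Exists

open Groth.Agent.CycB.MSky

theorem isClosed_closure_pt (x : X) : IsClosed (closure ({x} : Set X)) := isClosed_closure

/-- Locally finite families of points: near `x` there are only points specializing to `x`. -/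
theorem exists_nhd {T : Set X} (hT : ∀ x : X, ∃ U : X.Opens, x ∈ U ∧ {t : T | t.1 ∈ U}.Finite)
    (x : X) (W : X.Opens) (hW : x ∈ W) :
    ∃ V : X.Opens, x ∈ V ∧ V ≤ W ∧ ∀ t : T, t.1 ∈ V → t.1 ⤳ x := by
  obtain ⟨U, hxU, hfin⟩ := hT x
  let C : Set X := ⋃ t ∈ {t : T | t.1 ∈ U ∧ ¬ t.1 ⤳ x}, closure {t.1}
  have hC : IsClosed C := by
    refine Set.Finite.isClosed_biUnion (hfin.subset fun t ht => ht.1) fun t _ => isClosed_closure
  refine ⟨⟨U ∩ W ∩ Cᶜ, (U.isOpen.inter W.isOpen).inter hC.isOpen_compl⟩, ⟨⟨hxU, hW⟩, ?_⟩,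
    fun y hy => hy.1.2, fun t ht => ?_⟩
  · intro hx
    obtain ⟨t, ht, hxt⟩ := Set.mem_iUnion₂.1 hx
    exact ht.2 (specializes_iff_mem_closure.2 hxt)
  · by_contra hc
    exact ht.2 (Set.mem_iUnion₂.2 ⟨t, ⟨ht.1.1, hc⟩, subset_closure rfl⟩)

theorem locFin_of_isGen [IsLocallyNoetherian X] {T : Set X} (hT : ∀ ξ ∈ T, IsGen ξ) (x : X) :
    ∃ U : X.Opens, x ∈ U ∧ {t : T | t.1 ∈ U}.Finite := by
  obtain ⟨U, hU, hxU, -⟩ := exists_isAffineOpen_mem_and_subset (X := X) (x := x) (U := ⊤) trivial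
  refine ⟨U, hxU, ?_⟩
  have hN : NoetherianSpace U := by
    have : IsNoetherianRing Γ(X, U) := IsLocallyNoetherian.component_noetherian ⟨U, hU⟩
    exact noetherianSpace_of_isAffineOpen U hU
  have h2 := Groth.Agent.CurvesB.SubClosed.finite_isGen (U : Scheme.{u})
  have h3 : {t : T | t.1 ∈ U}.Finite := by
    refine Set.Finite.of_finite_image (f := Subtype.val) ?_ Subtype.val_injective.injOn
    refine (h2.image U.ι).subset ?_
    rintro _ ⟨t, ht, rfl⟩
    refine ⟨⟨t.1, ht⟩, fun y hy => ?_, rfl⟩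
    have h4 := hT t.1 t.2 y.1 (hy.map U.ι.continuous)
    exact Subtype.ext h4
  exact h3

theorem stalkLin_toMSky_eq_zero_iff {T : Set X}
    (hT : ∀ x : X, ∃ U : X.Opens, x ∈ U ∧ {t : T | t.1 ∈ U}.Finite)
    {Q : T → Type u} [∀ t, AddCommGroup (Q t)] [∀ t : T, Module (X.presheaf.stalk t.1) (Q t)]
    {M : X.Modules} (g : ∀ t : T, M.presheaf.stalk t.1 →ₗ[X.presheaf.stalk t.1] Q t)
    (x : X) (s : M.presheaf.stalk x) :
    stalkLin (toMSky (pt := fun t : T => t.1) g) x s = 0 ↔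
      ∀ (t : T) (h : t.1 ⤳ x), g t (M.presheaf.stalkSpecializes h s) = 0 := by
  obtain ⟨U, hxU, s, rfl⟩ := M.presheaf.exists_germ_eq s
  constructor
  · intro h t ht
    rw [stalkLin_germ] at h
    obtain ⟨V, hVU, hxV, hV⟩ := Groth.Agent.VarietyB.ExactLoc.exists_res_eq_zero _ hxU _ h
    have htV : t.1 ∈ V := ht.mem_open V.isOpen hxV
    have h1 := congrFun (congrFun (hV : (_ : Sec (fun t : T => t.1) Q V) = _) t) ⟨htV⟩
    rw [spec_germ M ht hxU (hVU htV)]
    exact h1
  · intro h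
    obtain ⟨V, hxV, hVU, hV⟩ := exists_nhd hT x U hxU
    have h0 : (toMSky (pt := fun t : T => t.1) g).app V (M.presheaf.map (homOfLE hVU).op s) = 0 := by
      refine (funext fun t => funext fun ht => ?_ : (_ : Sec (fun t : T => t.1) Q V) = _)
      rw [toMSky_app_apply]
      have h2 : M.presheaf.germ V t.1 ht.down (M.presheaf.map (homOfLE hVU).op s) =
          M.presheaf.germ U t.1 (hVU ht.down) s :=
        TopCat.Presheaf.germ_res_apply M.presheaf (homOfLE hVU) t.1 ht.down s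
      rw [h2, ← spec_germ M (hV t ht.down) hxU (hVU ht.down)]
      exact h t (hV t ht.down)
    rw [← TopCat.Presheaf.germ_res_apply M.presheaf (homOfLE hVU) x hxV s, stalkLin_germ, h0, map_zero]

/-- **Existence** of the torsion-free quotient of a coherent module on a set of generic points of a reduced locally
Noetherian scheme; the kernel consists of the germs vanishing at the points of `T`. -/
theorem exists_isQ [IsReduced X] [IsLocallyNoetherian X] {F : X.Modules} (hF : Coh.IsCoh F)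
    (T : Set X) (hT : ∀ ξ ∈ T, IsGen ξ) : ∃ (G : X.Modules) (π : F ⟶ G), IsQ T π := by
  let Q : T → Type u := fun t => F.presheaf.stalk t.1
  let u : F ⟶ msky (fun t : T => t.1) Q := toMSky (pt := fun t : T => t.1) fun t => LinearMap.id
  have hlf := locFin_of_isGen hT
  have hQ : Coh.IsQCoh (msky (fun t : T => t.1) Q) := by
    refine isQCoh_msky hlf fun t q a ha => ⟨1, ?_⟩
    have hf := isField_stalk t.1 (hT t.1 t.2)
    have h0 : a = 0 := by
      by_contra hne
      obtain ⟨b, hb⟩ := hf.mul_inv_cancel hne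
      exact (IsLocalRing.mem_maximalIdeal a).1 ha (IsUnit.of_mul_eq_one b hb)
    rw [h0, zero_pow one_ne_zero, zero_smul]
  have hK : Coh.IsCoh (kernel u) := Groth.Agent.Sga67.CohBasic.isCoh_kernel u hF hQ
  have hker : ∀ (x : X) (s : F.presheaf.stalk x), stalkLin (cokernel.π (kernel.ι u)) x s = 0 ↔
      ∀ ξ ∈ T, ∀ h : ξ ⤳ x, F.presheaf.stalkSpecializes h s = 0 := by
    intro x s
    have h1 : (ShortComplex.mk (kernel.ι u) (cokernel.π (kernel.ι u)) (cokernel.condition _)).Exact :=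
      ShortComplex.exact_cokernel _
    rw [stalkLin_exact _ h1 x s]
    change (∃ t, stalkLin (kernel.ι u) x t = s) ↔ _
    rw [← mem_ker_iff, stalkLin_toMSky_eq_zero_iff hlf]
    exact ⟨fun h ξ hξ hx => h ⟨ξ, hξ⟩ hx, fun h t ht => h t.1 t.2 ht⟩
  refine ⟨cokernel (kernel.ι u), cokernel.π (kernel.ι u), hT, inferInstance,
    Groth.Agent.Sga67.CohBasic.isCoh_cokernel _ hK.1 hF, ?_, ?_, ?_⟩
  · intro x s hs
    obtain ⟨s, rfl⟩ := stalkLin_surjective (cokernel.π (kernel.ι u)) x s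
    rw [hker]
    intro ξ hξ hx
    have h1 := hs ξ hx (hT ξ hξ)
    rw [← stalkLin_spec, hker] at h1
    have h2 := h1 ξ hξ (specializes_refl ξ)
    rwa [spec_refl] at h2
  · intro ξ hξ
    rw [injective_iff_map_eq_zero]
    intro s hs
    have h2 := (hker ξ s).1 hs ξ hξ (specializes_refl ξ)
    rwa [spec_refl] at h2
  · intro ξ hξ hξT
    refine ⟨fun a b => ?_⟩
    have key : ∀ a : (cokernel (kernel.ι u)).presheaf.stalk ξ, a = 0 := by
      intro a
      obtain ⟨a, rfl⟩ := stalkLin_surjective (cokernel.π (kernel.ι u)) ξ a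
      rw [hker]
      intro ζ hζ h
      exact absurd (hξ ζ h ▸ hζ) hξT
    rw [key a, key b]

end Exists

end K77.TF
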