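import Groth.Agent.TFOne.K77.UnitMod
import Groth.Agent.TFOne.K77.Quot
import Groth.Agent.Sga67.ClosedPush
import Groth.Agent.CohqA.ClosedPush
import Groth.Agent.FormalB.MonoMu

/-!
# Elementary modifications along the special fibre

`X` over `Spec A`, `t : A`, `i : Z ⟶ X` the closed subscheme `t = 0`.  For `I` quasi-coherent with `t` injective on
`I`, an epimorphism `π : i^* I ⟶ G` and `K = ker (I → i_* i^* I → i_* G)` there is an exact sequence
`0 → G → i^* K → i^* I → G → 0`.
-/

set_option autoImplicit false
universe u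
open CategoryTheory CategoryTheory.Limits AlgebraicGeometry Opposite TopologicalSpace

namespace K77.ModSeq

open Groth.Agent.CycB.StalkExact Groth.Agent.VarietyA.StalkCrit K77.TF
  Groth.Agent.FormalB Groth.Agent.FormalB.ModPow

variable {A : Type u} [CommRing A] {X : Scheme.{u}} [X.Over (Spec (CommRingCat.of A))]

/-- The unit of the adjunction. -/
noncomputable abbrev un {Z : Scheme.{u}} (i : Z ⟶ X) (M : X.Modules) :
    M ⟶ (Scheme.Modules.pushforward i).obj ((Scheme.Modules.pullback i).obj M) :=
  (Scheme.Modules.pullbackPushforwardAdjunction i).unit.app M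

/-- The composite `I → i_* i^* I → i_* G`. -/
noncomputable abbrev toPush {Z : Scheme.{u}} (i : Z ⟶ X) {I : X.Modules} {G : Z.Modules}
    (π : (Scheme.Modules.pullback i).obj I ⟶ G) : I ⟶ (Scheme.Modules.pushforward i).obj G :=
  un i I ≫ (Scheme.Modules.pushforward i).map π

section Principal

variable (t : A) {Z : Scheme.{u}} (i : Z ⟶ X) (q : Z ⟶ Spec (CommRingCat.of (A ⧸ Ideal.span {t})))
  (H : IsPullback i q (X ↘ Spec (CommRingCat.of A))
    (Spec.map (CommRingCat.ofHom (Ideal.Quotient.mk (Ideal.span {t})))))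

include H

theorem isClosedImmersion : IsClosedImmersion i := by
  have hclosed : IsClosedImmersion (Spec.map (CommRingCat.ofHom (Ideal.Quotient.mk (Ideal.span {t})))) :=
    IsClosedImmersion.spec_of_surjective _ Ideal.Quotient.mk_surjective
  exact MorphismProperty.of_isPullback H.flip hclosed

/-- `M → M → i_* i^* M → 0` is exact. -/
theorem exact_un (M : X.Modules) (hM : Coh.IsQCoh M) :
    Epi (un i M) ∧ ∃ w : Formal.smulMod A M t ≫ un i M = 0,
      (ShortComplex.mk (Formal.smulMod A M t) (un i M) w).Exact := by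
  have h1 : IsModPow (Ideal.span {t} ^ 1) (un i M) := by
    rw [pow_one]; exact UnitMod.isModPow_unit (Ideal.span {t}) i q H M hM
  obtain ⟨w, hw⟩ := Groth.Agent.FormalB.MonoMu.exact_of_isModPow h1
  have hp : Formal.smulMod A M (t ^ 1) = Formal.smulMod A M t := by rw [pow_one]
  refine ⟨h1.epi, by rw [← hp]; exact w, ?_⟩
  have e : ShortComplex.mk (Formal.smulMod A M (t ^ 1)) (un i M) w ≅
      ShortComplex.mk (Formal.smulMod A M t) (un i M) (by rw [← hp]; exact w) :=
    ShortComplex.isoMk (Iso.refl _) (Iso.refl _) (Iso.refl _) (by simp) (by simp)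
  exact ShortComplex.exact_of_iso e hw

/-- The exact sequence of an elementary modification. -/
theorem exists_seq {I : X.Modules} (hI : Coh.IsQCoh I) [hm : Mono (Formal.smulMod A I t)] {G : Z.Modules}
    (π : (Scheme.Modules.pullback i).obj I ⟶ G) [hπ : Epi π] {K : X.Modules} (hK : Coh.IsQCoh K)
    (ι : K ⟶ I) [hι : Mono ι] (w : ι ≫ toPush i π = 0) (hex : (ShortComplex.mk ι (toPush i π) w).Exact) :
    ∃ (a : G ⟶ (Scheme.Modules.pullback i).obj K) (_ : Mono a)
      (w₁ : a ≫ (Scheme.Modules.pullback i).map ι = 0) (w₂ : (Scheme.Modules.pullback i).map ι ≫ π = 0),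
      (ShortComplex.mk a ((Scheme.Modules.pullback i).map ι) w₁).Exact ∧
      (ShortComplex.mk ((Scheme.Modules.pullback i).map ι) π w₂).Exact := by
  have hci := isClosedImmersion t i q H
  have hpc := Groth.Agent.Sga67.ClosedPush.preservesFiniteColimits_pushforward i
  have hfull : (Scheme.Modules.pushforward i).Full := Groth.Agent.CohqA.ClosedPush.full
  have hfaith : (Scheme.Modules.pushforward i).Faithful := Groth.Agent.CohqA.ClosedPush.faithful
  have hpl : PreservesLimits (Scheme.Modules.pushforward i) :=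
    (Scheme.Modules.pullbackPushforwardAdjunction i).rightAdjoint_preservesLimits
  have hpfl : PreservesFiniteLimits (Scheme.Modules.pushforward i) := inferInstance
  have hadd : (Scheme.Modules.pushforward i).Additive := Functor.additive_of_preserves_binary_products _
  let p := toPush i π
  obtain ⟨hepiI, wI, hexI⟩ := exact_un t i q H I hI
  obtain ⟨hepiK, wK, hexK⟩ := exact_un t i q H K hK
  have hpπ : Epi ((Scheme.Modules.pushforward i).map π) := inferInstance
  have hep : Epi p := epi_comp _ _
  -- `t I ⊆ K`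
  have hμp : Formal.smulMod A I t ≫ p = 0 := by
    change Formal.smulMod A I t ≫ un i I ≫ (Scheme.Modules.pushforward i).map π = 0
    rw [← Category.assoc, wI, zero_comp]
  obtain ⟨m, hm'⟩ : ∃ m : I ⟶ K, m ≫ ι = Formal.smulMod A I t := by
    refine ⟨hex.lift _ hμp, hex.lift_f _ hμp⟩
  have hιm : ι ≫ m = Formal.smulMod A K t := by
    rw [← cancel_mono ι, Category.assoc, hm', smulMod_naturality]
  have hz : ι ≫ (m ≫ un i K) = 0 := by
    rw [← Category.assoc, hιm, wK]
  obtain ⟨a', ha'⟩ : ∃ a' : (Scheme.Modules.pushforward i).obj G ⟶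
      (Scheme.Modules.pushforward i).obj ((Scheme.Modules.pullback i).obj K), p ≫ a' = m ≫ un i K :=
    ⟨hex.desc _ hz, hex.g_desc _ hz⟩
  have hnat : un i K ≫ (Scheme.Modules.pushforward i).map ((Scheme.Modules.pullback i).map ι) =
      ι ≫ un i I := ((Scheme.Modules.pullbackPushforwardAdjunction i).unit.naturality ι).symm
  let a := (Scheme.Modules.pushforward i).preimage a'
  have ha : (Scheme.Modules.pushforward i).map a = a' := (Scheme.Modules.pushforward i).map_preimage a'
  -- the stalkwise statements
  have s1 : ∀ (x : X) (y : ((Scheme.Modules.pushforward i).obj G).presheaf.stalk x),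
      stalkLin a' x y = 0 → y = 0 := by
    intro x y hy
    obtain ⟨s, rfl⟩ := stalkLin_surjective p x y
    rw [← stalkLin_comp_apply, ha', stalkLin_comp_apply] at hy
    obtain ⟨k, hk⟩ := (stalkLin_exact _ hexK x _).1 hy
    have hk : stalkLin (Formal.smulMod A K t) x k = stalkLin m x s := hk
    have h2 : stalkLin (Formal.smulMod A I t) x s = stalkLin (Formal.smulMod A I t) x (stalkLin ι x k) := by
      rw [← hm', stalkLin_comp_apply, ← hk, ← stalkLin_comp_apply, smulMod_naturality, ← hm',
        stalkLin_comp_apply]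
    have h3 := stalkLin_injective (Formal.smulMod A I t) x h2
    rw [h3, ← stalkLin_comp_apply, w, stalkLin_zero_apply]
  have s2 : ∀ (x : X) (z : ((Scheme.Modules.pushforward i).obj
      ((Scheme.Modules.pullback i).obj K)).presheaf.stalk x),
      stalkLin ((Scheme.Modules.pushforward i).map ((Scheme.Modules.pullback i).map ι)) x z = 0 →
        ∃ y, stalkLin a' x y = z := by
    intro x z hz
    obtain ⟨k, rfl⟩ := stalkLin_surjective (un i K) x z
    rw [← stalkLin_comp_apply, hnat, stalkLin_comp_apply] at hz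
    obtain ⟨s, hs⟩ := (stalkLin_exact _ hexI x _).1 hz
    have hs : stalkLin (Formal.smulMod A I t) x s = stalkLin ι x k := hs
    rw [← hm', stalkLin_comp_apply] at hs
    have h3 := stalkLin_injective ι x hs
    refine ⟨stalkLin p x s, ?_⟩
    rw [← stalkLin_comp_apply, ha', stalkLin_comp_apply, h3]
  have s3 : ∀ (x : X) (z : ((Scheme.Modules.pushforward i).obj
      ((Scheme.Modules.pullback i).obj I)).presheaf.stalk x),
      stalkLin ((Scheme.Modules.pushforward i).map π) x z = 0 →
        ∃ y, stalkLin ((Scheme.Modules.pushforward i).map ((Scheme.Modules.pullback i).map ι)) x y = z := by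
    intro x z hz
    obtain ⟨s, rfl⟩ := stalkLin_surjective (un i I) x z
    rw [← stalkLin_comp_apply] at hz
    obtain ⟨k, hk⟩ := (stalkLin_exact _ hex x s).1 hz
    have hk : stalkLin ι x k = s := hk
    refine ⟨stalkLin (un i K) x k, ?_⟩
    rw [← stalkLin_comp_apply, hnat, stalkLin_comp_apply, hk]
  have w1' : a' ≫ (Scheme.Modules.pushforward i).map ((Scheme.Modules.pullback i).map ι) = 0 := by
    rw [← cancel_epi p, ← Category.assoc, ha', Category.assoc, hnat, ← Category.assoc, hm', wI, comp_zero]
  have w2' : (Scheme.Modules.pushforward i).map ((Scheme.Modules.pullback i).map ι) ≫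
      (Scheme.Modules.pushforward i).map π = 0 := by
    rw [← cancel_epi (un i K), ← Category.assoc, hnat, Category.assoc, comp_zero]
    exact w
  have w₁ : a ≫ (Scheme.Modules.pullback i).map ι = 0 := by
    apply (Scheme.Modules.pushforward i).map_injective
    rw [Functor.map_comp, ha, w1', Functor.map_zero]
  have w₂ : (Scheme.Modules.pullback i).map ι ≫ π = 0 := by
    apply (Scheme.Modules.pushforward i).map_injective
    rw [Functor.map_comp, w2', Functor.map_zero]
  have hma' : Mono a' := by
    refine mono_of_stalks a' fun x => ?_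
    rw [injective_iff_map_eq_zero]
    exact s1 x
  have hma : Mono a := by
    have : Mono ((Scheme.Modules.pushforward i).map a) := by rw [ha]; exact hma'
    exact (Scheme.Modules.pushforward i).mono_of_mono_map this
  refine ⟨a, hma, w₁, w₂, ?_, ?_⟩
  · rw [← ShortComplex.exact_map_iff_of_faithful _ (Scheme.Modules.pushforward i)]
    have e : (ShortComplex.mk a ((Scheme.Modules.pullback i).map ι) w₁).map (Scheme.Modules.pushforward i) ≅
        ShortComplex.mk a' ((Scheme.Modules.pushforward i).map ((Scheme.Modules.pullback i).map ι)) w1' :=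
      ShortComplex.isoMk (Iso.refl _) (Iso.refl _) (Iso.refl _)
        (by change 𝟙 _ ≫ a' = (Scheme.Modules.pushforward i).map a ≫ 𝟙 _
            rw [Category.id_comp, Category.comp_id, ha])
        (by change 𝟙 _ ≫ _ = _ ≫ 𝟙 _
            rw [Category.id_comp, Category.comp_id]; rfl)
    exact (ShortComplex.exact_iff_of_iso e).2 (exact_of_stalk' _ _ _ s2)
  · rw [← ShortComplex.exact_map_iff_of_faithful _ (Scheme.Modules.pushforward i)]
    exact exact_of_stalk' _ _ _ s3

end Principal

theorem exists_seq' (t : A) {J : Ideal A} (hJ : J = Ideal.span {t}) {Z : Scheme.{u}} (i : Z ⟶ X)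
    (q : Z ⟶ Spec (CommRingCat.of (A ⧸ J)))
    (H : IsPullback i q (X ↘ Spec (CommRingCat.of A)) (Spec.map (CommRingCat.ofHom (Ideal.Quotient.mk J))))
    {I : X.Modules} (hI : Coh.IsQCoh I) (hm : Mono (Formal.smulMod A I t)) {G : Z.Modules}
    (π : (Scheme.Modules.pullback i).obj I ⟶ G) (hπ : Epi π) {K : X.Modules} (hK : Coh.IsQCoh K)
    (ι : K ⟶ I) (hι : Mono ι) (w : ι ≫ toPush i π = 0) (hex : (ShortComplex.mk ι (toPush i π) w).Exact) :
    ∃ (a : G ⟶ (Scheme.Modules.pullback i).obj K) (_ : Mono a)
      (w₁ : a ≫ (Scheme.Modules.pullback i).map ι = 0) (w₂ : (Scheme.Modules.pullback i).map ι ≫ π = 0),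
      (ShortComplex.mk a ((Scheme.Modules.pullback i).map ι) w₁).Exact ∧
      (ShortComplex.mk ((Scheme.Modules.pullback i).map ι) π w₂).Exact := by
  subst hJ
  exact exists_seq t i q H hI π hK ι w hex

/-- The unit is an epimorphism and its kernel is `t M`. -/
theorem exact_un' (t : A) {J : Ideal A} (hJ : J = Ideal.span {t}) {Z : Scheme.{u}} (i : Z ⟶ X)
    (q : Z ⟶ Spec (CommRingCat.of (A ⧸ J)))
    (H : IsPullback i q (X ↘ Spec (CommRingCat.of A)) (Spec.map (CommRingCat.ofHom (Ideal.Quotient.mk J))))
    (M : X.Modules) (hM : Coh.IsQCoh M) :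
    Epi (un i M) ∧ ∃ w : Formal.smulMod A M t ≫ un i M = 0,
      (ShortComplex.mk (Formal.smulMod A M t) (un i M) w).Exact := by
  subst hJ
  exact exact_un t i q H M hM

end K77.ModSeq
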