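import Groth.Agent.TFOne.K77.Bridge
import Groth.Agent.TFOne.K77.ModSeq
import Groth.Agent.TFOne.K22.Pull

/-!
# Invariance under isomorphism

`IsTF1`, `IsSimple`, `IsQuotOn`, `rBeta`, `IsSemistable`, `IsQuasistableAtPt`, `Psi` and `bt` depend only on the
isomorphism classes of `F` and `E`.
-/

set_option autoImplicit false
universe u
open CategoryTheory CategoryTheory.Limits AlgebraicGeometry Opposite TopologicalSpace

namespace K77.Iso

open Groth.Agent.CycB.StalkExact Groth.Agent.CurvesB Groth.Agent.CurvesB.SubH1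
  Groth.Agent.CurvesB.GenStalk Groth.Agent.VarietyA.StalkCrit Groth.Agent.CurvesB.PairLemma K77.TF

variable {X : Scheme.{u}} {F F' E E' : X.Modules}

theorem isTF1 (e : F ≅ F') (h : TFOne.IsTF1 X F) : TFOne.IsTF1 X F' := by
  refine ⟨Groth.Agent.Sga67.CohBasic.isCoh_of_iso e h.1, fun x => ?_, fun x hx => ?_⟩
  · have h1 := h.2.1 x
    exact K22.Pull.isTorsionFree_of_equiv (stalkLinEquiv e x) h1
  · obtain ⟨e'⟩ := h.2.2 x hx
    exact ⟨(stalkLinEquiv e x).symm.trans e'⟩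

theorem isQuotOn (e : F ≅ F') {Z : Set X} {G : X.Modules} {π : F' ⟶ G} (h : TFOne.IsQuotOn X F' Z G π) :
    TFOne.IsQuotOn X F Z G (e.hom ≫ π) := by
  have := h.1
  exact ⟨epi_comp _ _, h.2⟩

variable (k : Type u) [Field k] (q : X ⟶ Spec (CommRingCat.of k))

theorem isSimple (e : F ≅ F') (h : TFOne.IsSimple X k q F) : TFOne.IsSimple X k q F' := by
  refine ⟨fun hz => h.1 (hz.of_iso e), ?_⟩
  letI : X.Over (Spec (CommRingCat.of k)) := ⟨q⟩
  intro φ
  obtain ⟨c, hc⟩ := h.2 (e.hom ≫ φ ≫ e.inv)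
  refine ⟨c, ?_⟩
  have h1 : φ = e.inv ≫ (e.hom ≫ φ ≫ e.inv) ≫ e.hom := by simp
  rw [h1, hc, Groth.Agent.FormalB.ModPow.smulMod_naturality, ← Category.assoc, e.inv_hom_id, Category.id_comp]

theorem rBeta_congr (e : E ≅ E') (r : ℕ) (Z : Set X) (hZ : IsClosed Z) (G : X.Modules) :
    TFOne.rBeta X k q Z hZ E r G = TFOne.rBeta X k q Z hZ E' r G := by
  unfold TFOne.rBeta
  letI : X.Over (Spec (CommRingCat.of k)) := ⟨q⟩
  letI : (VecSt.subsch X Z hZ).Over (Spec (CommRingCat.of k)) := ⟨VecSt.subschι X Z hZ ≫ q⟩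
  have h1 : Curv2.euler k (VecSt.subsch X Z hZ) ((Scheme.Modules.pullback (VecSt.subschι X Z hZ)).obj E) =
      Curv2.euler k (VecSt.subsch X Z hZ) ((Scheme.Modules.pullback (VecSt.subschι X Z hZ)).obj E') :=
    Groth.Agent.VarietyA.DegRank.euler_iso k ((Scheme.Modules.pullback (VecSt.subschι X Z hZ)).mapIso e)
  congr 1
  unfold Curv2.deg
  rw [h1]

theorem isSemistable (eF : F ≅ F') (eE : E ≅ E') (r : ℕ) (h : TFOne.IsSemistable X k q F E r) :
    TFOne.IsSemistable X k q F' E' r := by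
  refine ⟨isTF1 eF h.1, fun Z hZ hs hne G π hG => ?_⟩
  rw [← rBeta_congr k q eE]
  exact h.2 Z hZ hs hne G _ (isQuotOn eF hG)

theorem isQuasistableAtPt (eF : F ≅ F') (eE : E ≅ E') (r : ℕ) (p : X)
    (h : TFOne.IsQuasistableAtPt X k q F E r p) : TFOne.IsQuasistableAtPt X k q F' E' r p := by
  refine ⟨isSemistable k q eF eE r h.1, fun Z hZ hs hne hp G π hG => ?_⟩
  rw [← rBeta_congr k q eE]
  exact h.2 Z hZ hs hne hp G _ (isQuotOn eF hG)

section Over

variable [X.Over (Spec (CommRingCat.of k))]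

theorem Psi_congr (eE : E ≅ E') (eF : F ≅ F') : Psi k E F = Psi k E' F' := by
  rw [Psi_iso k E eF]
  exact Groth.Agent.VarietyA.DegRank.euler_iso k ((DCoh.tensorBi.mapIso eE).app F')

theorem isQ (e : F ≅ F') {T : Set X} {G : X.Modules} {π : F' ⟶ G} (h : IsQ T π) : IsQ T (e.hom ≫ π) := by
  have := h.epi
  refine ⟨h.gen, epi_comp _ _, h.coh, h.tf, fun ξ hξ => ?_, h.zero⟩
  rw [stalkLin_comp]
  exact (h.inj ξ hξ).comp (stalkLinEquiv e ξ).injective

theorem bt_congr [IsProper (X ↘ Spec (CommRingCat.of k))] [IsReduced X] {r : ℕ}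
    (hE : FlatMod.IsFinLocFreeOfRank r E) (hE' : FlatMod.IsFinLocFreeOfRank r E') (eE : E ≅ E') (eF : F ≅ F')
    (hF : Coh.IsCoh F) {T : Set X} (hT : ∀ ξ ∈ T, IsGen ξ) : bt k E F T = bt k E' F' T := by
  have hn := Groth.Agent.Fga.SnapperTwist.isNoetherian_of_proper k X
  obtain ⟨G, π, h⟩ := exists_isQ (Groth.Agent.Sga67.CohBasic.isCoh_of_iso eF hF) T hT
  rw [bt_eq k hE (isQ eF h), bt_eq k hE' h]
  exact Psi_congr k eE (CategoryTheory.Iso.refl _)

end Over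

end K77.Iso
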