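import Groth.Agent.TFOne.K77.FieldExt
import Groth.Agent.TFOne.K77.Iso
import Groth.Agent.Grass.K652.LfRank

/-!
# Semistability and quasistability under extension of the base field

`Z` proper, reduced, of dimension at most one over `κ`, with geometrically integral components, `Y = Z ×_κ Ω`.
-/

set_option autoImplicit false
universe u
open CategoryTheory CategoryTheory.Limits AlgebraicGeometry Opposite TopologicalSpace IsLocalRing

namespace K77.Closed

open Groth.Agent.CurvesB.SubH1 K77.TF Groth.Agent.CurvesB Groth.Agent.CurvesB.PairLemma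

variable {κ : Type u} [Field κ] {Z : Scheme.{u}} [Z.Over (Spec (CommRingCat.of κ))]
  [IsProper (Z ↘ Spec (CommRingCat.of κ))] [IsReduced Z]
  (hgi : ∀ (C : Set Z) (hC : C ∈ irreducibleComponents (Z : Type u)),
    GeometricallyIntegral (VecSt.subschι Z C (isClosed_of_mem_irreducibleComponents C hC) ≫
      (Z ↘ Spec (CommRingCat.of κ))))
  {Ω : Type u} [Field Ω] {φ : κ →+* Ω} {Y : Scheme.{u}} (g : Y ⟶ Z) [Y.Over (Spec (CommRingCat.of Ω))]
  (H : IsPullback g (Y ↘ Spec (CommRingCat.of Ω)) (Z ↘ Spec (CommRingCat.of κ)) (Spec.map (CommRingCat.ofHom φ)))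

include H in
omit [IsReduced Z] in
theorem isProper : IsProper (Y ↘ Spec (CommRingCat.of Ω)) :=
  MorphismProperty.of_isPullback H (inferInstanceAs (IsProper (Z ↘ Spec (CommRingCat.of κ))))

variable {E : Z.Modules} {r : ℕ} (hE : FlatMod.IsFinLocFreeOfRank r E) {F : Z.Modules} (hF : TFOne.IsTF1 Z F)
  (hψ : ∀ G : Z.Modules, Coh.IsCoh G →
    Psi Ω ((Scheme.Modules.pullback g).obj E) ((Scheme.Modules.pullback g).obj G) = Psi κ E G)

include H hgi in
theorem pre_image {T' : Set Y} (hT' : ∀ y ∈ T', IsGen y) : pre g (g '' T') = T' := by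
  ext y
  constructor
  · rintro ⟨h1, y', hy', h2⟩
    have := FieldExt.inj_gen _ g _ H hgi (hT' y' hy') h1 h2
    rwa [← this]
  · intro hy
    exact ⟨hT' y hy, y, hy, rfl⟩

include H hgi in
theorem isReduced_Y : IsReduced Y := by
  have hN := Groth.Agent.Fga.SnapperTwist.isNoetherian_of_proper κ Z
  exact FieldExt.isReduced _ g _ H hgi

include H hgi hE hF hψ

theorem bt_pre {T : Set Z} (hT : ∀ ξ ∈ T, IsGen ξ) :
    bt Ω ((Scheme.Modules.pullback g).obj E) ((Scheme.Modules.pullback g).obj F) (pre g T) = bt κ E F T := by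
  have hN := Groth.Agent.Fga.SnapperTwist.isNoetherian_of_proper κ Z
  have hpY := isProper g H
  have hNY := Groth.Agent.Fga.SnapperTwist.isNoetherian_of_proper Ω Y
  have hfl := FieldExt.flat _ g _ H
  have hred := isReduced_Y hgi g H
  obtain ⟨G, π, h⟩ := exists_isQ hF.1 T hT
  rw [bt_eq Ω (K652.LfRank.pullback g hE) (h.pull g), bt_eq κ hE h, hψ G h.coh]

theorem isSemistable_pull (hdim : topologicalKrullDim Z ≤ 1)
    (h : ∀ T : Set Z, (∀ ξ ∈ T, IsGen ξ) → 0 ≤ bt κ E F T) :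
    TFOne.IsSemistable Y Ω (Y ↘ Spec (CommRingCat.of Ω)) ((Scheme.Modules.pullback g).obj F)
      ((Scheme.Modules.pullback g).obj E) r := by
  have hN := Groth.Agent.Fga.SnapperTwist.isNoetherian_of_proper κ Z
  have hpY := isProper g H
  have hfl := FieldExt.flat _ g _ H
  have hred := isReduced_Y hgi g H
  have hdimY : topologicalKrullDim Y ≤ 1 := (FieldExt.dim_eq _ g _ H).trans_le hdim
  rw [isSemistable_iff Ω (K652.LfRank.pullback g hE) hdimY]
  refine ⟨K22.Pull.isTF1_pullback g hF, fun T' hT' _ _ => ?_⟩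
  have hg : ∀ ξ ∈ g '' T', IsGen ξ := by
    rintro _ ⟨y, hy, rfl⟩
    exact K22.Pull.isGen_map g (hT' y hy)
  rw [← pre_image hgi g H hT', bt_pre hgi g H hE hF hψ hg]
  exact h _ hg

theorem isQuasistableAtPt_pull (hdim : topologicalKrullDim Z ≤ 1)
    (h : ∀ T : Set Z, (∀ ξ ∈ T, IsGen ξ) → 0 ≤ bt κ E F T) {η : Z}
    (h' : ∀ T : Set Z, (∀ ξ ∈ T, IsGen ξ) → η ∈ T → (∃ ξ : Z, IsGen ξ ∧ ξ ∉ T) → 0 < bt κ E F T)
    {p : Y} (hp : ∀ ξ : Z, IsGen ξ → ξ ⤳ g p → ξ = η) :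
    TFOne.IsQuasistableAtPt Y Ω (Y ↘ Spec (CommRingCat.of Ω)) ((Scheme.Modules.pullback g).obj F)
      ((Scheme.Modules.pullback g).obj E) r p := by
  have hN := Groth.Agent.Fga.SnapperTwist.isNoetherian_of_proper κ Z
  have hpY := isProper g H
  have hfl := FieldExt.flat _ g _ H
  have hred := isReduced_Y hgi g H
  have hdimY : topologicalKrullDim Y ≤ 1 := (FieldExt.dim_eq _ g _ H).trans_le hdim
  rw [isQuasistableAtPt_iff Ω (K652.LfRank.pullback g hE) hdimY]
  refine ⟨isSemistable_pull hgi g H hE hF hψ hdim h, fun T' hT' hne ⟨ξ, hξ, hξp⟩ => ?_⟩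
  have hg : ∀ ξ ∈ g '' T', IsGen ξ := by
    rintro _ ⟨y, hy, rfl⟩
    exact K22.Pull.isGen_map g (hT' y hy)
  rw [← pre_image hgi g H hT', bt_pre hgi g H hE hF hψ hg]
  refine h' _ hg ?_ ?_
  · exact ⟨ξ, hξ, hp _ (hg _ ⟨ξ, hξ, rfl⟩) (hξp.map g.continuous)⟩
  · obtain ⟨y, hy, hyT⟩ := hne
    refine ⟨g y, K22.Pull.isGen_map g hy, ?_⟩
    rintro ⟨y', hy', e⟩
    exact hyT ((FieldExt.inj_gen _ g _ H hgi (hT' y' hy') hy e) ▸ hy')

end K77.Closed
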