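import Groth.Agent.TFOne.K77.Bridge

/-!
# Numerical consequences of the formula for an elementary modification

`bt k E F T = r β_F(T)`.  For an elementary modification `N` of `M` along `T`:

* `Mdf.exists_defect`: `bt N S + bt M T = bt M (T ∩ S) + bt M (T ∪ S) + r d` with `d ≥ 0`, and what `d = 0` means;
* the lattice arguments comparing `bt N` with `bt M`.
-/

set_option autoImplicit false
universe u
open CategoryTheory CategoryTheory.Limits AlgebraicGeometry Opposite TopologicalSpace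

namespace K77.TF

open Groth.Agent.CycB.StalkExact Groth.Agent.CurvesB Groth.Agent.CurvesB.SubH1
  Groth.Agent.CurvesB.GenStalk Groth.Agent.VarietyA.StalkCrit Groth.Agent.Fga.ChiBasic
  Groth.Agent.Sga67.CohBasic Groth.Agent.CurvesB.PairLemma

variable {X : Scheme.{u}} (k : Type u) [Field k] [X.Over (Spec (CommRingCat.of k))]
  [IsProper (X ↘ Spec (CommRingCat.of k))]

theorem isZero_iff_euler (hdim : topologicalKrullDim X ≤ 1) {H : X.Modules} (hH : Coh.IsCoh H)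
    (hs : IsSmall H) : IsZero H ↔ Curv2.euler k X H = 0 := by
  constructor
  · intro h
    exact chi_isZero (isAdd_euler k) h
  · intro h
    rw [isZero_iff_stalks]
    exact TriT208.subsingleton_of_euler_le k hdim hH hs h.le

variable {r : ℕ} {E : X.Modules} (hE : FlatMod.IsFinLocFreeOfRank r E) [IsReduced X]
  (hdim : topologicalKrullDim X ≤ 1)
include hE hdim

namespace Mdf

variable {M N G : X.Modules} {T : Set X} {a : G ⟶ N} {b : N ⟶ M} {π : M ⟶ G}

theorem exists_defect (h : Mdf T a b π) {S : Set X} {NS : X.Modules} {p : N ⟶ NS} (hp : IsQ S p) :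
    ∃ d : ℤ, 0 ≤ d ∧ bt k E N S + bt k E M T = bt k E M (T ∩ S) + bt k E M (T ∪ S) + r * d ∧
      ct k N S + ct k M T = ct k M (T ∩ S) + ct k M (T ∪ S) + d ∧
      (T ∩ S = ∅ → d = 0) ∧ ((∀ ξ : X, IsGen ξ → ξ ∈ T ∪ S) → d = 0) ∧
      (S = T → (d = 0 ↔ Epi (a ≫ p))) := by
  have hn := Groth.Agent.Fga.SnapperTwist.isNoetherian_of_proper k X
  obtain ⟨MI, q, hq⟩ := exists_isQ h.cohM (T ∩ S) fun ξ hξ => h.q.gen ξ hξ.1
  obtain ⟨MU, q', hq'⟩ := exists_isQ h.cohM (T ∪ S) fun ξ hξ => hξ.elim (h.q.gen ξ) (hp.gen ξ)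
  obtain ⟨H, h1, h2, h3, h4, h5, h6⟩ := h.formula hp hq hq'
  have hz := isZero_iff_euler k hdim h1 h2
  refine ⟨Curv2.euler k X H, TriT208.euler_nonneg k hdim h1 h2, ?_, ?_, fun hh => hz.1 (h4 hh),
    fun hh => hz.1 (h5 hh), fun hh => hz.symm.trans (h6 hh)⟩
  · rw [bt_eq k hE hp, bt_eq k hE h.q, bt_eq k hE hq, bt_eq k hE hq', ← Psi_small k hE hdim h1 h2]
    exact h3 _ (isAdd_Psi k hE)
  · rw [ct_eq k hp, ct_eq k h.q, ct_eq k hq, ct_eq k hq']
    exact h3 _ (isAdd_euler k)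

/-- The basic inequality. -/
theorem bt_ge (h : Mdf T a b π) {S : Set X} (hS : ∀ ξ ∈ S, IsGen ξ) :
    bt k E M (T ∩ S) + bt k E M (T ∪ S) ≤ bt k E N S + bt k E M T := by
  have hn := Groth.Agent.Fga.SnapperTwist.isNoetherian_of_proper k X
  obtain ⟨NS, p, hp⟩ := exists_isQ h.cohN S hS
  obtain ⟨d, h0, h1, -⟩ := h.exists_defect k hE hdim hp
  have : (0 : ℤ) ≤ r * d := mul_nonneg (Int.natCast_nonneg r) h0
  linarith

theorem bt_disjoint (h : Mdf T a b π) {S : Set X} (hS : ∀ ξ ∈ S, IsGen ξ) (hTS : T ∩ S = ∅) :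
    bt k E N S + bt k E M T = bt k E M (T ∪ S) := by
  have hn := Groth.Agent.Fga.SnapperTwist.isNoetherian_of_proper k X
  obtain ⟨NS, p, hp⟩ := exists_isQ h.cohN S hS
  obtain ⟨d, -, h1, -, h2, -⟩ := h.exists_defect k hE hdim hp
  rw [h2 hTS, hTS, bt_empty k hE h.cohM] at h1
  linarith

theorem bt_cover (h : Mdf T a b π) {S : Set X} (hS : ∀ ξ ∈ S, IsGen ξ)
    (hTS : ∀ ξ : X, IsGen ξ → ξ ∈ T ∪ S) :
    bt k E N S + bt k E M T = bt k E M (T ∩ S) + bt k E M (T ∪ S) := by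
  have hn := Groth.Agent.Fga.SnapperTwist.isNoetherian_of_proper k X
  obtain ⟨NS, p, hp⟩ := exists_isQ h.cohN S hS
  obtain ⟨d, -, h1, -, -, h2, -⟩ := h.exists_defect k hE hdim hp
  rw [h2 hTS] at h1
  linarith

theorem ct_disjoint (h : Mdf T a b π) {S : Set X} (hS : ∀ ξ ∈ S, IsGen ξ) (hTS : T ∩ S = ∅) :
    ct k N S + ct k M T = ct k M ∅ + ct k M (T ∪ S) := by
  have hn := Groth.Agent.Fga.SnapperTwist.isNoetherian_of_proper k X
  obtain ⟨NS, p, hp⟩ := exists_isQ h.cohN S hS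
  obtain ⟨d, -, -, h1, h2, -⟩ := h.exists_defect k hE hdim hp
  rw [h2 hTS, hTS] at h1
  linarith

theorem ct_cover (h : Mdf T a b π) {S : Set X} (hS : ∀ ξ ∈ S, IsGen ξ)
    (hTS : ∀ ξ : X, IsGen ξ → ξ ∈ T ∪ S) :
    ct k N S + ct k M T = ct k M (T ∩ S) + ct k M (T ∪ S) := by
  have hn := Groth.Agent.Fga.SnapperTwist.isNoetherian_of_proper k X
  obtain ⟨NS, p, hp⟩ := exists_isQ h.cohN S hS
  obtain ⟨d, -, -, h1, -, h2, -⟩ := h.exists_defect k hE hdim hp
  rw [h2 hTS] at h1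
  linarith

/-- `β^Y(Y) = β(Y)` iff the modification decomposes. -/
theorem bt_self_eq_iff (hr : 0 < r) (h : Mdf T a b π) {T' : Set X} {N₁ N₂ : X.Modules} {p₁ : N ⟶ N₁}
    {p₂ : N ⟶ N₂} (h₁ : IsQ T p₁) (h₂ : IsQ T' p₂) (hT : T ∩ T' = ∅)
    (hT' : ∀ ξ, IsGen ξ → ξ ∈ T ∪ T') :
    bt k E N T = bt k E M T ↔ IsIso (biprod.lift p₁ p₂) := by
  obtain ⟨d, -, e1, -, -, -, e2⟩ := h.exists_defect k hE hdim h₁
  rw [h.isIso_lift_iff h₁ h₂ hT hT', ← e2 rfl]
  rw [Set.inter_self, Set.union_self] at e1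
  constructor
  · intro e
    have : (r : ℤ) * d = 0 := by linarith
    rcases mul_eq_zero.1 this with h0 | h0
    · exact absurd h0 (by exact_mod_cast hr.ne')
    · exact h0
  · intro e
    rw [e] at e1
    linarith

theorem bt_self_ge (h : Mdf T a b π) : bt k E M T ≤ bt k E N T := by
  have := h.bt_ge k hE hdim (S := T) h.q.gen
  rw [Set.inter_self, Set.union_self] at this
  linarith

omit hE hdim [IsReduced X] [IsProper (X ↘ Spec (CommRingCat.of k))] [X.Over (Spec (CommRingCat.of k))] in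
theorem rankOne (h : Mdf T a b π) (hM : RankOne M) : RankOne N := by
  intro ξ hξ
  obtain ⟨e⟩ := h.nonempty_equiv hξ
  obtain ⟨e'⟩ := hM ξ hξ
  exact ⟨e.trans e'⟩

include k in
omit hE hdim in
theorem isTF1 (h : Mdf T a b π) (hM : TFOne.IsTF1 X M) : TFOne.IsTF1 X N := by
  have hn := Groth.Agent.Fga.SnapperTwist.isNoetherian_of_proper k X
  exact (isTF1_iff N).2 ⟨h.cohN, h.tfN, h.rankOne ((rankOne_iff M).1 hM.2.2)⟩

/-- The total value does not change. -/
theorem Psi_eq (h : Mdf T a b π) : Psi k E N = Psi k E M := by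
  have hn := Groth.Agent.Fga.SnapperTwist.isNoetherian_of_proper k X
  exact h.add_eq (isAdd_Psi k hE)

/-- The value on everything vanishes for the new module if it does for the old one. -/
theorem bt_all_N (h : Mdf T a b π) {U : Set X} (hU : ∀ ξ ∈ U, IsGen ξ) (hU' : ∀ ξ : X, IsGen ξ → ξ ∈ U) :
    bt k E N U = bt k E M U := by
  rw [bt_all k hE h.cohN h.tfN hU hU', bt_all k hE h.cohM h.tfM hU hU', h.Psi_eq k hE hdim]

/-- If `T` is the largest set minimizing `bt M` then `bt N S ≥ bt M T`, with equality only for `S ⊆ T`. -/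
theorem min_max (h : Mdf T a b π) (hTne : T.Nonempty)
    (h0 : ∀ U : Set X, (∀ ξ ∈ U, IsGen ξ) → (∀ ξ : X, IsGen ξ → ξ ∈ U) → bt k E M U = 0)
    (hmin : ∀ U : Set X, (∀ ξ ∈ U, IsGen ξ) → U.Nonempty → bt k E M T ≤ bt k E M U)
    (hmax : ∀ U : Set X, (∀ ξ ∈ U, IsGen ξ) → U.Nonempty → bt k E M U = bt k E M T → U ⊆ T)
    {S : Set X} (hS : ∀ ξ ∈ S, IsGen ξ) :
    bt k E M T ≤ bt k E N S ∧ (bt k E N S = bt k E M T → S ⊆ T) := by
  have hn := Groth.Agent.Fga.SnapperTwist.isNoetherian_of_proper k X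
  have e := h.bt_ge k hE hdim hS
  have hU : ∀ ξ ∈ T ∪ S, IsGen ξ := fun ξ hξ => hξ.elim (h.q.gen ξ) (hS ξ)
  have hUne : (T ∪ S).Nonempty := hTne.mono Set.subset_union_left
  have e1 := hmin (T ∪ S) hU hUne
  have e2 : bt k E M T ≤ bt k E M (T ∩ S) := by
    rcases (T ∩ S).eq_empty_or_nonempty with hh | hh
    · rw [hh, bt_empty k hE h.cohM]
      let A : Set X := {ξ | IsGen ξ}
      have h3 : bt k E M A = 0 := h0 A (fun ξ hξ => hξ) fun ξ hξ => hξ
      have h4 := hmin A (fun ξ hξ => hξ) (hTne.mono h.q.gen)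
      rwa [h3] at h4
    · exact hmin (T ∩ S) (fun ξ hξ => h.q.gen ξ hξ.1) hh
  refine ⟨by linarith, fun e3 => ?_⟩
  have e4 : bt k E M (T ∪ S) = bt k E M T := by linarith
  exact Set.subset_union_right.trans (hmax (T ∪ S) hU hUne e4)

end Mdf

/-- All values are nonnegative. -/
def Semi (E F : X.Modules) : Prop :=
  ∀ T : Set X, (∀ ξ ∈ T, IsGen ξ) → 0 ≤ bt k E F T

omit [IsProper (X ↘ Spec (CommRingCat.of k))] [IsReduced X] hE hdim in
theorem semi_def (E F : X.Modules) : Semi k E F ↔ ∀ T : Set X, (∀ ξ ∈ T, IsGen ξ) → 0 ≤ bt k E F T := Iff.rfl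

/-- Semistability when the total value vanishes. -/
theorem isSemistable_iff_semi {F : X.Modules} (hF : TFOne.IsTF1 X F) (h0 : Psi k E F = 0) :
    TFOne.IsSemistable X k (X ↘ Spec (CommRingCat.of k)) F E r ↔ Semi k E F := by
  have hn := Groth.Agent.Fga.SnapperTwist.isNoetherian_of_proper k X
  rw [isSemistable_iff k hE hdim F]
  constructor
  · rintro ⟨-, h⟩ T hT
    rcases T.eq_empty_or_nonempty with hh | hh
    · rw [hh, bt_empty k hE hF.1]
    · by_cases hc : ∃ ξ : X, IsGen ξ ∧ ξ ∉ T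
      · exact h T hT hh hc
      · push Not at hc
        rw [bt_all k hE hF.1 (stTF_of_isTF1 hF) hT hc, h0]
  · intro h
    exact ⟨hF, fun T hT _ _ => h T hT⟩

namespace Mdf

variable {M N G : X.Modules} {T : Set X} {a : G ⟶ N} {b : N ⟶ M} {π : M ⟶ G}

/-- The modification of a semistable module along `T` is semistable iff `β(T) = 0`. -/
theorem semi_iff (h : Mdf T a b π) (h0 : Psi k E M = 0) (hM : Semi k E M) :
    Semi k E N ↔ bt k E M T = 0 := by
  constructor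
  · intro hN
    let S : Set X := {ξ | IsGen ξ ∧ ξ ∉ T}
    have hS : ∀ ξ ∈ S, IsGen ξ := fun ξ hξ => hξ.1
    have hTS : T ∩ S = ∅ := by
      ext ξ
      simp only [Set.mem_inter_iff, Set.mem_empty_iff_false, iff_false]
      exact fun hh => hh.2.2 hh.1
    have hU : ∀ ξ ∈ T ∪ S, IsGen ξ := fun ξ hξ => hξ.elim (h.q.gen ξ) (hS ξ)
    have hU' : ∀ ξ : X, IsGen ξ → ξ ∈ T ∪ S := fun ξ hξ => by
      by_cases hT : ξ ∈ T
      · exact Or.inl hT
      · exact Or.inr ⟨hξ, hT⟩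
    have e1 := h.bt_disjoint k hE hdim hS hTS
    rw [bt_all k hE h.cohM h.tfM hU hU', h0] at e1
    have e2 := hN S hS
    have e3 := hM T h.q.gen
    linarith
  · intro hT S hS
    have e1 := h.bt_ge k hE hdim hS
    have e2 := hM (T ∩ S) fun ξ hξ => hS ξ hξ.2
    have e3 := hM (T ∪ S) fun ξ hξ => hξ.elim (h.q.gen ξ) (hS ξ)
    linarith

/-- If `T` is contained in every set containing `ξ₀` with value zero, it is contained in every such set for the
modification. -/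
theorem minZero_subset (h : Mdf T a b π) (hM : Semi k E M) (hT : bt k E M T = 0) {P : Set X → Prop}
    (hmin : ∀ U : Set X, (∀ ξ ∈ U, IsGen ξ) → P U → bt k E M U = 0 → T ⊆ U)
    {S : Set X} (hS : ∀ ξ ∈ S, IsGen ξ) (hP : P (T ∩ S)) (hS0 : bt k E N S = 0) : T ⊆ S := by
  have e1 := h.bt_ge k hE hdim hS
  have e2 := hM (T ∩ S) fun ξ hξ => hS ξ hξ.2
  have e3 := hM (T ∪ S) fun ξ hξ => hξ.elim (h.q.gen ξ) (hS ξ)
  have e4 : bt k E M (T ∩ S) = 0 := by linarith
  exact (hmin (T ∩ S) (fun ξ hξ => hS ξ hξ.2) hP e4).trans Set.inter_subset_right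

end Mdf

end K77.TF
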