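import Groth.Agent.TFOne.K77.ModSeq
import Groth.Agent.TFOne.K77.Numeric
import Groth.Agent.FormalB.PullCoh
import Mathlib.RingTheory.Flat.TorsionFree
import Mathlib.RingTheory.DedekindDomain.Dvr

/-!
# Elementary modifications over a discrete valuation ring

* `mono_smulMod_of_flat`, `isFlatOver_of_mono`: over a discrete valuation ring a module is flat iff the uniformizer is
  injective on it;
* `isFlatOver_of_mono_hom`: submodules of flat modules are flat;
* `exists_mdf`: the special fibre of an elementary modification is an `Mdf`.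
-/

set_option autoImplicit false
universe u
open CategoryTheory CategoryTheory.Limits AlgebraicGeometry Opposite TopologicalSpace IsLocalRing

namespace K77.Dvr

open Groth.Agent.CycB.StalkExact Groth.Agent.CurvesB Groth.Agent.CurvesB.SubH1
  Groth.Agent.CurvesB.GenStalk Groth.Agent.VarietyA.StalkCrit K77.TF K77.ModSeq

section Flat

variable {R : Type u} [CommRing R] {X : Scheme.{u}} (f : X ⟶ Spec (CommRingCat.of R))

/-- The ring map from `R` to a stalk of `Spec R`. -/
noncomputable def sr (s : Spec (CommRingCat.of R)) : R →+* (Spec (CommRingCat.of R)).presheaf.stalk s :=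
  ((Spec (CommRingCat.of R)).presheaf.germ ⊤ s trivial).hom.comp (Scheme.ΓSpecIso (CommRingCat.of R)).inv.hom

theorem isLocalization_sr (s : Spec (CommRingCat.of R)) :
    letI := (sr s).toAlgebra
    IsLocalization.AtPrime ((Spec (CommRingCat.of R)).presheaf.stalk s) s.asIdeal :=
  AlgebraicGeometry.StructureSheaf.IsLocalization.to_stalk R s

theorem germ_toGlobal (x : X) (t : R) :
    X.presheaf.germ ⊤ x trivial (show Γ(X, ⊤) from Coh.toGlobal f t) = (f.stalkMap x).hom (sr (f x) t) :=
  (Scheme.Hom.germ_stalkMap_apply f ⊤ x trivial _).symm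

theorem stalkLin_smulModΓ (N : X.Modules) (a : Γ(X, ⊤)) (ξ : X) (t : N.presheaf.stalk ξ) :
    stalkLin (Formal.smulModΓ N (show Coh.Γtop X from a)) ξ t = X.presheaf.germ ⊤ ξ trivial a • t := by
  obtain ⟨U, hU, s, rfl⟩ := N.presheaf.exists_germ_eq t
  rw [stalkLin_germ]
  have h1 : X.presheaf.germ ⊤ ξ trivial a = X.presheaf.germ U ξ hU
      (X.presheaf.map (homOfLE (le_top (a := U))).op a) := by
    rw [X.presheaf.germ_res_apply]
  rw [h1, ← germ_smul]
  rfl

/-- Multiplication by `t : R`, for `X` over `Spec R` through `f`. -/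
noncomputable def mulBy (M : X.Modules) (t : R) : M ⟶ M :=
  Formal.smulModΓ M (Coh.toGlobal f t)

theorem stalkLin_mulBy (M : X.Modules) (t : R) (x : X) (m : M.presheaf.stalk x) :
    stalkLin (mulBy f M t) x m = (f.stalkMap x).hom (sr (f x) t) • m := by
  rw [← germ_toGlobal]
  exact stalkLin_smulModΓ M _ x m

theorem mono_mulBy_of_flat [IsDomain R] {M : X.Modules} (h : FlatMod.IsFlatOver f M) {t : R} (ht : t ≠ 0) :
    Mono (mulBy f M t) := by
  refine mono_of_stalks _ fun x => ?_
  letI := (sr (f x)).toAlgebra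
  have hloc := isLocalization_sr (f x)
  have hdom : IsDomain ((Spec (CommRingCat.of R)).presheaf.stalk (f x)) :=
    IsLocalization.isDomain_of_atPrime _ (f x).asIdeal
  have hinj : Function.Injective (sr (f x)) :=
    IsLocalization.injective (M := (f x).asIdeal.primeCompl) _ (f x).asIdeal.primeCompl_le_nonZeroDivisors
  have hne : sr (f x) t ≠ 0 := fun h0 => ht (hinj (by rw [h0, map_zero]))
  letI := FlatMod.moduleStalkOver f M x
  have hfl : Module.Flat ((Spec (CommRingCat.of R)).presheaf.stalk (f x)) (M.presheaf.stalk x) := h x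
  have hreg : IsSMulRegular (M.presheaf.stalk x) (sr (f x) t) :=
    Module.Flat.isSMulRegular_of_nonZeroDivisors (mem_nonZeroDivisors_of_ne_zero hne)
  intro m m' hm
  rw [stalkLin_mulBy, stalkLin_mulBy] at hm
  exact hreg hm

theorem isFlatOver_of_mono [IsDomain R] [IsDiscreteValuationRing R] {ϖ : R} (hϖ : Irreducible ϖ)
    {M : X.Modules} (h : Mono (mulBy f M ϖ)) : FlatMod.IsFlatOver f M := by
  intro x
  letI := (sr (f x)).toAlgebra
  have hloc := isLocalization_sr (f x)
  have hdom : IsDomain ((Spec (CommRingCat.of R)).presheaf.stalk (f x)) :=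
    IsLocalization.isDomain_of_atPrime _ (f x).asIdeal
  have hded : IsDedekindDomain ((Spec (CommRingCat.of R)).presheaf.stalk (f x)) :=
    IsLocalization.isDedekindDomain R (M := (f x).asIdeal.primeCompl)
      (f x).asIdeal.primeCompl_le_nonZeroDivisors _
  letI := FlatMod.moduleStalkOver f M x
  have hinj : ∀ m : M.presheaf.stalk x, (sr (f x) ϖ) • m = 0 → m = 0 := by
    intro m hm
    apply stalkLin_injective (mulBy f M ϖ) x
    rw [map_zero, stalkLin_mulBy]
    exact hm
  have hpow : ∀ (n : ℕ) (m : M.presheaf.stalk x), (sr (f x) ϖ) ^ n • m = 0 → m = 0 := by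
    intro n
    induction n with
    | zero => intro m hm; simpa using hm
    | succ n ih =>
      intro m hm
      rw [pow_succ, mul_smul] at hm
      exact hinj m (ih _ hm)
  have htf : Module.IsTorsionFree ((Spec (CommRingCat.of R)).presheaf.stalk (f x)) (M.presheaf.stalk x) := by
    refine ⟨fun c hc => ?_⟩
    have hc0 : c ≠ 0 := hc.ne_zero
    intro m m' hm
    have h0 : c • (m - m') = 0 := by rw [smul_sub]; exact sub_eq_zero.2 hm
    obtain ⟨⟨a, s⟩, has⟩ := IsLocalization.surj (f x).asIdeal.primeCompl c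
    have has' : c * sr (f x) (s : R) = sr (f x) a := has
    have hs : IsUnit (sr (f x) (s : R)) := IsLocalization.map_units _ s
    have ha : a ≠ 0 := by
      rintro rfl
      rw [map_zero] at has'
      rcases mul_eq_zero.1 has' with h1 | h1
      · exact hc0 h1
      · exact hs.ne_zero h1
    obtain ⟨n, u, hu⟩ := IsDiscreteValuationRing.eq_unit_mul_pow_irreducible ha hϖ
    have h1 : sr (f x) a • (m - m') = 0 := by
      rw [← has', mul_comm, mul_smul, h0, smul_zero]
    rw [hu, map_mul, map_pow, mul_smul] at h1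
    have h2 : (sr (f x) ϖ) ^ n • (m - m') = 0 := ((u.isUnit.map (sr (f x))).smul_eq_zero).1 h1
    exact sub_eq_zero.1 (hpow n _ h2)
  change Module.Flat ((Spec (CommRingCat.of R)).presheaf.stalk (f x)) (M.presheaf.stalk x)
  infer_instance

/-- Multiplication is natural. -/
theorem mulBy_naturality {M N : X.Modules} (φ : M ⟶ N) (t : R) : mulBy f M t ≫ φ = φ ≫ mulBy f N t := by
  letI : X.Over (Spec (CommRingCat.of R)) := ⟨f⟩
  exact Groth.Agent.FormalB.ModPow.smulMod_naturality φ t

theorem mono_mulBy_of_mono_hom {M N : X.Modules} (φ : M ⟶ N) [Mono φ] (t : R) (h : Mono (mulBy f N t)) :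
    Mono (mulBy f M t) := by
  have : Mono (mulBy f M t ≫ φ) := by
    rw [mulBy_naturality]
    exact mono_comp _ _
  exact mono_of_mono _ φ

/-- A submodule of a flat module over a discrete valuation ring is flat. -/
theorem isFlatOver_of_mono_hom [IsDomain R] [IsDiscreteValuationRing R] {M N : X.Modules} (φ : M ⟶ N) [Mono φ]
    (h : FlatMod.IsFlatOver f N) : FlatMod.IsFlatOver f M := by
  obtain ⟨ϖ, hϖ⟩ := IsDiscreteValuationRing.exists_irreducible R
  exact isFlatOver_of_mono f hϖ (mono_mulBy_of_mono_hom f φ ϖ (mono_mulBy_of_flat f h hϖ.ne_zero))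

end Flat

section Setup

variable (R : Type u) [CommRing R] [IsDomain R] [IsDiscreteValuationRing R] {X : Scheme.{u}}
  (f : X ⟶ Spec (CommRingCat.of R)) {Xs : Scheme.{u}}
  [Xs.Over (Spec (CommRingCat.of (IsLocalRing.ResidueField R)))] (i : Xs ⟶ X)
  (hsq : IsPullback i (Xs ↘ Spec (CommRingCat.of (IsLocalRing.ResidueField R))) f
    (Spec.map (CommRingCat.ofHom (IsLocalRing.residue R))))

include hsq

theorem isClosedImmersion_i : IsClosedImmersion i := by
  have hclosed : IsClosedImmersion (Spec.map (CommRingCat.ofHom (IsLocalRing.residue R))) :=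
    IsClosedImmersion.spec_of_surjective _ IsLocalRing.residue_surjective
  exact MorphismProperty.of_isPullback hsq.flip hclosed

theorem isProper_Xs [IsProper f] : IsProper (Xs ↘ Spec (CommRingCat.of (IsLocalRing.ResidueField R))) :=
  MorphismProperty.of_isPullback hsq (inferInstanceAs (IsProper f))

variable {I : X.Modules} (hIc : Coh.IsCoh I) (hIf : FlatMod.IsFlatOver f I)

include hIc hIf in
/-- The special fibre of an elementary modification. -/
theorem exists_mdf [IsProper f] (hM : StTF ((Scheme.Modules.pullback i).obj I)) {G : Xs.Modules}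
    (π : (Scheme.Modules.pullback i).obj I ⟶ G) {T : Set Xs} (hT : IsQ T π) :
    ∃ a : G ⟶ (Scheme.Modules.pullback i).obj (kernel (toPush i π)),
      Mdf T a ((Scheme.Modules.pullback i).map (kernel.ι (toPush i π))) π := by
  letI : X.Over (Spec (CommRingCat.of R)) := ⟨f⟩
  obtain ⟨ϖ, hϖ⟩ := IsDiscreteValuationRing.exists_irreducible R
  have hm : Mono (Formal.smulMod R I ϖ) := mono_mulBy_of_flat f hIf hϖ.ne_zero
  have hci := isClosedImmersion_i R f i hsq
  have hN : IsLocallyNoetherian X := LocallyOfFiniteType.isLocallyNoetherian f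
  have hJ : maximalIdeal R = Ideal.span {ϖ} := (IsDiscreteValuationRing.irreducible_iff_uniformizer ϖ).1 hϖ
  have hG : Coh.IsQCoh ((Scheme.Modules.pushforward i).obj G) :=
    Groth.Agent.CohqA.AffPush.isQCoh_push i _ hT.coh.1
  have hK : Coh.IsCoh (kernel (toPush i π)) := Groth.Agent.Sga67.CohBasic.isCoh_kernel _ hIc hG
  obtain ⟨a, ha, w₁, w₂, e₁, e₂⟩ := exists_seq' (A := R) ϖ hJ i
    (Xs ↘ Spec (CommRingCat.of (IsLocalRing.ResidueField R))) hsq hIc.1 hm π hT.epi hK.1
    (kernel.ι (toPush i π)) inferInstance (kernel.condition _) (ShortComplex.exact_of_f_is_kernel _ (kernelIsKernel _))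
  refine ⟨a, ⟨hT, ha, w₁, w₂, fun x t ht => (stalkLin_exact _ e₁ x t).1 ht,
    fun x t ht => (stalkLin_exact _ e₂ x t).1 ht, Groth.Agent.FormalB.PullCoh.isCoh_pullback i hIc, hM,
    Groth.Agent.FormalB.PullCoh.isCoh_pullback i hK⟩⟩

theorem isCoh_modification [IsProper f] (hIc : Coh.IsCoh I) {G : Xs.Modules}
    (π : (Scheme.Modules.pullback i).obj I ⟶ G) (hG : Coh.IsCoh G) : Coh.IsCoh (kernel (toPush i π)) := by
  have hci := isClosedImmersion_i R f i hsq
  have hN : IsLocallyNoetherian X := LocallyOfFiniteType.isLocallyNoetherian f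
  exact Groth.Agent.Sga67.CohBasic.isCoh_kernel _ hIc (Groth.Agent.CohqA.AffPush.isQCoh_push i _ hG.1)

end Setup

end K77.Dvr
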