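import Groth.Agent.TFOne.K77.Total
import Groth.Agent.TFOne.K77.PullQ
import Groth.Agent.TFOne.K22.GeoRed
import Groth.Agent.Etcore.DimBaseChange

/-!
# Extension of the base field for curves with geometrically integral components

`Z` proper and reduced over `κ` with geometrically integral components, `Y = Z ×_κ Ω`: `g : Y ⟶ Z` is flat and
surjective, `Y` is reduced, of the same dimension, and `g` is injective on generic points.
-/

set_option autoImplicit false
universe u
open CategoryTheory CategoryTheory.Limits AlgebraicGeometry Opposite TopologicalSpace IsLocalRing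

namespace K77.FieldExt

open Groth.Agent.CurvesB.SubH1 K77.TF Groth.Agent.CurvesB K77.Total

variable {κ : Type u} [Field κ] {Z : Scheme.{u}} (q : Z ⟶ Spec (CommRingCat.of κ))
  {Ω : Type u} [Field Ω] {φ : κ →+* Ω} {Y : Scheme.{u}} (g : Y ⟶ Z) (qY : Y ⟶ Spec (CommRingCat.of Ω))
  (H : IsPullback g qY q (Spec.map (CommRingCat.ofHom φ)))

theorem flat_spec (φ : κ →+* Ω) : Flat (Spec.map (CommRingCat.ofHom φ)) := by
  rw [Flat.SpecMap_iff]
  letI := φ.toAlgebra
  exact inferInstanceAs (Module.Flat κ Ω)

theorem surjective_spec (φ : κ →+* Ω) : Surjective (Spec.map (CommRingCat.ofHom φ)) := by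
  constructor
  intro x
  have : Subsingleton ↥(Spec (CommRingCat.of κ)) := inferInstanceAs (Subsingleton (PrimeSpectrum κ))
  have : Nonempty ↥(Spec (CommRingCat.of Ω)) := inferInstanceAs (Nonempty (PrimeSpectrum Ω))
  exact ⟨Classical.arbitrary _, Subsingleton.elim _ _⟩

include H

theorem flat : Flat g := MorphismProperty.of_isPullback H.flip (flat_spec φ)

theorem surjective : Surjective g := MorphismProperty.of_isPullback H.flip (surjective_spec φ)

theorem dim_eq [LocallyOfFiniteType q] : topologicalKrullDim Y = topologicalKrullDim Z :=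
  Groth.Agent.Etcore.DimBaseChange.topologicalKrullDim_eq (Field.toIsField κ) (Field.toIsField Ω) q qY g _ H

variable (hgi : ∀ (C : Set Z) (hC : C ∈ irreducibleComponents (Z : Type u)),
  GeometricallyIntegral (VecSt.subschι Z C (isClosed_of_mem_irreducibleComponents C hC) ≫ q))

include hgi

theorem isReduced [IsReduced Z] [IsNoetherian Z] : IsReduced Y := by
  have hfin : Finite (irreducibleComponents (Z : Type u)) :=
    (TopologicalSpace.NoetherianSpace.finite_irreducibleComponents).to_subtype
  let J := ↥(irreducibleComponents (Z : Type u))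
  let C : J → Scheme.{u} := fun j => VecSt.subsch Z j.1 (isClosed_of_mem_irreducibleComponents j.1 j.2)
  let ι : ∀ j : J, C j ⟶ Z := fun j => VecSt.subschι Z j.1 (isClosed_of_mem_irreducibleComponents j.1 j.2)
  have h1 : GeometricallyReduced q := by
    refine K22.GeoRed.geometricallyReduced_of_cover q C ι (fun x => ?_) fun j => ?_
    · obtain ⟨ξ, hξ, hx⟩ := SubClosed.exists_isGen_specializes x
      have hC := closure_mem hξ
      have hr : ξ ∈ Set.range (ι ⟨closure {ξ}, hC⟩) := by
        rw [range_subschι]; exact subset_closure rfl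
      obtain ⟨c, hc⟩ := hr
      exact ⟨⟨closure {ξ}, hC⟩, c, by rw [hc]; exact hx⟩
    · have := hgi j.1 j.2
      infer_instance
  exact h1.geometrically_isReduced _ _ _ H

theorem inj_gen {y₁ y₂ : Y} (h₁ : IsGen y₁) (h₂ : IsGen y₂) (h : g y₁ = g y₂) : y₁ = y₂ := by
  have hfl := flat q g qY H
  have hξ : IsGen (g y₁) := K22.Pull.isGen_map g h₁
  have hC := closure_mem hξ
  let ι := VecSt.subschι Z _ (isClosed_of_mem_irreducibleComponents _ hC)
  have hr : g y₁ ∈ Set.range ι := by
    rw [range_subschι]; exact subset_closure rfl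
  obtain ⟨c, hc⟩ := hr
  obtain ⟨P, fst, snd, hpb⟩ : ∃ (P : Scheme.{u}) (fst : P ⟶ _) (snd : P ⟶ Y), IsPullback fst snd ι g :=
    ⟨_, _, _, IsPullback.of_hasPullback ι g⟩
  have hint : IsIntegral P := (hgi _ hC).geometrically_isIntegral _ _ _ (hpb.paste_vert H)
  obtain ⟨w₁, hw₁, hw₁'⟩ := exists_pt hpb c y₁ hc
  obtain ⟨w₂, hw₂, hw₂'⟩ := exists_pt hpb c y₂ (hc.trans h)
  have e1 : genericPoint P ⤳ w₁ := genericPoint_specializes w₁
  have e2 : genericPoint P ⤳ w₂ := genericPoint_specializes w₂
  have e3 := h₁ _ (hw₁' ▸ e1.map snd.continuous)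
  have e4 := h₂ _ (hw₂' ▸ e2.map snd.continuous)
  rw [← e3, ← e4]

end K77.FieldExt
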