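import Groth.Agent.TFOne.K77.Dvr
import Groth.Agent.Grass.K652.LfRank

/-!
# The common set-up of the rows on elementary modifications
-/

set_option autoImplicit false
universe u
open CategoryTheory CategoryTheory.Limits AlgebraicGeometry Opposite TopologicalSpace IsLocalRing

namespace K77.Row

open Groth.Agent.CycB.StalkExact Groth.Agent.CurvesB Groth.Agent.CurvesB.SubH1
  Groth.Agent.CurvesB.GenStalk Groth.Agent.VarietyA.StalkCrit Groth.Agent.CurvesB.PairLemma K77.TF K77.ModSeq K77.Dvr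

section Main

variable (R : Type u) [CommRing R] [IsDomain R] [IsDiscreteValuationRing R] {X : Scheme.{u}}
  (f : X ⟶ Spec (CommRingCat.of R)) [IsProper f] {Xs : Scheme.{u}}
  [Xs.Over (Spec (CommRingCat.of (IsLocalRing.ResidueField R)))] (i : Xs ⟶ X)
  (hsq : IsPullback i (Xs ↘ Spec (CommRingCat.of (IsLocalRing.ResidueField R))) f
    (Spec.map (CommRingCat.ofHom (IsLocalRing.residue R)))) [IsReduced Xs]
  {I : X.Modules} (hIc : Coh.IsCoh I) (hIf : FlatMod.IsFlatOver f I)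
  (hIs : TFOne.IsTF1 Xs ((Scheme.Modules.pullback i).obj I))

include hsq hIc hIf hIs

/-- The special fibre of the modification along the quotient `πY`. -/
theorem exists_mdf {Y : Set Xs} {GY : Xs.Modules} (πY : (Scheme.Modules.pullback i).obj I ⟶ GY)
    (hGY : TFOne.IsQuotOn Xs ((Scheme.Modules.pullback i).obj I) Y GY πY) {IY : X.Modules}
    (hIY : IY = kernel ((Scheme.Modules.pullbackPushforwardAdjunction i).unit.app I ≫
      (Scheme.Modules.pushforward i).map πY)) :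
    ∃ (a : GY ⟶ (Scheme.Modules.pullback i).obj IY)
      (b : (Scheme.Modules.pullback i).obj IY ⟶ (Scheme.Modules.pullback i).obj I), Mdf (gens Y) a b πY := by
  have hp := isProper_Xs R f i hsq
  have hn := Groth.Agent.Fga.SnapperTwist.isNoetherian_of_proper (IsLocalRing.ResidueField R) Xs
  subst hIY
  obtain ⟨a, ha⟩ := Dvr.exists_mdf R f i hsq hIc hIf (stTF_of_isTF1 hIs) πY (isQ_of_isQuotOn hIs hGY)
  exact ⟨a, _, ha⟩

end Main

theorem total {k : Type u} [Field k] {Z : Scheme.{u}} [Z.Over (Spec (CommRingCat.of k))]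
    [IsProper (Z ↘ Spec (CommRingCat.of k))] [IsReduced Z] (hdim : topologicalKrullDim Z ≤ 1) {M : Z.Modules}
    (hM : TFOne.IsTF1 Z M) {E : Z.Modules} {r : ℕ} (hE : FlatMod.IsFinLocFreeOfRank r E) {d : ℤ}
    (hχ : Curv2.euler k Z M = d) (hEd : Curv2.deg k Z E r = -(r : ℤ) * d) : Psi k E M = 0 := by
  rw [Psi_total k hE hdim hM.1 ((rankOne_iff M).1 hM.2.2), hχ, hEd]
  ring

section Sets

variable {Z : Scheme.{u}}

theorem dim_le_one (hcomp : ∀ C ∈ irreducibleComponents (Z : Type u), topologicalKrullDim C = 1) :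
    topologicalKrullDim Z ≤ 1 := by
  have h := DimOneTop.forall_irreducibleComponents_iff.mp hcomp
  rw [dim_le_one_iff]
  intro x
  by_cases hx : IsGen x
  · exact Or.inr hx
  · left
    obtain ⟨z, hz, hzx⟩ := DimOneTop.exists_generic_specializes x
    have hne : x ≠ z := by
      rintro rfl
      exact hx hz
    exact fun y hy => (h z hz).2 x hzx hne y hy

theorem gens_meet {Y Y₁ W : Set Z} (hY : IsClosed Y) (hY₁ : IsClosed Y₁)
    (hW : W = ⋃₀ {C | C ∈ irreducibleComponents (Z : Type u) ∧ C ⊆ Y ∩ Y₁}) : gens W = gens Y ∩ gens Y₁ := by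
  ext ξ
  rw [hW, mem_gens_sUnion, closure_subset_iff (hY.inter hY₁)]
  simp only [Set.mem_inter_iff, mem_gens]
  tauto

theorem gens_compl {Y Y' : Set Z} (hY : IsClosed Y)
    (hY' : Y' = ⋃₀ {C | C ∈ irreducibleComponents (Z : Type u) ∧ ¬ C ⊆ Y}) :
    gens Y' = {ξ | IsGen ξ ∧ ξ ∉ gens Y} := by
  ext ξ
  rw [hY', mem_gens_sUnion, closure_subset_iff hY]
  simp only [Set.mem_ofPred_eq, mem_gens]
  tauto

theorem gens_diff {Y Y₁ V : Set Z} (hY : IsClosed Y) (hY₁ : IsClosed Y₁)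
    (hV : V = ⋃₀ {C | C ∈ irreducibleComponents (Z : Type u) ∧ C ⊆ Y₁ ∧ ¬ C ⊆ Y}) :
    gens V = {ξ | ξ ∈ gens Y₁ ∧ ξ ∉ gens Y} := by
  ext ξ
  rw [hV, mem_gens_sUnion, closure_subset_iff hY₁, closure_subset_iff hY]
  simp only [Set.mem_ofPred_eq, mem_gens]
  tauto

theorem inter_compl (T : Set Z) : T ∩ {ξ | IsGen ξ ∧ ξ ∉ T} = ∅ := by
  ext ξ
  simp only [Set.mem_inter_iff, Set.mem_ofPred_eq, Set.mem_empty_iff_false, iff_false]
  tauto

theorem union_compl (T : Set Z) (ξ : Z) (hξ : IsGen ξ) : ξ ∈ T ∪ {ξ | IsGen ξ ∧ ξ ∉ T} := by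
  by_cases h : ξ ∈ T
  · exact Or.inl h
  · exact Or.inr ⟨hξ, h⟩

/-- The quotients on closures of sets of generic points. -/
theorem exists_quotOn (k : Type u) [Field k] [Z.Over (Spec (CommRingCat.of k))]
    [IsProper (Z ↘ Spec (CommRingCat.of k))] [IsReduced Z] (hdim : topologicalKrullDim Z ≤ 1) {F E : Z.Modules}
    {r : ℕ} (hE : FlatMod.IsFinLocFreeOfRank r E) (hF : TFOne.IsTF1 Z F) {U : Set Z} (hU : ∀ ξ ∈ U, IsGen ξ) :
    ∃ (G : Z.Modules) (π : F ⟶ G), TFOne.IsQuotOn Z F (closure U) G π ∧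
      TFOne.rBeta Z k (Z ↘ Spec (CommRingCat.of k)) (closure U) isClosed_closure E r G = bt k E F U := by
  have hn := Groth.Agent.Fga.SnapperTwist.isNoetherian_of_proper k Z
  obtain ⟨G, π, hG⟩ := exists_isQ hF.1 U hU
  have hg := gens_closure hU
  have hG' : IsQ (gens (closure U)) π := by rw [hg]; exact hG
  have hR := (rankOne_iff F).1 hF.2.2
  refine ⟨G, π, isQuotOn_of_isQ hR (isU_closure hU) hG', ?_⟩
  rw [rBeta_eq k hE hdim hR isClosed_closure hG', hg]

theorem subset_of_closure {U T : Set Z} (hU : ∀ ξ ∈ U, IsGen ξ)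
    (h : closure U ⊆ T) : U ⊆ gens T := fun ξ hξ => ⟨hU ξ hξ, h (subset_closure hξ)⟩

end Sets

end K77.Row
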