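import Groth.Agent.TFOne.K77.Numeric
import Groth.Agent.CycB.PushStalk
import Groth.Agent.Sga67.ClosedPush
import Groth.Agent.FormalB.PullCoh

/-!
# Torsion-free modules on a reduced closed subscheme which is a union of components

For `ι : Y ⟶ X` a closed immersion, `X` reduced, sending generic points to generic points:

* `StTF.push`, `StTF.of_push`: torsion-freeness of `ι_* N` and of `N`;
* `IsQ.push`: a torsion-free quotient of `ι^* G` gives one of `F → G`;
* `isTF1_pull`: `ι^* G` is torsion-free of rank one for `G` the torsion-free quotient on `Y`;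
* `bt_pull`: the values of `ι^* G` are those of `F`.
-/

set_option autoImplicit false
universe u
open CategoryTheory CategoryTheory.Limits AlgebraicGeometry Opposite TopologicalSpace

namespace K77.TF

open Groth.Agent.CycB.StalkExact Groth.Agent.CurvesB Groth.Agent.CurvesB.SubH1
  Groth.Agent.CurvesB.GenStalk Groth.Agent.VarietyA.StalkCrit Groth.Agent.Fga.ChiBasic
  Groth.Agent.Sga67.CohBasic Groth.Agent.CurvesB.PairLemma Groth.Agent.CycB.PushStalk

variable {X Y : Scheme.{u}} (ι : Y ⟶ X)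

theorem pushStalk_spec (N : Y.Modules) {y z : Y} (h : y ⤳ z) (h' : ι y ⤳ ι z)
    (s : ((Scheme.Modules.pushforward ι).obj N).presheaf.stalk (ι z)) :
    pushStalk ι N y (((Scheme.Modules.pushforward ι).obj N).presheaf.stalkSpecializes h' s) =
      N.presheaf.stalkSpecializes h (pushStalk ι N z s) := by
  obtain ⟨U, hU, s, rfl⟩ := ((Scheme.Modules.pushforward ι).obj N).presheaf.exists_germ_eq s
  have hyU : ι y ∈ U := h'.mem_open U.isOpen hU
  rw [spec_germ _ h' hU hyU, pushStalk_germ, pushStalk_germ]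
  exact (spec_germ N h hU hyU s).symm

variable [IsClosedImmersion ι]

theorem pushStalk_inj (N : Y.Modules) (y : Y) : Function.Injective (pushStalk ι N y) :=
  (pushStalk_bijective ι ι.isClosedEmbedding.isInducing N y).1

theorem pushStalk_surj (N : Y.Modules) (y : Y) : Function.Surjective (pushStalk ι N y) :=
  (pushStalk_bijective ι ι.isClosedEmbedding.isInducing N y).2

theorem StTF.push {N : Y.Modules} (hN : StTF N) (hgen : ∀ y : Y, IsGen y → IsGen (ι y)) :
    StTF ((Scheme.Modules.pushforward ι).obj N) := by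
  intro x s hs
  by_cases hx : x ∈ Set.range ι
  · obtain ⟨y, rfl⟩ := hx
    apply pushStalk_inj ι N y
    rw [map_zero]
    refine hN y _ fun ξ hξy hξ => ?_
    have h' : ι ξ ⤳ ι y := hξy.map ι.continuous
    rw [← pushStalk_spec ι N hξy h', hs (ι ξ) h' (hgen ξ hξ), map_zero]
  · have := SubClosed.subsingleton_stalk_push ι N x hx
    exact Subsingleton.elim _ _

theorem StTF.of_push {N : Y.Modules} (hN : StTF ((Scheme.Modules.pushforward ι).obj N)) : StTF N := by
  intro y s hs
  obtain ⟨s, rfl⟩ := pushStalk_surj ι N y s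
  have : s = 0 := by
    refine hN (ι y) s fun ξ hξy hξ => ?_
    by_cases hx : ξ ∈ Set.range ι
    · obtain ⟨z, rfl⟩ := hx
      have hzy : z ⤳ y := (SubClosed.specializes_iff ι z y).1 hξy
      apply pushStalk_inj ι N z
      rw [map_zero, pushStalk_spec ι N hzy hξy]
      exact hs z hzy (SubClosed.isGen_of_isGen_map ι z hξ)
    · have := SubClosed.subsingleton_stalk_push ι N ξ hx
      exact Subsingleton.elim _ _
  rw [this, map_zero]

theorem isIso_unit [IsReduced X] {G : X.Modules} (hG : StTF G)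
    (h0 : ∀ ξ : X, IsGen ξ → ξ ∉ Set.range ι → Subsingleton (G.presheaf.stalk ξ)) :
    IsIso (SubClosed.unitι ι G) := by
  have he : Epi (SubClosed.unitι ι G) := SubClosed.epi_unit ι G
  have hm : Mono (SubClosed.unitι ι G) := by
    refine hG.mono _ fun ξ hξ => ?_
    by_cases hx : ξ ∈ Set.range ι
    · exact SubClosed.stalkLin_unit_injective_of_isGen ι G ξ hξ hx
    · have := h0 ξ hξ hx
      exact Function.injective_of_subsingleton _
  exact isIso_of_mono_of_epi _

theorem IsQ.push [IsReduced X] {F G : X.Modules} {π : F ⟶ G} {T₀ : Set X} (h : IsQ T₀ π)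
    (hgen : ∀ y : Y, IsGen y → IsGen (ι y)) (hr : ∀ y : Y, IsGen y → ι y ∈ T₀) {T' : Set Y} {G' : Y.Modules}
    {π' : (Scheme.Modules.pullback ι).obj G ⟶ G'} (h' : IsQ T' π') [IsLocallyNoetherian X] :
    IsQ (ι '' T') (π ≫ SubClosed.unitι ι G ≫ (Scheme.Modules.pushforward ι).map π') := by
  have hpc := Groth.Agent.Sga67.ClosedPush.preservesFiniteColimits_pushforward ι
  have he := h.epi
  have he' := h'.epi
  have he1 : Epi (SubClosed.unitι ι G) := SubClosed.epi_unit ι G
  have he2 : Epi ((Scheme.Modules.pushforward ι).map π') := inferInstance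
  refine ⟨?_, ?_, isCoh_push X ι h'.coh, h'.tf.push ι hgen, ?_, ?_⟩
  · rintro _ ⟨y, hy, rfl⟩
    exact hgen y (h'.gen y hy)
  · have := epi_comp (SubClosed.unitι ι G) ((Scheme.Modules.pushforward ι).map π')
    exact epi_comp π (SubClosed.unitι ι G ≫ (Scheme.Modules.pushforward ι).map π')
  · rintro _ ⟨y, hy, rfl⟩
    have hyg := h'.gen y hy
    rw [injective_iff_map_eq_zero]
    intro s hs
    rw [stalkLin_comp_apply, stalkLin_comp_apply] at hs
    have h1 := congrArg (pushStalk ι G' y) hs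
    rw [pushStalk_natural, map_zero] at h1
    have h2 := h'.inj y hy (h1.trans (map_zero _).symm)
    have h3 := pushStalk_inj ι _ y (h2.trans (map_zero _).symm)
    have h4 := SubClosed.stalkLin_unit_injective_of_isGen ι G (ι y) (hgen y hyg) ⟨y, rfl⟩
      (h3.trans (map_zero _).symm)
    exact h.inj (ι y) (hr y hyg) (h4.trans (map_zero _).symm)
  · intro ξ hξ hT
    by_cases hx : ξ ∈ Set.range ι
    · obtain ⟨y, rfl⟩ := hx
      have hy : IsGen y := SubClosed.isGen_of_isGen_map ι y hξ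
      have := h'.zero y hy fun hh => hT ⟨y, hh, rfl⟩
      exact (pushStalk_inj ι G' y).subsingleton
    · exact SubClosed.subsingleton_stalk_push ι G' ξ hx

/-- The stalk of the inverse image at a generic point. -/
theorem rankOne_pull [IsReduced X] {G : X.Modules} (hgen : ∀ y : Y, IsGen y → IsGen (ι y))
    (hG : ∀ y : Y, IsGen y →
      Nonempty (G.presheaf.stalk (ι y) ≃ₗ[X.presheaf.stalk (ι y)] X.presheaf.stalk (ι y))) :
    RankOne ((Scheme.Modules.pullback ι).obj G) := by
  intro y hy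
  obtain ⟨e⟩ := hG y hy
  have hb := SubClosed.stalkLin_unit_bijective_of_isGen ι G (ι y) (hgen y hy) ⟨y, rfl⟩
  let σ := (ι.stalkMap y).hom
  have hσs : Function.Surjective σ := ι.stalkMap_surjective y
  let e₁ : X.presheaf.stalk (ι y) → ((Scheme.Modules.pullback ι).obj G).presheaf.stalk y :=
    fun a => pushStalk ι _ y (stalkLin (SubClosed.unitι ι G) (ι y) (e.symm a))
  have h1 : ∀ a, e₁ a = σ a • e₁ 1 := by
    intro a
    have : a = a • (1 : X.presheaf.stalk (ι y)) := by rw [smul_eq_mul, mul_one]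
    conv_lhs => rw [this]
    change pushStalk ι _ y (stalkLin (SubClosed.unitι ι G) (ι y) (e.symm (a • 1))) = _
    rw [map_smul, map_smul, map_smulₛₗ]
  have hs : Function.Surjective e₁ := by
    intro t
    obtain ⟨t, rfl⟩ := pushStalk_surj ι _ y t
    obtain ⟨t, rfl⟩ := hb.2 t
    obtain ⟨t, rfl⟩ := e.symm.surjective t
    exact ⟨t, rfl⟩
  have hi : ∀ a, e₁ a = 0 → a = 0 := by
    intro a ha
    have h2 := pushStalk_inj ι _ y (ha.trans (map_zero _).symm)
    have h3 := hb.1 (h2.trans (map_zero _).symm)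
    exact e.symm.map_eq_zero_iff.1 h3
  refine ⟨(LinearEquiv.ofBijective (LinearMap.toSpanSingleton (Y.presheaf.stalk y) _ (e₁ 1)) ⟨?_, ?_⟩).symm⟩
  · rw [injective_iff_map_eq_zero]
    intro c hc
    obtain ⟨a, rfl⟩ := hσs c
    have h4 : e₁ a = 0 := by rw [h1]; exact hc
    rw [hi a h4, map_zero]
  · intro t
    obtain ⟨a, rfl⟩ := hs t
    exact ⟨σ a, (h1 a).symm⟩

section Subsch

variable {Z : Set X} (hZ : IsU Z)

omit [IsClosedImmersion ι] in
theorem isGen_subsch_iff (y : VecSt.subsch X Z hZ.1) :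
    IsGen y ↔ IsGen (VecSt.subschι X Z hZ.1 y) := by
  constructor
  · intro hy
    have h1 : VecSt.subschι X Z hZ.1 y ∈ Z := by
      have : VecSt.subschι X Z hZ.1 y ∈ Set.range (VecSt.subschι X Z hZ.1) := ⟨y, rfl⟩
      rwa [range_subschι] at this
    obtain ⟨ξ, hξ, hξZ, hξy⟩ := hZ.2 _ h1
    obtain ⟨z, rfl⟩ : ξ ∈ Set.range (VecSt.subschι X Z hZ.1) := by rw [range_subschι]; exact hξZ
    have h2 : z = y := hy z ((SubClosed.specializes_iff _ z y).1 hξy)
    rwa [← h2]
  · exact SubClosed.isGen_of_isGen_map _ y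

omit [IsClosedImmersion ι] in
theorem mem_of_subsch (y : VecSt.subsch X Z hZ.1) : VecSt.subschι X Z hZ.1 y ∈ Z := by
  have : VecSt.subschι X Z hZ.1 y ∈ Set.range (VecSt.subschι X Z hZ.1) := ⟨y, rfl⟩
  rwa [range_subschι] at this

omit [IsClosedImmersion ι] in
theorem dim_subsch (hdim : topologicalKrullDim X ≤ 1) (hZ : IsClosed Z) :
    topologicalKrullDim (VecSt.subsch X Z hZ) ≤ 1 := by
  rw [dim_le_one_iff] at hdim ⊢
  intro y
  have hinj := (VecSt.subschι X Z hZ).isClosedEmbedding.injective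
  rcases hdim (VecSt.subschι X Z hZ y) with h | h
  · exact Or.inl fun z hz => hinj (h _ ((SubClosed.specializes_iff _ y z).2 hz))
  · exact Or.inr fun z hz => hinj (h _ ((SubClosed.specializes_iff _ z y).2 hz))

omit [IsClosedImmersion ι] in
theorem isTF1_subsch [IsReduced X] {F G : X.Modules} {π : F ⟶ G} (hF : RankOne F)
    (h : IsQ (gens Z) π) :
    TFOne.IsTF1 (VecSt.subsch X Z hZ.1) ((Scheme.Modules.pullback (VecSt.subschι X Z hZ.1)).obj G) := by
  have hred := isReduced_subsch X Z hZ.1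
  have hgen : ∀ y : VecSt.subsch X Z hZ.1, IsGen y → IsGen (VecSt.subschι X Z hZ.1 y) :=
    fun y => (isGen_subsch_iff hZ y).1
  refine ⟨Groth.Agent.FormalB.PullCoh.isCoh_pullback _ h.coh, ?_, ?_⟩
  · have hi : IsIso (SubClosed.unitι (VecSt.subschι X Z hZ.1) G) := by
      refine isIso_unit _ h.tf fun ξ hξ hx => h.zero ξ hξ fun hg => hx ?_
      rw [range_subschι]
      exact hg.2
    exact (StTF.of_push _ (h.tf.of_iso (asIso (SubClosed.unitι (VecSt.subschι X Z hZ.1) G)))).isTorsionFree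
  · rw [rankOne_iff]
    refine rankOne_pull _ hgen fun y hy => ?_
    have hm : VecSt.subschι X Z hZ.1 y ∈ gens Z := ⟨hgen y hy, mem_of_subsch hZ y⟩
    obtain ⟨e⟩ := hF _ hm.1
    exact ⟨(LinearEquiv.ofBijective _ ⟨h.inj _ hm, h.surj _⟩).symm.trans e⟩

variable (k : Type u) [Field k] [X.Over (Spec (CommRingCat.of k))]

omit [IsClosedImmersion ι] in
theorem Psi_push {r : ℕ} {E : X.Modules} (hE : FlatMod.IsFinLocFreeOfRank r E) (hZ : IsClosed Z)
    (G' : (VecSt.subsch X Z hZ).Modules) :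
    letI : (VecSt.subsch X Z hZ).Over (Spec (CommRingCat.of k)) :=
      ⟨VecSt.subschι X Z hZ ≫ (X ↘ Spec (CommRingCat.of k))⟩
    Psi k ((Scheme.Modules.pullback (VecSt.subschι X Z hZ)).obj E) G' =
      Psi k E ((Scheme.Modules.pushforward (VecSt.subschι X Z hZ)).obj G') := by
  letI : (VecSt.subsch X Z hZ).Over (Spec (CommRingCat.of k)) :=
      ⟨VecSt.subschι X Z hZ ≫ (X ↘ Spec (CommRingCat.of k))⟩
  unfold Psi
  rw [← Groth.Agent.CurvesC.DegIso.euler_push k (VecSt.subschι X Z hZ) rfl]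
  exact (Groth.Agent.CurvesC.DegIso.euler_congr k
    (Groth.Agent.VarietyB.ProjForm.projIso _
      (Groth.Agent.VarietyB.TensCoh.HasBases.of_isFinLocFreeOfRank hE) G')).symm

variable [IsProper (X ↘ Spec (CommRingCat.of k))] [IsReduced X]

omit [IsClosedImmersion ι] in
/-- The values of the restriction of `F_Z` to `Z`. -/
theorem bt_subsch {r : ℕ} {E : X.Modules} (hE : FlatMod.IsFinLocFreeOfRank r E)
    (hE' : FlatMod.IsFinLocFreeOfRank r ((Scheme.Modules.pullback (VecSt.subschι X Z hZ.1)).obj E))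
    {F G : X.Modules} {π : F ⟶ G} (h : IsQ (gens Z) π)
    (T : Set (VecSt.subsch X Z hZ.1)) (hT : ∀ ξ ∈ T, IsGen ξ) :
    letI : (VecSt.subsch X Z hZ.1).Over (Spec (CommRingCat.of k)) :=
      ⟨VecSt.subschι X Z hZ.1 ≫ (X ↘ Spec (CommRingCat.of k))⟩
    bt k ((Scheme.Modules.pullback (VecSt.subschι X Z hZ.1)).obj E)
      ((Scheme.Modules.pullback (VecSt.subschι X Z hZ.1)).obj G) T =
      bt k E F (VecSt.subschι X Z hZ.1 '' T) := by
  letI : (VecSt.subsch X Z hZ.1).Over (Spec (CommRingCat.of k)) :=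
      ⟨VecSt.subschι X Z hZ.1 ≫ (X ↘ Spec (CommRingCat.of k))⟩
  have hp : IsProper ((VecSt.subsch X Z hZ.1) ↘ Spec (CommRingCat.of k)) :=
    inferInstanceAs (IsProper (VecSt.subschι X Z hZ.1 ≫ (X ↘ Spec (CommRingCat.of k))))
  have hred := isReduced_subsch X Z hZ.1
  have hn := Groth.Agent.Fga.SnapperTwist.isNoetherian_of_proper k X
  have hn' := Groth.Agent.Fga.SnapperTwist.isNoetherian_of_proper k (VecSt.subsch X Z hZ.1)
  have hgen : ∀ y : VecSt.subsch X Z hZ.1, IsGen y → IsGen (VecSt.subschι X Z hZ.1 y) :=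
    fun y => (isGen_subsch_iff hZ y).1
  have hc : Coh.IsCoh ((Scheme.Modules.pullback (VecSt.subschι X Z hZ.1)).obj G) :=
    Groth.Agent.FormalB.PullCoh.isCoh_pullback _ h.coh
  obtain ⟨G', π', h'⟩ := exists_isQ hc T hT
  rw [bt_eq k hE' h', Psi_push k hE]
  exact (bt_eq k hE (h.push _ hgen (fun y hy => ⟨hgen y hy, mem_of_subsch hZ y⟩) h')).symm

omit [IsClosedImmersion ι] in
theorem isSemistable_subsch (hdim : topologicalKrullDim X ≤ 1) {r : ℕ} {E : X.Modules}
    (hE : FlatMod.IsFinLocFreeOfRank r E)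
    (hE' : FlatMod.IsFinLocFreeOfRank r ((Scheme.Modules.pullback (VecSt.subschι X Z hZ.1)).obj E))
    {F G : X.Modules} (hF : RankOne F) {π : F ⟶ G} (h : IsQ (gens Z) π) (hs : Semi k E F) :
    TFOne.IsSemistable (VecSt.subsch X Z hZ.1) k (VecSt.subschι X Z hZ.1 ≫ (X ↘ Spec (CommRingCat.of k)))
      ((Scheme.Modules.pullback (VecSt.subschι X Z hZ.1)).obj G)
      ((Scheme.Modules.pullback (VecSt.subschι X Z hZ.1)).obj E) r := by
  letI : (VecSt.subsch X Z hZ.1).Over (Spec (CommRingCat.of k)) :=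
      ⟨VecSt.subschι X Z hZ.1 ≫ (X ↘ Spec (CommRingCat.of k))⟩
  have hp : IsProper ((VecSt.subsch X Z hZ.1) ↘ Spec (CommRingCat.of k)) :=
    inferInstanceAs (IsProper (VecSt.subschι X Z hZ.1 ≫ (X ↘ Spec (CommRingCat.of k))))
  have hred := isReduced_subsch X Z hZ.1
  refine (isSemistable_iff k hE' (dim_subsch hdim hZ.1) _).2 ⟨isTF1_subsch hZ hF h, fun T hT _ _ => ?_⟩
  rw [bt_subsch hZ k hE hE' h T hT]
  refine hs _ ?_
  rintro _ ⟨y, hy, rfl⟩
  exact (isGen_subsch_iff hZ y).1 (hT y hy)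

end Subsch

end K77.TF
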