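import Groth.Agent.TFOne.K77.Numeric

/-!
# Submodularity of the values on torsion-free quotients, and decompositions

* `exists_submod`: `v M_A + v M_B = v M_{A ∩ B} + v M_{A ∪ B} + v H` with `H` small;
* `bt_submod`, `ct_submod`: the inequalities;
* `Dec M A`: `M → M_A ⊞ M_{A'}` is an isomorphism (`A'` the complement), characterised by
  `χ(M_A) + χ(M_{A'}) = χ(M)`.
-/

set_option autoImplicit false
universe u
open CategoryTheory CategoryTheory.Limits AlgebraicGeometry Opposite TopologicalSpace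

namespace K77.TF

open Groth.Agent.CycB.StalkExact Groth.Agent.CurvesB Groth.Agent.CurvesB.SubH1
  Groth.Agent.CurvesB.GenStalk Groth.Agent.VarietyA.StalkCrit Groth.Agent.Fga.ChiBasic
  Groth.Agent.Sga67.CohBasic Groth.Agent.CurvesB.PairLemma

variable {X : Scheme.{u}}

theorem add_epi [IsLocallyNoetherian X] {v : X.Modules → ℤ} (hv : IsAdd v) {A B : X.Modules} (g : A ⟶ B) [Epi g]
    (hA : Coh.IsCoh A) (hB : Coh.IsCoh B) : v A = v B + v (kernel g) := by
  have h1 := chi_map hv g hA hB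
  have h2 : v (cokernel g) = 0 := chi_isZero hv (isZero_cokernel_of_epi g)
  omega

theorem add_mono [IsLocallyNoetherian X] {v : X.Modules → ℤ} (hv : IsAdd v) {A B : X.Modules} (g : A ⟶ B) [Mono g]
    (hA : Coh.IsCoh A) (hB : Coh.IsCoh B) : v B = v A + v (cokernel g) := by
  have h1 := chi_map hv g hA hB
  have h2 : v (kernel g) = 0 := chi_isZero hv (isZero_kernel_of_mono g)
  omega

theorem exists_submod [IsLocallyNoetherian X] {M MA MB MI MU : X.Modules} {A B : Set X} {pA : M ⟶ MA}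
    {pB : M ⟶ MB} {q : M ⟶ MI} {q' : M ⟶ MU} (hA : IsQ A pA) (hB : IsQ B pB) (hI : IsQ (A ∩ B) q)
    (hU : IsQ (A ∪ B) q') :
    ∃ H : X.Modules, Coh.IsCoh H ∧ IsSmall H ∧
      ∀ v : X.Modules → ℤ, IsAdd v → v MA + v MB = v MI + v MU + v H := by
  have := hA.epi
  have := hB.epi
  have := hI.epi
  have := hU.epi
  obtain ⟨g, hg, hge⟩ := hU.exists_map hA Set.subset_union_left
  obtain ⟨g', hg', hge'⟩ := hU.exists_map hB Set.subset_union_right
  obtain ⟨h, hh, hhe⟩ := hA.exists_map hI Set.inter_subset_left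
  have hpA : ∀ (x : X) (m : M.presheaf.stalk x), stalkLin g x (stalkLin q' x m) = stalkLin pA x m :=
    fun x m => by rw [← stalkLin_comp_apply, hg]
  have hpB : ∀ (x : X) (m : M.presheaf.stalk x), stalkLin g' x (stalkLin q' x m) = stalkLin pB x m :=
    fun x m => by rw [← stalkLin_comp_apply, hg']
  have hpI : ∀ (x : X) (m : M.presheaf.stalk x), stalkLin h x (stalkLin pA x m) = stalkLin q x m :=
    fun x m => by rw [← stalkLin_comp_apply, hh]
  have hz : (kernel.ι g' ≫ g) ≫ h = 0 := by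
    refine hom_eq_zero_of_stalk _ fun x s => ?_
    rw [stalkLin_comp_apply, stalkLin_comp_apply]
    obtain ⟨m, hm⟩ := hU.surj x (stalkLin (kernel.ι g') x s)
    rw [← hm, hpA, hpI, hI.ker_iff]
    have h1 : stalkLin g' x (stalkLin (kernel.ι g') x s) = 0 := (mem_ker_iff g' x _).2 ⟨s, rfl⟩
    rw [← hm, hpB, hB.ker_iff] at h1
    exact fun ξ hξ hx => h1 ξ hξ.2 hx
  let c : kernel g' ⟶ kernel h := kernel.lift h (kernel.ι g' ≫ g) hz
  have hc : c ≫ kernel.ι h = kernel.ι g' ≫ g := kernel.lift_ι _ _ _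
  have hcs : ∀ (x : X) (s : (kernel g').presheaf.stalk x),
      stalkLin (kernel.ι h) x (stalkLin c x s) = stalkLin g x (stalkLin (kernel.ι g') x s) := fun x s => by
    rw [← stalkLin_comp_apply, hc, stalkLin_comp_apply]
  have hcm : Mono c := by
    refine mono_of_stalks c fun x => ?_
    rw [injective_iff_map_eq_zero]
    intro s hs
    apply stalkLin_injective (kernel.ι g') x
    rw [map_zero]
    have h1 : stalkLin g x (stalkLin (kernel.ι g') x s) = 0 := by rw [← hcs, hs, map_zero]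
    have h2 : stalkLin g' x (stalkLin (kernel.ι g') x s) = 0 := (mem_ker_iff g' x _).2 ⟨s, rfl⟩
    obtain ⟨m, hm⟩ := hU.surj x (stalkLin (kernel.ι g') x s)
    rw [← hm] at h1 h2 ⊢
    rw [hpA, hA.ker_iff] at h1
    rw [hpB, hB.ker_iff] at h2
    rw [hU.ker_iff]
    rintro ξ (hξ | hξ) hx
    · exact h1 ξ hξ hx
    · exact h2 ξ hξ hx
  have ck : Coh.IsCoh (kernel g') := isCoh_kernel g' hU.coh hB.coh.1
  have ck' : Coh.IsCoh (kernel h) := isCoh_kernel h hA.coh hI.coh.1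
  refine ⟨cokernel c, isCoh_cokernel c ck.1 ck', ?_, ?_⟩
  · intro ξ hξ
    rw [subsingleton_cokernel_stalk_iff]
    intro t
    have h1 : stalkLin h ξ (stalkLin (kernel.ι h) ξ t) = 0 := (mem_ker_iff h ξ _).2 ⟨t, rfl⟩
    obtain ⟨m, hm⟩ := hA.surj ξ (stalkLin (kernel.ι h) ξ t)
    by_cases hξA : ξ ∈ A
    · by_cases hξB : ξ ∈ B
      · refine ⟨0, ?_⟩
        rw [map_zero]
        symm
        apply stalkLin_injective (kernel.ι h) ξ
        rw [map_zero, ← hm]
        rw [← hm, hpI] at h1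
        rw [hI.inj ξ ⟨hξA, hξB⟩ (h1.trans (map_zero _).symm), map_zero]
      · have h2 : stalkLin g' ξ (stalkLin q' ξ m) = 0 := (hB.zero ξ hξ hξB).elim _ _
        obtain ⟨s, hs⟩ := (mem_ker_iff g' ξ _).1 h2
        refine ⟨s, ?_⟩
        apply stalkLin_injective (kernel.ι h) ξ
        rw [hcs, hs, hpA, hm]
    · have := hA.zero ξ hξ hξA
      refine ⟨0, ?_⟩
      apply stalkLin_injective (kernel.ι h) ξ
      exact Subsingleton.elim _ _
  · intro v hv
    have e1 := add_epi hv g' hU.coh hB.coh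
    have e2 := add_epi hv h hA.coh hI.coh
    have e3 := add_mono hv c ck ck'
    omega

section Field

variable (k : Type u) [Field k] [X.Over (Spec (CommRingCat.of k))]
  [IsProper (X ↘ Spec (CommRingCat.of k))] (hdim : topologicalKrullDim X ≤ 1)

include hdim in
theorem ct_submod [IsReduced X] {M : X.Modules} (hM : Coh.IsCoh M) {A B : Set X} (hA : ∀ ξ ∈ A, IsGen ξ)
    (hB : ∀ ξ ∈ B, IsGen ξ) : ct k M (A ∩ B) + ct k M (A ∪ B) ≤ ct k M A + ct k M B := by
  have hn := Groth.Agent.Fga.SnapperTwist.isNoetherian_of_proper k X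
  obtain ⟨MA, pA, h1⟩ := exists_isQ hM A hA
  obtain ⟨MB, pB, h2⟩ := exists_isQ hM B hB
  obtain ⟨MI, q, h3⟩ := exists_isQ hM (A ∩ B) fun ξ hξ => hA ξ hξ.1
  obtain ⟨MU, q', h4⟩ := exists_isQ hM (A ∪ B) fun ξ hξ => hξ.elim (hA ξ) (hB ξ)
  obtain ⟨H, c1, c2, c3⟩ := exists_submod h1 h2 h3 h4
  rw [ct_eq k h1, ct_eq k h2, ct_eq k h3, ct_eq k h4]
  have e1 := c3 _ (isAdd_euler k)
  have e2 := TriT208.euler_nonneg k hdim c1 c2
  linarith

include hdim in
theorem bt_submod [IsReduced X] {r : ℕ} {E : X.Modules} (hE : FlatMod.IsFinLocFreeOfRank r E) {M : X.Modules}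
    (hM : Coh.IsCoh M) {A B : Set X} (hA : ∀ ξ ∈ A, IsGen ξ)
    (hB : ∀ ξ ∈ B, IsGen ξ) : bt k E M (A ∩ B) + bt k E M (A ∪ B) ≤ bt k E M A + bt k E M B := by
  have hn := Groth.Agent.Fga.SnapperTwist.isNoetherian_of_proper k X
  obtain ⟨MA, pA, h1⟩ := exists_isQ hM A hA
  obtain ⟨MB, pB, h2⟩ := exists_isQ hM B hB
  obtain ⟨MI, q, h3⟩ := exists_isQ hM (A ∩ B) fun ξ hξ => hA ξ hξ.1
  obtain ⟨MU, q', h4⟩ := exists_isQ hM (A ∪ B) fun ξ hξ => hξ.elim (hA ξ) (hB ξ)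
  obtain ⟨H, c1, c2, c3⟩ := exists_submod h1 h2 h3 h4
  rw [bt_eq k hE h1, bt_eq k hE h2, bt_eq k hE h3, bt_eq k hE h4]
  have e1 := c3 _ (isAdd_Psi k hE)
  have e2 := TriT208.euler_nonneg k hdim c1 c2
  have e3 := Psi_small k hE hdim c1 c2
  have e4 : (0 : ℤ) ≤ r * Curv2.euler k X H := mul_nonneg (Int.natCast_nonneg r) e2
  linarith

omit [X.Over (Spec (CommRingCat.of k))] [IsProper (X ↘ Spec (CommRingCat.of k))] in
theorem ct_empty [X.Over (Spec (CommRingCat.of k))] [IsProper (X ↘ Spec (CommRingCat.of k))]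
    [IsReduced X] {F : X.Modules} (hF : Coh.IsCoh F) :
    ct k F ∅ = 0 := by
  have hn := Groth.Agent.Fga.SnapperTwist.isNoetherian_of_proper k X
  obtain ⟨G, π, h⟩ := exists_isQ hF (∅ : Set X) (fun ξ hξ => absurd hξ (Set.notMem_empty _))
  rw [ct_eq k h]
  exact chi_isZero (isAdd_euler k) (h.tf.isZero fun ξ hξ => h.zero ξ hξ (Set.notMem_empty _))

theorem ct_all {F : X.Modules} (hF : Coh.IsCoh F) (htf : StTF F) {T : Set X}
    (hT : ∀ ξ ∈ T, IsGen ξ) (h : ∀ ξ : X, IsGen ξ → ξ ∈ T) : ct k F T = Curv2.euler k X F :=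
  ct_eq k (isQ_id hT hF htf h)

/-- The complement of a set of generic points. -/
def cpl (A : Set X) : Set X := {ξ | IsGen ξ ∧ ξ ∉ A}

theorem isGen_cpl (A : Set X) : ∀ ξ ∈ cpl A, IsGen ξ := fun _ h => h.1

theorem cpl_cpl {A : Set X} (hA : ∀ ξ ∈ A, IsGen ξ) : cpl (cpl A) = A := by
  ext ξ
  constructor
  · intro h
    by_contra hc
    exact h.2 ⟨h.1, hc⟩
  · intro h
    exact ⟨hA ξ h, fun hc => hc.2 h⟩

theorem inter_cpl (A : Set X) : A ∩ cpl A = ∅ := by
  ext ξ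
  simp only [Set.mem_inter_iff, Set.mem_empty_iff_false, iff_false]
  exact fun h => h.2.2 h.1

theorem mem_union_cpl (A : Set X) (ξ : X) (hξ : IsGen ξ) : ξ ∈ A ∪ cpl A := by
  by_cases h : ξ ∈ A
  · exact Or.inl h
  · exact Or.inr ⟨hξ, h⟩

/-- `M → M_A ⊞ M_{A'}` is an isomorphism iff `χ(M_A) + χ(M_{A'}) = χ(M)`. -/
theorem isIso_lift_iff_euler [IsReduced X] (hdim : topologicalKrullDim X ≤ 1) {M M₁ M₂ : X.Modules} {A A' : Set X}
    {p₁ : M ⟶ M₁} {p₂ : M ⟶ M₂} (hM : Coh.IsCoh M) (htf : StTF M) (h₁ : IsQ A p₁) (h₂ : IsQ A' p₂)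
    (hA : A ∩ A' = ∅) (hA' : ∀ ξ : X, IsGen ξ → ξ ∈ A ∪ A') :
    IsIso (biprod.lift p₁ p₂) ↔ ct k M A + ct k M A' = Curv2.euler k X M := by
  have hn := Groth.Agent.Fga.SnapperTwist.isNoetherian_of_proper k X
  have hf : ∀ (x : X) (s : M.presheaf.stalk x),
      stalkLin (biprod.fst : M₁ ⊞ M₂ ⟶ M₁) x (stalkLin (biprod.lift p₁ p₂) x s) = stalkLin p₁ x s :=
    fun x s => by rw [← stalkLin_comp_apply, biprod.lift_fst]
  have hs : ∀ (x : X) (s : M.presheaf.stalk x),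
      stalkLin (biprod.snd : M₁ ⊞ M₂ ⟶ M₂) x (stalkLin (biprod.lift p₁ p₂) x s) = stalkLin p₂ x s :=
    fun x s => by rw [← stalkLin_comp_apply, biprod.lift_snd]
  have hm : Mono (biprod.lift p₁ p₂) := by
    refine mono_of_stalks _ fun x => ?_
    rw [injective_iff_map_eq_zero]
    intro s hss
    have e₁ : stalkLin p₁ x s = 0 := by rw [← hf, hss, map_zero]
    have e₂ : stalkLin p₂ x s = 0 := by rw [← hs, hss, map_zero]
    refine htf x s fun ξ hx hξ => ?_
    rcases hA' ξ hξ with hh | hh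
    · exact (h₁.ker_iff x s).1 e₁ ξ hh hx
    · exact (h₂.ker_iff x s).1 e₂ ξ hh hx
  have hses : (ShortComplex.mk (biprod.inl : M₁ ⟶ M₁ ⊞ M₂) (biprod.snd : M₁ ⊞ M₂ ⟶ M₂) biprod.inl_snd).ShortExact :=
    (ShortComplex.Splitting.ofHasBinaryBiproduct M₁ M₂).shortExact
  have hco : Coh.IsCoh (M₁ ⊞ M₂) := isCoh_biprod h₁.coh h₂.coh
  have e1 := isAdd_euler k _ hses h₁.coh hco h₂.coh
  have e2 := add_mono (isAdd_euler k) (biprod.lift p₁ p₂) hM hco
  have hC : Coh.IsCoh (cokernel (biprod.lift p₁ p₂)) := isCoh_cokernel _ hM.1 hco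
  have hsm : IsSmall (cokernel (biprod.lift p₁ p₂)) := by
    intro ξ hξ
    rw [subsingleton_cokernel_stalk_iff]
    intro t
    have hinj : ∀ t : (M₁ ⊞ M₂).presheaf.stalk ξ, stalkLin (biprod.fst : M₁ ⊞ M₂ ⟶ M₁) ξ t = 0 →
        stalkLin (biprod.snd : M₁ ⊞ M₂ ⟶ M₂) ξ t = 0 → t = 0 := by
      intro t h1 h2
      have h3 : t = stalkLin (𝟙 (M₁ ⊞ M₂)) ξ t := by rw [stalkLin_id]; rfl
      rw [h3, ← biprod.total, stalkLin_add, stalkLin_comp_apply, stalkLin_comp_apply, h1, h2,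
        map_zero, map_zero, add_zero]
    rcases hA' ξ hξ with hh | hh
    · have hh' : ξ ∉ A' := fun hc => by
        have : ξ ∈ A ∩ A' := ⟨hh, hc⟩
        rw [hA] at this
        exact this
      obtain ⟨m, hm⟩ := h₁.surj ξ (stalkLin biprod.fst ξ t)
      refine ⟨m, sub_eq_zero.1 (hinj _ ?_ ?_)⟩
      · rw [map_sub, hf, hm, sub_self]
      · exact (h₂.zero ξ hξ hh').elim _ _
    · have hh' : ξ ∉ A := fun hc => by
        have : ξ ∈ A ∩ A' := ⟨hc, hh⟩
        rw [hA] at this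
        exact this
      obtain ⟨m, hm⟩ := h₂.surj ξ (stalkLin biprod.snd ξ t)
      refine ⟨m, sub_eq_zero.1 (hinj _ ?_ ?_)⟩
      · exact (h₁.zero ξ hξ hh').elim _ _
      · rw [map_sub, hs, hm, sub_self]
  have e3 := isZero_iff_euler k hdim hC hsm
  rw [ct_eq k h₁, ct_eq k h₂]
  simp only at e1 e2
  have e4 : IsIso (biprod.lift p₁ p₂) ↔ IsZero (cokernel (biprod.lift p₁ p₂)) := by
    constructor
    · intro h
      exact isZero_cokernel_of_epi _
    · intro h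
      have : Epi (biprod.lift p₁ p₂) := Preadditive.epi_of_isZero_cokernel _ h
      exact isIso_of_mono_of_epi _
  rw [e4, e3]
  constructor
  · intro h; linarith
  · intro h; linarith

end Field

end K77.TF
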