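import Groth.Agent.TFOne.K77.Submod
import Groth.Agent.TFOne.K77.RowSetup

/-!
# Chains of elementary modifications over a discrete valuation ring

`Adm f i I`: `I` coherent, flat, with torsion-free rank-one restriction to the special fibre; `IsMod i T I I'`: `I'` is
the elementary modification of `I` along the set `T` of generic points of the special fibre; `Reach i I I'`: `I'` is
obtained by finitely many modifications; `Dec k M T`: `M` decomposes at `T`.
-/

set_option autoImplicit false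
universe u
open CategoryTheory CategoryTheory.Limits AlgebraicGeometry Opposite TopologicalSpace IsLocalRing

namespace K77.TF

open Groth.Agent.CycB.StalkExact Groth.Agent.CurvesB Groth.Agent.CurvesB.SubH1
  Groth.Agent.CurvesB.GenStalk Groth.Agent.VarietyA.StalkCrit Groth.Agent.Fga.ChiBasic
  Groth.Agent.Sga67.CohBasic Groth.Agent.CurvesB.PairLemma

section Choice

theorem exists_max {α : Type*} (P : α → Prop) (f : α → ℕ) (N : ℕ) (hb : ∀ a, P a → f a ≤ N) (h : ∃ a, P a) :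
    ∃ a, P a ∧ ∀ b, P b → f b ≤ f a := by
  obtain ⟨a, ha⟩ := h
  by_contra hc
  push Not at hc
  have key : ∀ n : ℕ, ∃ b, P b ∧ n ≤ f b := by
    intro n
    induction n with
    | zero => exact ⟨a, ha, Nat.zero_le _⟩
    | succ n ih =>
      obtain ⟨b, hb1, hb2⟩ := ih
      obtain ⟨c, hc1, hc2⟩ := hc b hb1
      exact ⟨c, hc1, by omega⟩
  obtain ⟨b, hb1, hb2⟩ := key (N + 1)
  have := hb b hb1
  omega

theorem exists_min {α : Type*} (P : α → Prop) (f : α → ℕ) (h : ∃ a, P a) :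
    ∃ a, P a ∧ ∀ b, P b → f a ≤ f b := by
  classical
  have h' : ∃ n, ∃ a, P a ∧ f a = n := let ⟨a, ha⟩ := h; ⟨f a, a, ha, rfl⟩
  obtain ⟨a, ha, hfa⟩ := Nat.find_spec h'
  refine ⟨a, ha, fun b hb => ?_⟩
  rw [hfa]
  exact Nat.find_min' h' ⟨b, hb, rfl⟩

end Choice

section Curve

variable {X : Scheme.{u}} (k : Type u) [Field k] [X.Over (Spec (CommRingCat.of k))]

/-- `M` decomposes at `T`. -/
def Dec (M : X.Modules) (T : Set X) : Prop := ct k M T + ct k M (cpl T) = Curv2.euler k X M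

variable [IsProper (X ↘ Spec (CommRingCat.of k))] [IsReduced X] (hdim : topologicalKrullDim X ≤ 1)
include hdim

theorem dec_iff {M M₁ M₂ : X.Modules} {A : Set X} {p₁ : M ⟶ M₁} {p₂ : M ⟶ M₂} (hM : Coh.IsCoh M) (htf : StTF M)
    (h₁ : IsQ A p₁) (h₂ : IsQ (cpl A) p₂) : Dec k M A ↔ IsIso (biprod.lift p₁ p₂) :=
  (isIso_lift_iff_euler k hdim hM htf h₁ h₂ (inter_cpl A) (mem_union_cpl A)).symm

omit [IsReduced X] hdim in
theorem Dec.cpl {M : X.Modules} {A : Set X} (hA : ∀ ξ ∈ A, IsGen ξ) (h : Dec k M A) : Dec k M (cpl A) := by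
  unfold Dec at *
  rw [cpl_cpl hA]
  linarith

theorem dec_bt {r : ℕ} {E : X.Modules} (hE : FlatMod.IsFinLocFreeOfRank r E) {M : X.Modules} {A : Set X}
    (hA : ∀ ξ ∈ A, IsGen ξ) (hM : Coh.IsCoh M) (htf : StTF M) (h : Dec k M A) :
    bt k E M A + bt k E M (cpl A) = Psi k E M := by
  have hn := Groth.Agent.Fga.SnapperTwist.isNoetherian_of_proper k X
  obtain ⟨M₁, p₁, h₁⟩ := exists_isQ hM A hA
  obtain ⟨M₂, p₂, h₂⟩ := exists_isQ hM (K77.TF.cpl A) (isGen_cpl A)
  have hi := (dec_iff k hdim hM htf h₁ h₂).1 h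
  have hses : (ShortComplex.mk (biprod.inl : M₁ ⟶ M₁ ⊞ M₂) (biprod.snd : M₁ ⊞ M₂ ⟶ M₂) biprod.inl_snd).ShortExact :=
    (ShortComplex.Splitting.ofHasBinaryBiproduct M₁ M₂).shortExact
  have hco : Coh.IsCoh (M₁ ⊞ M₂) := isCoh_biprod h₁.coh h₂.coh
  have e1 := isAdd_Psi k hE _ hses h₁.coh hco h₂.coh
  have e2 := Psi_iso k E (asIso (biprod.lift p₁ p₂))
  rw [bt_eq k hE h₁, bt_eq k hE h₂]
  simp only at e1
  rw [e2, e1]

/-- A decomposition splits all values. -/
theorem Dec.split {M : X.Modules} (hM : Coh.IsCoh M) (htf : StTF M) {T : Set X} (hT : ∀ ξ ∈ T, IsGen ξ)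
    (h : Dec k M T) {A : Set X} (hA : ∀ ξ ∈ A, IsGen ξ) : ct k M A = ct k M (A ∩ T) + ct k M (A ∩ K77.TF.cpl T) := by
  have h0 := ct_empty k hM
  have hT' := isGen_cpl T
  have e1 := ct_submod k hdim hM hA hT
  have hAT : ∀ ξ ∈ A ∪ T, IsGen ξ := fun ξ hξ => hξ.elim (hA ξ) (hT ξ)
  have e2 := ct_submod k hdim hM hAT hT'
  have s1 : (A ∪ T) ∩ K77.TF.cpl T = A ∩ K77.TF.cpl T := by
    ext ξ
    constructor
    · rintro ⟨h1 | h1, h2⟩
      · exact ⟨h1, h2⟩
      · exact absurd h1 h2.2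
    · rintro ⟨h1, h2⟩
      exact ⟨Or.inl h1, h2⟩
  have s2 : ct k M ((A ∪ T) ∪ K77.TF.cpl T) = Curv2.euler k X M := by
    refine ct_all k hM htf (fun ξ hξ => hξ.elim (hAT ξ) (hT' ξ)) fun ξ hξ => ?_
    rcases mem_union_cpl T ξ hξ with hh | hh
    · exact Or.inl (Or.inr hh)
    · exact Or.inr hh
  rw [s1, s2] at e2
  have e3 := ct_submod k hdim hM (A := A ∩ T) (B := A ∩ K77.TF.cpl T) (fun ξ hξ => hA ξ hξ.1) (fun ξ hξ => hA ξ hξ.1)
  have s3 : (A ∩ T) ∩ (A ∩ K77.TF.cpl T) = ∅ := by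
    ext ξ
    simp only [Set.mem_inter_iff, Set.mem_empty_iff_false, iff_false]
    exact fun hh => hh.2.2.2 hh.1.2
  have s4 : (A ∩ T) ∪ (A ∩ K77.TF.cpl T) = A := by
    ext ξ
    constructor
    · rintro (hh | hh)
      · exact hh.1
      · exact hh.1
    · intro hh
      rcases mem_union_cpl T ξ (hA ξ hh) with h1 | h1
      · exact Or.inl ⟨hh, h1⟩
      · exact Or.inr ⟨hh, h1⟩
  rw [s3, s4, h0] at e3
  unfold Dec at h
  linarith

/-- A set at which the modification along a decomposing set decomposes already decomposes the old module. -/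
theorem Mdf.dec_of_dec {r : ℕ} {E : X.Modules} (hE : FlatMod.IsFinLocFreeOfRank r E)
    {M N G : X.Modules} {T : Set X} {a : G ⟶ N} {b : N ⟶ M} {π : M ⟶ G} (h : Mdf T a b π)
    (hT : Dec k M T) {S : Set X} (hS : ∀ ξ ∈ S, IsGen ξ) (hd : Dec k N S) : Dec k M S := by
  have hn := Groth.Agent.Fga.SnapperTwist.isNoetherian_of_proper k X
  have hTg := h.q.gen
  have ge : ∀ {S : Set X}, (∀ ξ ∈ S, IsGen ξ) →
      ct k M (T ∩ S) + ct k M (T ∪ S) ≤ ct k N S + ct k M T := by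
    intro S hS
    obtain ⟨NS, p, hp⟩ := exists_isQ h.cohN S hS
    obtain ⟨d, h0, -, h1, -⟩ := h.exists_defect k hE hdim hp
    linarith
  have e1 := ge hS
  have e2 := ge (isGen_cpl S)
  have e3 : Curv2.euler k X N = Curv2.euler k X M := h.add_eq (isAdd_euler k)
  have hU : ∀ {S : Set X}, (∀ ξ ∈ S, IsGen ξ) → ∀ ξ ∈ T ∪ S, IsGen ξ := fun hS ξ hξ => hξ.elim (hTg ξ) (hS ξ)
  have sp : ∀ {S : Set X}, (∀ ξ ∈ S, IsGen ξ) → ct k M (T ∪ S) = ct k M T + ct k M (S ∩ K77.TF.cpl T) := by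
    intro S hS
    rw [hT.split k hdim h.cohM h.tfM hTg (hU hS), Set.union_inter_cancel_left]
    congr 2
    ext ξ
    constructor
    · rintro ⟨h1 | h1, h2⟩
      · exact absurd h1 h2.2
      · exact ⟨h1, h2⟩
    · rintro ⟨h1, h2⟩
      exact ⟨Or.inr h1, h2⟩
  have e4 := sp hS
  have e5 := sp (isGen_cpl S)
  have e6 := hT.split k hdim h.cohM h.tfM hTg hS
  have e7 := hT.split k hdim h.cohM h.tfM hTg (isGen_cpl S)
  have e8 := ct_submod k hdim h.cohM hS (isGen_cpl S)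
  rw [inter_cpl, ct_empty k h.cohM, ct_all k h.cohM h.tfM (fun ξ hξ => hξ.elim (hS ξ) (isGen_cpl S ξ))
    (mem_union_cpl S)] at e8
  rw [Set.inter_comm T S] at e1
  rw [Set.inter_comm T (K77.TF.cpl S)] at e2
  unfold Dec at *
  linarith

end Curve

end K77.TF

namespace K77.Tower

open Groth.Agent.CurvesB.SubH1 Groth.Agent.CurvesB.PairLemma K77.TF K77.ModSeq

variable {R : Type u} [CommRing R] [IsDomain R] [IsDiscreteValuationRing R] {X : Scheme.{u}}
  (f : X ⟶ Spec (CommRingCat.of R)) {Xs : Scheme.{u}} (i : Xs ⟶ X)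

/-- Coherent, flat, torsion-free of rank one on the special fibre. -/
structure Adm (I : X.Modules) : Prop where
  coh : Coh.IsCoh I
  flat : FlatMod.IsFlatOver f I
  tf1 : TFOne.IsTF1 Xs ((Scheme.Modules.pullback i).obj I)

/-- `I'` is the elementary modification of `I` along `T`. -/
def IsMod (T : Set Xs) (I I' : X.Modules) : Prop :=
  ∃ (G : Xs.Modules) (π : (Scheme.Modules.pullback i).obj I ⟶ G), IsQ T π ∧ I' = kernel (toPush i π)

/-- `I'` is obtained from `I` by finitely many elementary modifications. -/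
inductive Reach (I : X.Modules) : X.Modules → Prop
  | refl : Reach I I
  | step {J J' : X.Modules} {T : Set Xs} : Reach I J → IsMod i T J J' → Reach I J'

theorem exists_tower (T : Set Xs) (P : X.Modules → Prop)
    (hP : ∀ J, P J → ∃ J', IsMod i T J J' ∧ P J') {J : X.Modules} (hJ : P J) :
    ∃ In : ℕ → X.Modules, In 0 = J ∧ ∀ n, P (In n) ∧ IsMod i T (In n) (In (n + 1)) := by
  classical
  let s : {J : X.Modules // P J} → {J : X.Modules // P J} := fun J =>
    ⟨(hP J.1 J.2).choose, (hP J.1 J.2).choose_spec.2⟩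
  let F : ℕ → {J : X.Modules // P J} := fun n => Nat.rec ⟨J, hJ⟩ (fun _ J => s J) n
  refine ⟨fun n => (F n).1, rfl, fun n => ⟨(F n).2, ?_⟩⟩
  exact (hP (F n).1 (F n).2).choose_spec.1

variable [IsProper f] [Xs.Over (Spec (CommRingCat.of (IsLocalRing.ResidueField R)))]
  (hsq : IsPullback i (Xs ↘ Spec (CommRingCat.of (IsLocalRing.ResidueField R))) f
    (Spec.map (CommRingCat.ofHom (IsLocalRing.residue R)))) [IsReduced Xs]

include hsq

theorem exists_mod {I : X.Modules} (hI : Adm f i I) {T : Set Xs} (hT : ∀ ξ ∈ T, IsGen ξ) :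
    ∃ I', IsMod i T I I' := by
  have hp := K77.Dvr.isProper_Xs R f i hsq
  have hn := Groth.Agent.Fga.SnapperTwist.isNoetherian_of_proper (IsLocalRing.ResidueField R) Xs
  obtain ⟨G, π, h⟩ := exists_isQ hI.tf1.1 T hT
  exact ⟨_, G, π, h, rfl⟩

theorem IsMod.exists_mdf {I I' : X.Modules} (hI : Adm f i I) {T : Set Xs} (h : IsMod i T I I') :
    ∃ (G : Xs.Modules) (a : G ⟶ (Scheme.Modules.pullback i).obj I')
      (b : (Scheme.Modules.pullback i).obj I' ⟶ (Scheme.Modules.pullback i).obj I)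
      (π : (Scheme.Modules.pullback i).obj I ⟶ G), Mdf T a b π := by
  have hp := K77.Dvr.isProper_Xs R f i hsq
  have hn := Groth.Agent.Fga.SnapperTwist.isNoetherian_of_proper (IsLocalRing.ResidueField R) Xs
  obtain ⟨G, π, h, rfl⟩ := h
  obtain ⟨a, ha⟩ := Dvr.exists_mdf R f i hsq hI.coh hI.flat (stTF_of_isTF1 hI.tf1) π h
  exact ⟨G, a, _, π, ha⟩

theorem IsMod.adm {I I' : X.Modules} (hI : Adm f i I) {T : Set Xs} (h : IsMod i T I I') : Adm f i I' := by
  have hp := K77.Dvr.isProper_Xs R f i hsq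
  obtain ⟨G', a, b, π', hm⟩ := h.exists_mdf f i hsq hI
  have h1 := hm.isTF1 (IsLocalRing.ResidueField R) hI.tf1
  obtain ⟨G, π, h, rfl⟩ := h
  exact ⟨K77.Dvr.isCoh_modification R f i hsq hI.coh π h.coh,
    K77.Dvr.isFlatOver_of_mono_hom f (kernel.ι (toPush i π)) hI.flat, h1⟩

theorem Reach.adm {I I' : X.Modules} (hI : Adm f i I) (h : Reach i I I') : Adm f i I' := by
  induction h with
  | refl => exact hI
  | step _ h ih => exact h.adm f i hsq ih

end K77.Tower
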