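import Groth.Agent.TFOne.K22.LimitK77
import Groth.Agent.TFOne.K975.Fam
import Groth.Agent.TFOne.K77.LemG
import Groth.Agent.TFOne.K77.Transfer
import Groth.Agent.Fdesc.FlatBC

/-!
# The geometric generic fibre of a decomposing tower

For an infinite decomposing tower of modifications of `J` along `T` there is a geometric generic fibre `g : Y ⟶ X` and a
set `T'` of generic points of `Y` on which the value of `g^* J` is the value of `J(s)` on `T`.
-/

set_option autoImplicit false
universe u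
open CategoryTheory CategoryTheory.Limits AlgebraicGeometry Opposite TopologicalSpace IsLocalRing

namespace K77.TowerG

open Groth.Agent.CurvesB.SubH1 K77.TF Groth.Agent.CurvesB Groth.Agent.CurvesB.PairLemma K77.Tower K77.Transfer
  K22.Cpl Groth.Agent.CycB.StalkExact

theorem isQ_comp_iso {X : Scheme.{u}} {F G G' : X.Modules} {T : Set X} {π : F ⟶ G} (h : IsQ T π) (e : G ≅ G') :
    IsQ T (π ≫ e.hom) := by
  have := h.epi
  refine ⟨h.gen, epi_comp _ _, Groth.Agent.Sga67.CohBasic.isCoh_of_iso e h.coh, h.tf.of_iso e,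
    fun ξ hξ => ?_, fun ξ hξ hT => ?_⟩
  · rw [stalkLin_comp]
    exact (stalkLinEquiv e ξ).injective.comp (h.inj ξ hξ)
  · have := h.zero ξ hξ hT
    exact (stalkLinEquiv e ξ).symm.injective.subsingleton

theorem geometricallyReduced {κ : Type u} [Field κ] {Z : Scheme.{u}} (q : Z ⟶ Spec (CommRingCat.of κ))
    (hgi : ∀ (C : Set Z) (hC : C ∈ irreducibleComponents (Z : Type u)),
      GeometricallyIntegral (VecSt.subschι Z C (isClosed_of_mem_irreducibleComponents C hC) ≫ q))
    [IsReduced Z] [IsNoetherian Z] : GeometricallyReduced q := by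
  have hfin : Finite (irreducibleComponents (Z : Type u)) :=
    (TopologicalSpace.NoetherianSpace.finite_irreducibleComponents).to_subtype
  let J := ↥(irreducibleComponents (Z : Type u))
  let C : J → Scheme.{u} := fun j => VecSt.subsch Z j.1 (isClosed_of_mem_irreducibleComponents j.1 j.2)
  let ι : ∀ j : J, C j ⟶ Z := fun j => VecSt.subschι Z j.1 (isClosed_of_mem_irreducibleComponents j.1 j.2)
  refine K22.GeoRed.geometricallyReduced_of_cover q C ι (fun x => ?_) fun j => ?_
  · obtain ⟨ξ, hξ, hx⟩ := SubClosed.exists_isGen_specializes x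
    have hC := closure_mem hξ
    have hr : ξ ∈ Set.range (ι ⟨closure {ξ}, hC⟩) := by
      rw [range_subschι]; exact subset_closure rfl
    obtain ⟨c, hc⟩ := hr
    exact ⟨⟨closure {ξ}, hC⟩, c, by rw [hc]; exact hx⟩
  · have := hgi j.1 j.2
    infer_instance

variable {R : Type u} [CommRing R] [IsDomain R] [IsDiscreteValuationRing R] {X : Scheme.{u}}
  (f : X ⟶ Spec (CommRingCat.of R)) [Flat f] [IsProper f] {Xs : Scheme.{u}}
  [Xs.Over (Spec (CommRingCat.of (IsLocalRing.ResidueField R)))]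

theorem exists_generic_aux {R' : Type u} [CommRing R'] [IsDomain R'] [IsDiscreteValuationRing R'] (φ : R →+* R')
    [IsLocalHom φ] (hφ : φ.Flat) (hres : Function.Bijective (IsLocalRing.ResidueField.map φ))
    (hmax : (IsLocalRing.maximalIdeal R).map φ = IsLocalRing.maximalIdeal R')
    [IsAdicComplete (IsLocalRing.maximalIdeal R') R'] (hinj : Function.Injective φ)
    {X' : Scheme.{u}} {f' : X' ⟶ Spec (CommRingCat.of R')} {c : X' ⟶ X}
    (hX : IsPullback c f' f (Spec.map (CommRingCat.ofHom φ))) (i' : Xs ⟶ X')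
    (hsq : IsPullback (i' ≫ c) (Xs ↘ Spec (CommRingCat.of (IsLocalRing.ResidueField R))) f
      (Spec.map (CommRingCat.ofHom (IsLocalRing.residue R))))
    (hsq' : IsPullback i' ((Xs ↘ Spec (CommRingCat.of (IsLocalRing.ResidueField R))) ≫
      Spec.map (CommRingCat.ofHom (resInv φ hres))) f' (Spec.map (CommRingCat.ofHom (IsLocalRing.residue R'))))
    [IsReduced Xs]
    (hgi : ∀ (C : Set Xs) (hC : C ∈ irreducibleComponents (Xs : Type u)),
      GeometricallyIntegral (VecSt.subschι Xs C (isClosed_of_mem_irreducibleComponents C hC) ≫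
        (Xs ↘ Spec (CommRingCat.of (IsLocalRing.ResidueField R)))))
    (hdim : topologicalKrullDim Xs ≤ 1) {E J : X.Modules} {r : ℕ} (hE : FlatMod.IsFinLocFreeOfRank r E)
    (hJ : Adm f (i' ≫ c) J) (hJrel : TFOne.IsRelTF1 f J) {T : Set Xs} (h : HasTower R (i' ≫ c) J T) :
    ∃ (Ω : Type u) (_ : Field Ω) (_ : IsAlgClosed Ω) (ψ : R →+* Ω) (Y : Scheme.{u})
      (_ : Y.Over (Spec (CommRingCat.of Ω))) (g : Y ⟶ X),
      Function.Injective ψ ∧
      IsPullback g (Y ↘ Spec (CommRingCat.of Ω)) f (Spec.map (CommRingCat.ofHom ψ)) ∧ IsReduced Y ∧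
      topologicalKrullDim Y ≤ 1 ∧ ∃ T' : Set Y, (∀ y ∈ T', IsGen y) ∧
        bt Ω ((Scheme.Modules.pullback g).obj E) ((Scheme.Modules.pullback g).obj J) T' =
          be R (i' ≫ c) E J T ∧
        ((∃ η : Xs, IsGen η ∧ η ∉ T) → ∃ y : Y, IsGen y ∧ y ∉ T') ∧
        ∀ (σ : Spec (CommRingCat.of R) ⟶ X), σ ≫ f = 𝟙 _ →
          (∀ η : Xs, IsGen η → (i' ≫ c) η ⤳ σ (closedPoint R) → η ∈ T) →
          ∀ y : Spec (CommRingCat.of Ω) ⟶ Y, y ≫ g = Spec.map (CommRingCat.ofHom ψ) ≫ σ →
            y ≫ (Y ↘ Spec (CommRingCat.of Ω)) = 𝟙 _ → ∃ y' ∈ T', y' ⤳ y (closedPoint Ω) := by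
  have hp := K77.Dvr.isProper_Xs R f _ hsq
  have hNs := Groth.Agent.Fga.SnapperTwist.isNoetherian_of_proper (IsLocalRing.ResidueField R) Xs
  have hpf' : IsProper f' := MorphismProperty.of_isPullback hX inferInstance
  have hff' : Flat f' := MorphismProperty.of_isPullback hX inferInstance
  have hfc : Flat c := by
    have : Flat (Spec.map (CommRingCat.ofHom φ)) := by rw [Flat.SpecMap_iff]; exact hφ
    exact MorphismProperty.of_isPullback hX.flip this
  obtain ⟨F, p, G, π, hF, hep, hFf, hQ, e, he⟩ :=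
    K22.LimitK77.exists_limit_of_hasTower hφ hmax hX hsq hsq' hdim hJ h
  -- the field
  let Ω := AlgebraicClosure (FractionRing R')
  let ψ' : R' →+* Ω := (algebraMap (FractionRing R') Ω).comp (algebraMap R' (FractionRing R'))
  have hψ' : Function.Injective ψ' :=
    (algebraMap (FractionRing R') Ω).injective.comp (IsFractionRing.injective R' (FractionRing R'))
  let Y := pullback f' (Spec.map (CommRingCat.ofHom ψ'))
  let g' : Y ⟶ X' := pullback.fst _ _
  let qY : Y ⟶ Spec (CommRingCat.of Ω) := pullback.snd _ _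
  have hY : IsPullback g' qY f' (Spec.map (CommRingCat.ofHom ψ')) := IsPullback.of_hasPullback _ _
  letI : Y.Over (Spec (CommRingCat.of Ω)) := ⟨qY⟩
  have hY' : IsPullback g' (Y ↘ Spec (CommRingCat.of Ω)) f' (Spec.map (CommRingCat.ofHom ψ')) := hY
  have hYX : IsPullback (g' ≫ c) (Y ↘ Spec (CommRingCat.of Ω)) f (Spec.map (CommRingCat.ofHom (ψ'.comp φ))) := by
    rw [CommRingCat.ofHom_comp, Spec.map_comp]
    exact hY'.paste_horiz hX
  have hgr := geometricallyReduced _ hgi
  have hgrf := K975.Fam.geometricallyReduced f hsq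
  have hredY : IsReduced Y := hgrf.geometrically_isReduced _ _ _ hYX
  have hdimY : topologicalKrullDim Y ≤ 1 := K975.Fam.dim_le f hsq hdim hYX
  have hpY : IsProper (Y ↘ Spec (CommRingCat.of Ω)) := MorphismProperty.of_isPullback hY' inferInstance
  -- the residue map
  let ρ : R' →+* IsLocalRing.ResidueField R := (resInv φ hres).comp (IsLocalRing.residue R')
  have hρ : Function.Surjective ρ :=
    (RingEquiv.ofBijective _ hres).symm.surjective.comp IsLocalRing.residue_surjective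
  have hiso : IsIso (Spec.map (CommRingCat.ofHom (resInv φ hres))) := by
    have : IsIso (CommRingCat.ofHom (resInv φ hres)) :=
      (RingEquiv.toCommRingCatIso (RingEquiv.ofBijective _ hres).symm).isIso_hom
    infer_instance
  have hρsq : IsPullback i' (Xs ↘ Spec (CommRingCat.of (IsLocalRing.ResidueField R))) f'
      (Spec.map (CommRingCat.ofHom ρ)) := by
    refine IsPullback.of_iso hsq' (Iso.refl _) (Iso.refl _)
      (asIso (Spec.map (CommRingCat.ofHom (resInv φ hres)))).symm (Iso.refl _) ?_ ?_ ?_ ?_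
    · simp
    · simp
    · simp
    · simp only [ρ, CommRingCat.ofHom_comp, Spec.map_comp, Iso.symm_hom, asIso_inv, Iso.refl_hom, Category.comp_id,
        IsIso.inv_hom_id_assoc]
  -- the hypotheses of the main lemma
  obtain ⟨e1⟩ := nonempty_compIso (g' := g') (i := c) rfl J
  obtain ⟨e2⟩ := nonempty_compIso (g' := g') (i := c) rfl E
  obtain ⟨e3⟩ := nonempty_compIso (g' := i') (i := c) rfl J
  obtain ⟨e4⟩ := nonempty_compIso (g' := i') (i := c) rfl E
  have hcJ : Coh.IsCoh ((Scheme.Modules.pullback c).obj J) := Groth.Agent.FormalB.PullCoh.isCoh_pullback c hJ.coh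
  have hfJ : FlatMod.IsFlatOver f' ((Scheme.Modules.pullback c).obj J) := fun z =>
    Groth.Agent.Fdesc.FlatBC.isFlatOverAt_pullback hX J z (hJ.flat _)
  have hQ' : IsQ T ((Scheme.Modules.pullback i').map p) := by
    have h1 : (Scheme.Modules.pullback i').map p = ((cmp i' c J).hom ≫ π) ≫ e.symm.hom := by
      rw [← he, Category.assoc, Iso.symm_hom, e.hom_inv_id, Category.comp_id]
    rw [h1]
    exact isQ_comp_iso (K77.Iso.isQ (cmp i' c J) hQ) e.symm
  have hcE := K652.LfRank.pullback c hE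
  obtain ⟨T', t1, t2, t3, t4⟩ := K77.LemG.main f' hψ' g' i' hρ hρsq hY' hcJ hF hfJ hFf p hQ'
    (K77.Iso.isTF1 e3.symm hJ.tf1) (K77.Iso.isTF1 e1.symm (hJrel.2.2 Ω _ Y _ _ hYX)) hcE
    (K975.Fam.Psi_eq f' hcE hF hFf hY' hρsq)
  have hNY := Groth.Agent.Fga.SnapperTwist.isNoetherian_of_proper Ω Y
  refine ⟨Ω, inferInstance, inferInstance, ψ'.comp φ, Y, inferInstance, g' ≫ c, hψ'.comp hinj, hYX, hredY,
    hdimY, pre g' T', isGen_pre g' T', ?_, t3, ?_⟩
  · rw [be, ← K77.Iso.bt_congr _ (K652.LfRank.pullback g' hcE) (K652.LfRank.pullback (g' ≫ c) hE) e2 e1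
      (Groth.Agent.FormalB.PullCoh.isCoh_pullback g' hcJ) (isGen_pre g' T'), t2,
      K77.Iso.bt_congr _ (K652.LfRank.pullback i' hcE) (K652.LfRank.pullback (i' ≫ c) hE) e4 e3
      (Groth.Agent.FormalB.PullCoh.isCoh_pullback i' hcJ) hQ.gen]
  · intro σ hσ hη y hy1 hy2
    have hσw : (Spec.map (CommRingCat.ofHom φ) ≫ σ) ≫ f = 𝟙 _ ≫ Spec.map (CommRingCat.ofHom φ) := by
      rw [Category.assoc, hσ, Category.comp_id, Category.id_comp]
    let σ' : Spec (CommRingCat.of R') ⟶ X' := hX.lift _ _ hσw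
    have hσ1 : σ' ≫ c = Spec.map (CommRingCat.ofHom φ) ≫ σ := hX.lift_fst _ _ _
    have hσ2 : σ' ≫ f' = 𝟙 _ := hX.lift_snd _ _ _
    have hy : y ≫ g' = Spec.map (CommRingCat.ofHom ψ') ≫ σ' := by
      apply hX.hom_ext
      · rw [Category.assoc, hy1, Category.assoc, hσ1, CommRingCat.ofHom_comp, Spec.map_comp, Category.assoc]
      · rw [Category.assoc, hY'.w, ← Category.assoc, hy2, Category.id_comp, Category.assoc, hσ2, Category.comp_id]
    have hlocρ : IsLocalHom (CommRingCat.ofHom ρ).hom := IsLocalHom.of_surjective ρ hρ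
    have hlocφ : IsLocalHom (CommRingCat.ofHom φ).hom := inferInstanceAs (IsLocalHom φ)
    have h1 : Spec.map (CommRingCat.ofHom ρ) (closedPoint (IsLocalRing.ResidueField R)) =
        (closedPoint R' : Spec (CommRingCat.of R')) := Spec_closedPoint
    have h2 : f' (σ' (closedPoint R')) = (closedPoint R' : Spec (CommRingCat.of R')) := by
      have : (σ' ≫ f') (closedPoint R') = (closedPoint R' : Spec (CommRingCat.of R')) := by rw [hσ2]; rfl
      exact this
    obtain ⟨z, hz, -⟩ := K77.Total.exists_pt hρsq (σ' (closedPoint R')) (closedPoint (IsLocalRing.ResidueField R))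
      (h2.trans h1.symm)
    refine t4 z (fun η hη1 hη2 => hη η hη1 ?_) _ ?_
    · have h3 : (i' ≫ c) z = σ (closedPoint R) := by
        have h4 : c (i' z) = (σ' ≫ c) (closedPoint R') := by rw [hz]; rfl
        have h5 : Spec.map (CommRingCat.ofHom φ) (closedPoint R') = (closedPoint R : Spec (CommRingCat.of R)) :=
          Spec_closedPoint
        have h6 : (Spec.map (CommRingCat.ofHom φ) ≫ σ) (closedPoint R') = σ (closedPoint R) := by
          rw [← h5]; rfl
        exact h4.trans (by rw [hσ1]; exact h6)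
      rw [← h3]
      exact hη2.map (i' ≫ c).continuous
    · have h3 : g' (y (closedPoint Ω)) = σ' (Spec.map (CommRingCat.ofHom ψ') (closedPoint Ω)) := by
        have h4 : (y ≫ g') (closedPoint Ω) = (Spec.map (CommRingCat.ofHom ψ') ≫ σ') (closedPoint Ω) := by rw [hy]
        exact h4
      rw [h3, hz]
      exact (IsLocalRing.specializes_closedPoint _).map σ'.continuous

/-- **The generic fibre of a decomposing tower.** -/
theorem exists_generic (i : Xs ⟶ X)
    (hsq : IsPullback i (Xs ↘ Spec (CommRingCat.of (IsLocalRing.ResidueField R))) f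
      (Spec.map (CommRingCat.ofHom (IsLocalRing.residue R))))
    [IsReduced Xs]
    (hgi : ∀ (C : Set Xs) (hC : C ∈ irreducibleComponents (Xs : Type u)),
      GeometricallyIntegral (VecSt.subschι Xs C (isClosed_of_mem_irreducibleComponents C hC) ≫
        (Xs ↘ Spec (CommRingCat.of (IsLocalRing.ResidueField R)))))
    (hdim : topologicalKrullDim Xs ≤ 1) {E J : X.Modules} {r : ℕ} (hE : FlatMod.IsFinLocFreeOfRank r E)
    (hJ : Adm f i J) (hJrel : TFOne.IsRelTF1 f J) {T : Set Xs} (h : HasTower R i J T) :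
    ∃ (Ω : Type u) (_ : Field Ω) (_ : IsAlgClosed Ω) (ψ : R →+* Ω) (Y : Scheme.{u})
      (_ : Y.Over (Spec (CommRingCat.of Ω))) (g : Y ⟶ X),
      Function.Injective ψ ∧
      IsPullback g (Y ↘ Spec (CommRingCat.of Ω)) f (Spec.map (CommRingCat.ofHom ψ)) ∧ IsReduced Y ∧
      topologicalKrullDim Y ≤ 1 ∧ ∃ T' : Set Y, (∀ y ∈ T', IsGen y) ∧
        bt Ω ((Scheme.Modules.pullback g).obj E) ((Scheme.Modules.pullback g).obj J) T' =
          be R i E J T ∧
        ((∃ η : Xs, IsGen η ∧ η ∉ T) → ∃ y : Y, IsGen y ∧ y ∉ T') ∧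
        ∀ (σ : Spec (CommRingCat.of R) ⟶ X), σ ≫ f = 𝟙 _ →
          (∀ η : Xs, IsGen η → i η ⤳ σ (closedPoint R) → η ∈ T) →
          ∀ y : Spec (CommRingCat.of Ω) ⟶ Y, y ≫ g = Spec.map (CommRingCat.ofHom ψ) ≫ σ →
            y ≫ (Y ↘ Spec (CommRingCat.of Ω)) = 𝟙 _ → ∃ y' ∈ T', y' ⤳ y (closedPoint Ω) := by
  obtain ⟨R', i1, i2, i3, φ, i4, hφ, hres, hmax, hcpl, hinj⟩ := K22.LimitCpl.exists_completion R
  have hX : IsPullback (pullback.fst f (Spec.map (CommRingCat.ofHom φ)))
    (pullback.snd f (Spec.map (CommRingCat.ofHom φ))) f (Spec.map (CommRingCat.ofHom φ)) :=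
    IsPullback.of_hasPullback _ _
  obtain ⟨i', rfl, hsq'⟩ := exists_square φ hres hsq hX
  exact exists_generic_aux f φ hφ hres hmax hinj hX i' hsq hsq' hgi hdim hE hJ hJrel h

section Contradiction

variable (i : Xs ⟶ X)
  (hsq : IsPullback i (Xs ↘ Spec (CommRingCat.of (IsLocalRing.ResidueField R))) f
    (Spec.map (CommRingCat.ofHom (IsLocalRing.residue R))))
  [IsReduced Xs]
  (hgi : ∀ (C : Set Xs) (hC : C ∈ irreducibleComponents (Xs : Type u)),
    GeometricallyIntegral (VecSt.subschι Xs C (isClosed_of_mem_irreducibleComponents C hC) ≫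
      (Xs ↘ Spec (CommRingCat.of (IsLocalRing.ResidueField R)))))
  (hdim : topologicalKrullDim Xs ≤ 1) {E J : X.Modules} {r : ℕ} (hE : FlatMod.IsFinLocFreeOfRank r E)
  (hJ : Adm f i J) (hJrel : TFOne.IsRelTF1 f J) (h0 : tot R i E J = 0) {T : Set Xs} (h : HasTower R i J T)

include hsq hgi hdim hE hJ hJrel h h0

/-- A tower of negative value contradicts semistability of the geometric generic fibres. -/
theorem nonneg_of_semistable
    (hs : ∀ (Ω : Type u) [Field Ω] [IsAlgClosed Ω] (ψ : R →+* Ω) (Y : Scheme.{u}) (g : Y ⟶ X)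
      (q : Y ⟶ Spec (CommRingCat.of Ω)), Function.Injective ψ → IsPullback g q f (Spec.map (CommRingCat.ofHom ψ)) →
      TFOne.IsSemistable Y Ω q ((Scheme.Modules.pullback g).obj J) ((Scheme.Modules.pullback g).obj E) r) :
    0 ≤ be R i E J T := by
  obtain ⟨Ω, _, _, ψ, Y, _, g, hψ, hY, hred, hdimY, T', h1, h2, -, -⟩ :=
    exists_generic f i hsq hgi hdim hE hJ hJrel h
  have hpY : IsProper (Y ↘ Spec (CommRingCat.of Ω)) := MorphismProperty.of_isPullback hY inferInstance
  have hNY := Groth.Agent.Fga.SnapperTwist.isNoetherian_of_proper Ω Y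
  have hEY := K652.LfRank.pullback g hE
  have hss := hs Ω ψ Y g _ hψ hY
  rw [← h2]
  have h3 := (isSemistable_iff Ω hEY hdimY _).1 hss
  have hcoh := h3.1.1
  have htf := stTF_of_isTF1 h3.1
  by_cases hne : T'.Nonempty
  · by_cases hall : ∃ ξ : Y, IsGen ξ ∧ ξ ∉ T'
    · exact h3.2 T' h1 hne hall
    · push Not at hall
      rw [bt_all Ω hEY hcoh htf h1 hall]
      have h4 : Psi Ω ((Scheme.Modules.pullback g).obj E) ((Scheme.Modules.pullback g).obj J) = tot R i E J :=
        K975.Fam.Psi_eq f hE hJ.coh hJ.flat hY hsq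
      rw [h4, h0]
  · rw [Set.not_nonempty_iff_eq_empty] at hne
    rw [hne, bt_empty Ω hEY hcoh]

/-- A tower of value zero through the component of the section contradicts quasistability of the geometric generic
fibres. -/
theorem pos_of_quasistable {σ : Spec (CommRingCat.of R) ⟶ X} (hσ : σ ≫ f = 𝟙 _)
    (hη : ∀ η : Xs, IsGen η → i η ⤳ σ (closedPoint R) → η ∈ T) (hT : ∃ η : Xs, IsGen η ∧ η ∉ T)
    (hs : ∀ (Ω : Type u) [Field Ω] [IsAlgClosed Ω] (ψ : R →+* Ω) (Y : Scheme.{u}) (g : Y ⟶ X)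
      (q : Y ⟶ Spec (CommRingCat.of Ω)), Function.Injective ψ → IsPullback g q f (Spec.map (CommRingCat.ofHom ψ)) →
      ∀ y : Spec (CommRingCat.of Ω) ⟶ Y, y ≫ g = Spec.map (CommRingCat.ofHom ψ) ≫ σ → y ≫ q = 𝟙 _ →
      TFOne.IsQuasistableAtPt Y Ω q ((Scheme.Modules.pullback g).obj J) ((Scheme.Modules.pullback g).obj E) r
        (y (closedPoint Ω))) :
    0 < be R i E J T := by
  obtain ⟨Ω, _, _, ψ, Y, _, g, hψ, hY, hred, hdimY, T', h1, h2, h3, h4⟩ :=
    exists_generic f i hsq hgi hdim hE hJ hJrel h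
  have hpY : IsProper (Y ↘ Spec (CommRingCat.of Ω)) := MorphismProperty.of_isPullback hY inferInstance
  have hEY := K652.LfRank.pullback g hE
  have hw : (Spec.map (CommRingCat.ofHom ψ) ≫ σ) ≫ f = 𝟙 _ ≫ Spec.map (CommRingCat.ofHom ψ) := by
    rw [Category.assoc, hσ, Category.comp_id, Category.id_comp]
  let y := hY.lift _ _ hw
  have hy1 : y ≫ g = Spec.map (CommRingCat.ofHom ψ) ≫ σ := hY.lift_fst _ _ _
  have hy2 : y ≫ (Y ↘ Spec (CommRingCat.of Ω)) = 𝟙 _ := hY.lift_snd _ _ _
  have hss := (isQuasistableAtPt_iff Ω hEY hdimY _ _).1 (hs Ω ψ Y g _ hψ hY y hy1 hy2)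
  rw [← h2]
  exact hss.2 T' h1 (h3 hT) (h4 σ hσ hη y hy1 hy2)

end Contradiction

end K77.TowerG
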