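import Groth.Agent.ParaF.K588.ThickPush

/-!
# `M → i_* i^* M` is the quotient `M → M / J M`, for any cartesian square over `Spec (A/J) → Spec A`
-/

set_option autoImplicit false
universe u
open CategoryTheory CategoryTheory.Limits AlgebraicGeometry Opposite TopologicalSpace TensorProduct

namespace K77.UnitMod

open Groth.Agent.VarietyB.PullSec Groth.Agent.Fdesc.LocGen Groth.Agent.CurvesA Groth.Agent.CurvesA.FlatH0
  Groth.Agent.FormalB Groth.Agent.FormalB.ModPow Groth.Agent.FormalB.ModPowAff K588.ThickPush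

variable {A : Type u} [CommRing A] {X : Scheme.{u}} [X.Over (Spec (CommRingCat.of A))]

theorem isModPow_unit (J : Ideal A) {Z : Scheme.{u}} (i : Z ⟶ X) (q : Z ⟶ Spec (CommRingCat.of (A ⧸ J)))
    (H : IsPullback i q (X ↘ Spec (CommRingCat.of A)) (Spec.map (CommRingCat.ofHom (Ideal.Quotient.mk J))))
    (M : X.Modules) (hM : Coh.IsQCoh M) :
    IsModPow J ((Scheme.Modules.pullbackPushforwardAdjunction i).unit.app M) := by
  have hclosed : IsClosedImmersion (Spec.map (CommRingCat.ofHom (Ideal.Quotient.mk J))) :=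
    IsClosedImmersion.spec_of_surjective _ Ideal.Quotient.mk_surjective
  have hg : IsClosedImmersion i := MorphismProperty.of_isPullback H.flip hclosed
  have hN : Coh.IsQCoh ((Scheme.Modules.pushforward i).obj
      ((Scheme.Modules.pullback i).obj M)) :=
    Groth.Agent.Ega1.QcqsPush.isQCoh_pushforward _ _ (isQCoh_pullback _ M hM)
  refine Groth.Agent.FormalB.FormalLoc.isModPow_of_cover hM hN _ fun x => ?_
  obtain ⟨_, ⟨U, hU, rfl⟩, hxU, -⟩ :=
    X.isBasis_affineOpens.exists_subset_of_mem_open (Set.mem_univ x) isOpen_univ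
  refine ⟨U, hxU, hU, ?_⟩
  have hbc := isBaseChange_affine (X ↘ Spec (CommRingCat.of A)) q
    (Spec.map (CommRingCat.ofHom (Ideal.Quotient.mk J))) i H M hM hU
    (V := i ⁻¹ᵁ U) rfl
  letI i0 := baseAlg (Spec.map (CommRingCat.ofHom (Ideal.Quotient.mk J)))
  letI i1 := modX (X ↘ Spec (CommRingCat.of A)) M U
  letI i2 := modX q
    ((Scheme.Modules.pullback i).obj M) (i ⁻¹ᵁ U)
  letI i3 := modX' q
    (Spec.map (CommRingCat.ofHom (Ideal.Quotient.mk J)))
    ((Scheme.Modules.pullback i).obj M) (i ⁻¹ᵁ U)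
  haveI i4 := tower' q
    (Spec.map (CommRingCat.ofHom (Ideal.Quotient.mk J)))
    ((Scheme.Modules.pullback i).obj M) (i ⁻¹ᵁ U)
  have hsec : ∀ m : Γ(M, U), ((Scheme.Modules.pullbackPushforwardAdjunction i).unit.app M).app U m =
      sec i M (le_refl (i ⁻¹ᵁ U)) m := fun m =>
    (res_refl ((Scheme.Modules.pullback i).obj M)
      (((Scheme.Modules.pullbackPushforwardAdjunction i).unit.app M).app U m)).symm
  have hsurj : Function.Surjective (algebraMap Γ(Spec (CommRingCat.of A), ⊤)
      Γ(Spec (CommRingCat.of (A ⧸ J)), ⊤)) := by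
    intro b
    obtain ⟨c, rfl⟩ := (ConcreteCategory.bijective_of_isIso
      (Scheme.ΓSpecIso (CommRingCat.of (A ⧸ J))).inv).2 b
    obtain ⟨a, rfl⟩ := Ideal.Quotient.mk_surjective c
    refine ⟨(Scheme.ΓSpecIso (CommRingCat.of A)).inv a, ?_⟩
    have := Scheme.ΓSpecIso_inv_naturality (CommRingCat.ofHom (Ideal.Quotient.mk J))
    exact congr($this a).symm
  have hker : ∀ b : Γ(Spec (CommRingCat.of A), ⊤),
      b ∈ RingHom.ker (algebraMap Γ(Spec (CommRingCat.of A), ⊤) Γ(Spec (CommRingCat.of (A ⧸ J)), ⊤)) ↔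
      ∃ a ∈ J, b = (Scheme.ΓSpecIso (CommRingCat.of A)).inv a := by
    intro b
    obtain ⟨a, rfl⟩ := (ConcreteCategory.bijective_of_isIso
      (Scheme.ΓSpecIso (CommRingCat.of A)).inv).2 b
    have h1 : algebraMap Γ(Spec (CommRingCat.of A), ⊤) Γ(Spec (CommRingCat.of (A ⧸ J)), ⊤)
        ((Scheme.ΓSpecIso (CommRingCat.of A)).inv a) =
        (Scheme.ΓSpecIso (CommRingCat.of (A ⧸ J))).inv (Ideal.Quotient.mk J a) := by
      have := Scheme.ΓSpecIso_inv_naturality (CommRingCat.ofHom (Ideal.Quotient.mk J))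
      exact congr($this a).symm
    rw [RingHom.mem_ker, h1]
    have hinj := (ConcreteCategory.bijective_of_isIso
      (Scheme.ΓSpecIso (CommRingCat.of (A ⧸ J))).inv).1
    have hinj' := (ConcreteCategory.bijective_of_isIso
      (Scheme.ΓSpecIso (CommRingCat.of A)).inv).1
    constructor
    · intro h
      have h2 : Ideal.Quotient.mk J a = 0 := hinj (by rw [h, map_zero])
      exact ⟨a, Ideal.Quotient.eq_zero_iff_mem.mp h2, rfl⟩
    · rintro ⟨a', ha', h⟩
      have h2 := hinj' h
      subst h2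
      rw [Ideal.Quotient.eq_zero_iff_mem.mpr ha', map_zero]
  have htoΓ : ∀ (a : A), ((X ↘ Spec (CommRingCat.of A)).appLE ⊤ U (le_pt _ U)
      ((Scheme.ΓSpecIso (CommRingCat.of A)).inv a) : Γ(X, U)) = toΓ A X U a := by
    intro a
    rfl
  refine ⟨?_, fun m => ?_⟩
  · intro n
    obtain ⟨m, hm⟩ := surjective_of_isBaseChange hsurj _ hbc n
    exact ⟨m, (hsec m).trans hm⟩
  · rw [hsec]
    constructor
    · intro hm
      have h1 := mem_smul_top_of_isBaseChange hsurj _ hbc m hm
      refine Submodule.smul_induction_on h1 ?_ ?_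
      · intro b hb n _
        obtain ⟨a, ha, rfl⟩ := (hker b).mp hb
        have h2 : ((Scheme.ΓSpecIso (CommRingCat.of A)).inv a : Γ(Spec (CommRingCat.of A), ⊤)) • n =
            toΓ A X U a • n := by
          rw [← htoΓ]; rfl
        rw [h2]
        exact Submodule.smul_mem_smul (Ideal.mem_map_of_mem _ ha) trivial
      · intro x y hx hy
        exact add_mem hx hy
    · intro hm
      refine Submodule.smul_induction_on hm ?_ ?_
      · intro b hb n _
        refine Submodule.span_induction (p := fun b _ => sec i M (le_refl (i ⁻¹ᵁ U)) (b • n) = 0)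
          ?_ ?_ ?_ ?_ hb
        · rintro _ ⟨a, ha, rfl⟩
          rw [← htoΓ]
          have h3 := sec_base_smul (X ↘ Spec (CommRingCat.of A)) q
            (Spec.map (CommRingCat.ofHom (Ideal.Quotient.mk J))) i H.w M
            (le_refl (i ⁻¹ᵁ U)) ((Scheme.ΓSpecIso (CommRingCat.of A)).inv a) n
          rw [h3]
          have h4 := (hker ((Scheme.ΓSpecIso (CommRingCat.of A)).inv a)).mpr ⟨a, ha, rfl⟩
          have h5 : (Spec.map (CommRingCat.ofHom (Ideal.Quotient.mk J))).appTop
            ((Scheme.ΓSpecIso (CommRingCat.of A)).inv a) = 0 := h4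
          rw [h5, map_zero, zero_smul]
        · rw [zero_smul, map_zero]
        · intro b b' _ _ hb hb'
          rw [add_smul, map_add, hb, hb', add_zero]
        · intro c b _ hb
          rw [smul_eq_mul, mul_smul, sec_smul, hb, smul_zero]
      · intro x y hx hy
        rw [map_add, hx, hy]
        exact add_zero _

end K77.UnitMod
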